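import Mathlib
import Cfsg.Prelude.Def_ParabolicCharacters
import Cfsg.Agent.CharBasic.Complete

/-!
Permutation characters are characters; a norm one integral combination of characters of positive degree is irreducible.
-/

set_option autoImplicit false

namespace Cfsg.Agent.H54

open Finset
open scoped ComplexConjugate

variable {G : Type*} [Group G] [Finite G]

theorem isCharacter_fixedPointCharacter (H : Subgroup G) :
    Cfsg.IsCharacter G (Cfsg.fixedPointCharacter H) := by
  classical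
  haveI : Fintype (G ⧸ H) := Fintype.ofFinite _
  have : (Representation.ofMulAction ℂ G (G ⧸ H)).character = Cfsg.fixedPointCharacter H := by
    funext g
    rw [Representation.character, LinearMap.trace_eq_matrix_trace ℂ (MonoidAlgebra.basis (G ⧸ H) ℂ),
      Cfsg.fixedPointCharacter, Nat.card_eq_fintype_card]
    simp only [Matrix.trace, Matrix.diag, LinearMap.toMatrix_apply]
    rw [Fintype.card_subtype, natCast_card_filter]
    refine sum_congr rfl (fun x _ => ?_)
    by_cases h : g • x = x <;>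
      simp [MonoidAlgebra.basis, MonoidAlgebra.coeff_single, Finsupp.single_apply, MulAction.fixedBy, h]
  exact this ▸ CharBasic.isCharacter_character _

omit [Finite G] in
theorem isIrr_of_norm_one [Fintype G] {ι : Type*} (s : Finset ι) (c : ι → ℤ) (χ : ι → G → ℂ)
    (hχ : ∀ i ∈ s, Cfsg.IsCharacter G (χ i)) {f : G → ℂ} (hf : f = ∑ i ∈ s, (c i : ℂ) • χ i)
    (hnorm : Cfsg.classInner f f = 1) {d : ℕ} (hdeg : f 1 = d) (hd : 0 < d) :
    Cfsg.IsIrrCharacter G f := by
  classical
  have hcl : Cfsg.IsClassFunction G f := by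
    intro g h
    simp only [hf, Finset.sum_apply, Pi.smul_apply]
    exact sum_congr rfl (fun i hi => by rw [CharBasic.IsChar.isClassFunction (hχ i hi) g h])
  have hint : ∀ ψ : Cfsg.IrrCharacter G, ∃ m : ℤ, Cfsg.classInner f (ψ : G → ℂ) = m := by
    intro ψ
    rw [hf, CharBasic.classInner_sum_left]
    refine Finset.sum_induction _ (fun z => ∃ m : ℤ, z = (m : ℂ)) ?_ ⟨0, by simp⟩ (fun i hi => ?_)
    · rintro a b ⟨x, rfl⟩ ⟨y, rfl⟩
      exact ⟨x + y, by push_cast; rfl⟩
    · obtain ⟨k, hk⟩ := CharBasic.classInner_isChar_nat (hχ i hi) (CharBasic.IsIrr.isCharacter ψ.2)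
      exact ⟨c i * k, by rw [CharBasic.classInner_smul_left, hk]; push_cast; rfl⟩
  choose m hm using hint
  have hsum : ∑ ψ, m ψ * m ψ = 1 := by
    have h1 := CharBasic.classInner_eq_sum (ψ := f) hcl
    simp only [hm, map_intCast, hnorm] at h1
    exact_mod_cast h1.symm
  have hex : ∃ ψ, m ψ ≠ 0 := by
    by_contra h
    push Not at h
    simp [h] at hsum
  obtain ⟨ψ, hψ⟩ := hex
  have hsplit := add_sum_erase univ (fun φ => m φ * m φ) (mem_univ ψ)
  have hrest : ∑ φ ∈ univ.erase ψ, m φ * m φ = 0 := by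
    have h2 : 1 ≤ m ψ * m ψ := by
      have : 0 < m ψ * m ψ := mul_self_pos.2 hψ
      omega
    have h3 : 0 ≤ ∑ φ ∈ univ.erase ψ, m φ * m φ := sum_nonneg (fun φ _ => mul_self_nonneg _)
    omega
  have hz : ∀ φ, φ ≠ ψ → m φ = 0 := fun φ hφ =>
    mul_self_eq_zero.1 ((sum_eq_zero_iff_of_nonneg (fun φ _ => mul_self_nonneg (m φ))).1 hrest φ
      (mem_erase.2 ⟨hφ, mem_univ _⟩))
  have hone : m ψ * m ψ = 1 := by omega
  have hfψ : f = (m ψ : ℂ) • (ψ : G → ℂ) := by
    conv_lhs => rw [CharBasic.classFunction_expansion hcl]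
    rw [sum_eq_single ψ (fun φ _ hφ => by rw [hm, hz φ hφ, Int.cast_zero, zero_smul])
      (fun h => absurd (mem_univ _) h), hm]
  obtain ⟨k, hk, hψ1⟩ := CharBasic.IsIrr.exists_degree ψ.2
  have h4 : (d : ℤ) = m ψ * k := by
    have : (d : ℂ) = (m ψ : ℂ) * (k : ℂ) := by rw [← hdeg, hfψ, Pi.smul_apply, smul_eq_mul, hψ1]
    exact_mod_cast this
  rcases Int.eq_one_or_neg_one_of_mul_eq_one hone with h5 | h5
  · rw [hfψ, h5, Int.cast_one, one_smul]; exact ψ.2
  · rw [h5] at h4; omega

end Cfsg.Agent.H54
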