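import Mathlib

/-!
Operators of finite order prime to the characteristic are classified up to conjugacy by their characteristic
polynomials; their centralisers have all determinants.
-/

set_option autoImplicit false

namespace Cfsg.Agent.H54

open Polynomial Module

universe u v

variable {F : Type u} [Field F]

section cyclic

variable {V : Type v} [AddCommGroup V] [Module F V] (T : Module.End F V) (v : V)

/-- `g ↦ g(T) v`. -/
noncomputable def evalAt : F[X] →ₗ[F] V := (LinearMap.applyₗ v).comp (Polynomial.aeval T).toLinearMap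

lemma evalAt_apply (g : F[X]) : evalAt T v g = Polynomial.aeval T g v := rfl

lemma evalAt_X_mul (g : F[X]) : evalAt T v (X * g) = T (evalAt T v g) := by
  simp [evalAt_apply]

variable {T v}

lemma ker_evalAt {f : F[X]} (hf : Irreducible f) (hv : v ≠ 0) (hfv : Polynomial.aeval T f v = 0) :
    (evalAt T v).ker = ((AdjoinRoot.mkₐ f).restrictScalars F).toLinearMap.ker := by
  ext g
  simp only [LinearMap.mem_ker, evalAt_apply, AlgHom.toLinearMap_apply, AlgHom.coe_restrictScalars',
    AdjoinRoot.coe_mkₐ, AdjoinRoot.mk_eq_zero]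
  constructor
  · intro hg
    by_contra hdvd
    obtain ⟨a, b, hab⟩ := (hf.coprime_iff_not_dvd).2 hdvd
    have := congrArg (fun p => Polynomial.aeval T p v) hab
    simp only [map_add, map_mul, map_one, LinearMap.add_apply, Module.End.mul_apply, hg, hfv, map_zero,
      add_zero, Module.End.one_apply] at this
    exact hv this.symm
  · rintro ⟨c, rfl⟩
    rw [mul_comm, map_mul, Module.End.mul_apply, hfv, map_zero]

/-- The cyclic subspace of a vector killed by the irreducible polynomial `f` is the field `F[X]/(f)`. -/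
noncomputable def cyclicEquiv {f : F[X]} (hf : Irreducible f) (hv : v ≠ 0) (hfv : Polynomial.aeval T f v = 0) :
    AdjoinRoot f ≃ₗ[F] (evalAt T v).range :=
  (((AdjoinRoot.mkₐ f).restrictScalars F).toLinearMap.quotKerEquivOfSurjective AdjoinRoot.mk_surjective).symm ≪≫ₗ
    Submodule.quotEquivOfEq _ _ (ker_evalAt hf hv hfv).symm ≪≫ₗ (evalAt T v).quotKerEquivRange

lemma cyclicEquiv_mk {f : F[X]} (hf : Irreducible f) (hv : v ≠ 0) (hfv : Polynomial.aeval T f v = 0) (g : F[X]) :
    (cyclicEquiv hf hv hfv (AdjoinRoot.mk f g) : V) = evalAt T v g := by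
  have h : (((AdjoinRoot.mkₐ f).restrictScalars F).toLinearMap.quotKerEquivOfSurjective
      AdjoinRoot.mk_surjective).symm (AdjoinRoot.mk f g) = Submodule.Quotient.mk g := by
    rw [LinearEquiv.symm_apply_eq]; rfl
  simp only [cyclicEquiv, LinearEquiv.trans_apply, h, Submodule.quotEquivOfEq_mk]
  rfl

lemma range_evalAt_invariant : (evalAt T v).range ≤ (evalAt T v).range.comap T := by
  rintro _ ⟨g, rfl⟩
  exact ⟨X * g, evalAt_X_mul T v g⟩

lemma cyclicEquiv_root_mul {f : F[X]} (hf : Irreducible f) (hv : v ≠ 0) (hfv : Polynomial.aeval T f v = 0)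
    (x : AdjoinRoot f) :
    (cyclicEquiv hf hv hfv (AdjoinRoot.root f * x) : V) = T (cyclicEquiv hf hv hfv x : V) := by
  obtain ⟨g, rfl⟩ := AdjoinRoot.mk_surjective x
  rw [← AdjoinRoot.mk_X, ← map_mul, cyclicEquiv_mk, cyclicEquiv_mk, evalAt_X_mul]

end cyclic

section split

variable {V : Type v} [AddCommGroup V] [Module F V] [FiniteDimensional F V] {T : Module.End F V}
  {W U : Submodule F V}

lemma charpoly_eq_of_isCompl (hW : W ≤ W.comap T) (hU : U ≤ U.comap T) (h : IsCompl W U) :
    T.charpoly = (T.restrict hW).charpoly * (T.restrict hU).charpoly := by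
  rw [← LinearMap.charpoly_prodMap, ← LinearEquiv.charpoly_conj (W.prodEquivOfIsCompl U h)]
  congr 1
  refine LinearMap.ext fun x => ?_
  obtain ⟨⟨a, b⟩, rfl⟩ := (W.prodEquivOfIsCompl U h).surjective x
  rw [LinearEquiv.conj_apply_apply, LinearEquiv.symm_apply_apply]
  simp [Submodule.coe_prodEquivOfIsCompl']

end split

lemma restrict_pow_eq_one {V : Type v} [AddCommGroup V] [Module F V] {T : Module.End F V} {W : Submodule F V}
    (hW : W ≤ W.comap T) {N : ℕ} (h : T ^ N = 1) : (T.restrict hW) ^ N = 1 := by
  refine LinearMap.ext fun x => Subtype.ext ?_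
  rw [Module.End.pow_restrict N]
  simp [h]

lemma isSemisimple_of_pow_eq_one {V : Type v} [AddCommGroup V] [Module F V] (T : Module.End F V) {N : ℕ}
    (hN : (N : F) ≠ 0) (h : T ^ N = 1) : T.IsSemisimple := by
  refine Module.End.isSemisimple_of_squarefree_aeval_eq_zero (p := X ^ N - 1) ?_ (by simp [h])
  exact (Polynomial.separable_X_pow_sub_C (1 : F) hN one_ne_zero).squarefree

lemma exists_ne_zero_aeval_eq_zero {V : Type v} [AddCommGroup V] [Module F V] [FiniteDimensional F V]
    (T : Module.End F V) {f : F[X]} (hf : Irreducible f) (hdvd : f ∣ T.charpoly) :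
    ∃ v : V, v ≠ 0 ∧ Polynomial.aeval T f v = 0 := by
  classical
  obtain ⟨a, ha⟩ := IsAlgClosed.exists_aeval_eq_zero (AlgebraicClosure F) f (degree_pos_of_irreducible hf).ne'
  let b := Module.finBasis F V
  let M := LinearMap.toMatrixAlgEquiv b T
  let ι := (Algebra.ofId F (AlgebraicClosure F)).mapMatrix (m := Fin (Module.finrank F V))
  have hca : Polynomial.aeval a M.charpoly = 0 := by
    obtain ⟨c, hc⟩ := hdvd
    rw [show M.charpoly = T.charpoly from LinearMap.charpoly_toMatrix T b, hc, map_mul, ha, zero_mul]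
  have hsing : ((ι M) - algebraMap (AlgebraicClosure F) _ a).det = 0 := by
    have h1 : (ι M).charpoly.eval a = 0 := by
      show (M.map (algebraMap F (AlgebraicClosure F))).charpoly.eval a = 0
      rw [Matrix.charpoly_map, Polynomial.eval_map]; exact hca
    rw [Matrix.eval_charpoly] at h1
    rw [← neg_sub, Matrix.det_neg]
    rw [show algebraMap (AlgebraicClosure F) (Matrix (Fin (Module.finrank F V)) (Fin (Module.finrank F V))
      (AlgebraicClosure F)) a = Matrix.scalar _ a from rfl, h1, mul_zero]
  have hdiv : Polynomial.X - Polynomial.C a ∣ f.map (algebraMap F (AlgebraicClosure F)) := by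
    rw [Polynomial.dvd_iff_isRoot, Polynomial.IsRoot, Polynomial.eval_map]; exact ha
  have hdet : (Polynomial.aeval M f).det = 0 := by
    apply (algebraMap F (AlgebraicClosure F)).injective
    rw [map_zero, RingHom.map_det]
    show (ι (Polynomial.aeval M f)).det = 0
    rw [← Polynomial.aeval_algHom_apply, ← Polynomial.aeval_map_algebraMap (AlgebraicClosure F)]
    obtain ⟨g, hg⟩ := hdiv
    rw [hg, map_mul, map_sub, Polynomial.aeval_X, Polynomial.aeval_C, Matrix.det_mul, hsing, zero_mul]
  rw [Polynomial.aeval_algHom_apply] at hdet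
  have hdet' : LinearMap.det (Polynomial.aeval T f) = 0 := by
    rw [← LinearMap.det_toMatrix b]; exact hdet
  obtain ⟨v, hv, hv0⟩ := (Submodule.ne_bot_iff _).1 (bot_lt_iff_ne_bot.1 (LinearMap.bot_lt_ker_of_det_eq_zero hdet'))
  exact ⟨v, hv0, hv⟩

/-- Operators of order prime to the characteristic with equal characteristic polynomials are conjugate. -/
theorem conj_of_charpoly {N : ℕ} (hN : (N : F) ≠ 0) :
    ∀ (d : ℕ) (V W : Type v) [AddCommGroup V] [Module F V] [FiniteDimensional F V] [AddCommGroup W] [Module F W]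
      [FiniteDimensional F W] (T : Module.End F V) (S : Module.End F W),
      finrank F V = d → T ^ N = 1 → S ^ N = 1 → T.charpoly = S.charpoly →
      ∃ e : V ≃ₗ[F] W, ∀ x, e (T x) = S (e x) := by
  intro d
  induction d using Nat.strong_induction_on with
  | _ d ih =>
    intro V W _ _ _ _ _ _ T S hd hT hS hTS
    rcases Nat.eq_zero_or_pos d with hd0 | hd0
    · have hW : finrank F W = 0 := by rw [← S.charpoly_natDegree, ← hTS, T.charpoly_natDegree, hd, hd0]
      haveI : Subsingleton V := Module.finrank_zero_iff.1 (hd.trans hd0)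
      haveI : Subsingleton W := Module.finrank_zero_iff.1 hW
      exact ⟨LinearEquiv.ofSubsingleton V W, fun x => Subsingleton.elim _ _⟩
    obtain ⟨f, hf, hfd⟩ : ∃ f : F[X], Irreducible f ∧ f ∣ T.charpoly := by
      refine WfDvdMonoid.exists_irreducible_factor ?_ T.charpoly_monic.ne_zero
      intro hu
      have := Polynomial.natDegree_eq_zero_of_isUnit hu
      rw [T.charpoly_natDegree] at this
      omega
    obtain ⟨v, hv, hfv⟩ := exists_ne_zero_aeval_eq_zero T hf hfd
    obtain ⟨w, hw, hfw⟩ := exists_ne_zero_aeval_eq_zero S hf (hTS ▸ hfd)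
    obtain ⟨U, hU, hUc⟩ := Module.End.isSemisimple_iff.1 (isSemisimple_of_pow_eq_one T hN hT)
      (evalAt T v).range range_evalAt_invariant
    obtain ⟨U', hU', hUc'⟩ := Module.End.isSemisimple_iff.1 (isSemisimple_of_pow_eq_one S hN hS)
      (evalAt S w).range range_evalAt_invariant
    replace hU : U ≤ U.comap T := hU
    replace hU' : U' ≤ U'.comap S := hU'
    let e1 := (cyclicEquiv hf hv hfv).symm ≪≫ₗ cyclicEquiv hf hw hfw
    have he1 : ∀ x, e1 (T.restrict (range_evalAt_invariant (T := T) (v := v)) x) = S.restrict (range_evalAt_invariant (T := S) (v := w)) (e1 x) := by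
      intro x
      obtain ⟨y, rfl⟩ := (cyclicEquiv hf hv hfv).surjective x
      have h1 : T.restrict range_evalAt_invariant (cyclicEquiv hf hv hfv y) =
          cyclicEquiv hf hv hfv (AdjoinRoot.root f * y) :=
        Subtype.ext (cyclicEquiv_root_mul hf hv hfv y).symm
      rw [h1]
      simp only [e1, LinearEquiv.trans_apply, LinearEquiv.symm_apply_apply]
      exact Subtype.ext (cyclicEquiv_root_mul hf hw hfw y)
    have hc1 : (T.restrict (range_evalAt_invariant (T := T) (v := v))).charpoly =
        (S.restrict (range_evalAt_invariant (T := S) (v := w))).charpoly := by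
      rw [← LinearEquiv.charpoly_conj e1 (T.restrict range_evalAt_invariant)]
      congr 1
      refine LinearMap.ext fun x => ?_
      rw [LinearEquiv.conj_apply_apply, he1, LinearEquiv.apply_symm_apply]
    have hc2 : (T.restrict hU).charpoly = (S.restrict hU').charpoly := by
      have h := hTS
      rw [charpoly_eq_of_isCompl range_evalAt_invariant hU hUc, charpoly_eq_of_isCompl range_evalAt_invariant hU' hUc',
        hc1] at h
      exact mul_left_cancel₀ (LinearMap.charpoly_monic _).ne_zero h
    have hlt : finrank F U < d := by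
      have h1 := Submodule.finrank_add_eq_of_isCompl hUc
      have h2 : 0 < finrank F (evalAt T v).range := by
        rw [Module.finrank_pos_iff_exists_ne_zero]
        exact ⟨⟨v, 1, by simp [evalAt_apply]⟩, fun h => hv (congrArg Subtype.val h)⟩
      omega
    obtain ⟨e2, he2⟩ := ih _ hlt U U' (T.restrict hU) (S.restrict hU') rfl (restrict_pow_eq_one hU hT)
      (restrict_pow_eq_one hU' hS) hc2
    refine ⟨(Submodule.prodEquivOfIsCompl _ _ hUc).symm ≪≫ₗ (e1.prodCongr e2) ≪≫ₗ Submodule.prodEquivOfIsCompl _ _ hUc',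
      fun x => ?_⟩
    obtain ⟨⟨a, b⟩, rfl⟩ := (Submodule.prodEquivOfIsCompl _ _ hUc).surjective x
    have hTx : T (Submodule.prodEquivOfIsCompl _ _ hUc (a, b)) =
        Submodule.prodEquivOfIsCompl _ _ hUc (T.restrict range_evalAt_invariant a, T.restrict hU b) := by
      simp only [Submodule.coe_prodEquivOfIsCompl', map_add, LinearMap.coe_restrict_apply]
    rw [hTx]
    simp only [LinearEquiv.trans_apply, LinearEquiv.symm_apply_apply, LinearEquiv.prodCongr_apply]
    simp only [Submodule.coe_prodEquivOfIsCompl', map_add]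
    have h1 := congrArg Subtype.val (he1 a)
    have h2 := congrArg Subtype.val (he2 b)
    simp only [LinearMap.coe_restrict_apply] at h1 h2
    rw [h1, h2]

/-- The centraliser of such an operator has every determinant, if the space is not zero. -/
theorem exists_commute_det [Finite F] {N : ℕ} (hN : (N : F) ≠ 0) {V : Type v} [AddCommGroup V] [Module F V]
    [FiniteDimensional F V] [Nontrivial V] (T : Module.End F V) (hT : T ^ N = 1) (a : F) :
    ∃ c : Module.End F V, Commute c T ∧ LinearMap.det c = a := by
  obtain ⟨f, hf, hfd⟩ : ∃ f : F[X], Irreducible f ∧ f ∣ T.charpoly := by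
    refine WfDvdMonoid.exists_irreducible_factor ?_ T.charpoly_monic.ne_zero
    intro hu
    have h := Polynomial.natDegree_eq_zero_of_isUnit hu
    rw [T.charpoly_natDegree] at h
    exact absurd h (Module.finrank_pos (R := F) (M := V)).ne'
  obtain ⟨v, hv, hfv⟩ := exists_ne_zero_aeval_eq_zero T hf hfd
  obtain ⟨U, hU, hUc⟩ := Module.End.isSemisimple_iff.1 (isSemisimple_of_pow_eq_one T hN hT)
    (evalAt T v).range range_evalAt_invariant
  replace hU : U ≤ U.comap T := hU
  haveI : Fact (Irreducible f) := ⟨hf⟩
  haveI : Module.Finite F (AdjoinRoot f) := (AdjoinRoot.powerBasis hf.ne_zero).finite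
  haveI : Finite (AdjoinRoot f) := Module.finite_of_finite F
  obtain ⟨k, hk⟩ := FiniteField.norm_surjective F (AdjoinRoot f) a
  let eq1 := cyclicEquiv hf hv hfv
  let c1 : Module.End F (evalAt T v).range := eq1.conj (Algebra.lmul F (AdjoinRoot f) k)
  let e := Submodule.prodEquivOfIsCompl _ _ hUc
  refine ⟨e.conj (c1.prodMap LinearMap.id), ?_, ?_⟩
  · refine LinearMap.ext fun x => ?_
    obtain ⟨⟨x1, x2⟩, rfl⟩ := e.surjective x
    obtain ⟨y, rfl⟩ := eq1.surjective x1
    have hTx : ∀ p q, T (e (p, q)) = e (T.restrict range_evalAt_invariant p, T.restrict hU q) := by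
      intro p q
      simp only [e, Submodule.coe_prodEquivOfIsCompl', map_add, LinearMap.coe_restrict_apply]
    have h1 : ∀ z, T.restrict range_evalAt_invariant (eq1 z) = eq1 (AdjoinRoot.root f * z) := fun z =>
      Subtype.ext (cyclicEquiv_root_mul hf hv hfv z).symm
    simp only [Module.End.mul_apply, LinearEquiv.conj_apply_apply, hTx, LinearEquiv.symm_apply_apply,
      LinearMap.prodMap_apply, LinearMap.id_coe, id_eq, c1, h1, Algebra.coe_lmul_eq_mul, LinearMap.mul_apply']
    rw [mul_left_comm]
  · rw [LinearEquiv.conj_apply, LinearMap.comp_assoc, LinearMap.det_conj, LinearMap.det_prodMap, LinearMap.det_id,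
      mul_one, show c1 = (eq1.toLinearMap.comp ((Algebra.lmul F (AdjoinRoot f) k).comp eq1.symm.toLinearMap)) from rfl,
      LinearMap.det_conj, ← hk, Algebra.norm_apply]

end Cfsg.Agent.H54
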