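import Mathlib
import Cfsg.Agent.H54.Semisimple

/-!
The classes of elements of order prime to the characteristic in GL_n and SL_n over a finite field.
-/

set_option autoImplicit false

namespace Cfsg.Agent.H54

open Polynomial Module
open scoped MatrixGroups

section charpoly

variable {F : Type*} [Field F] {ι : Type*} [Fintype ι] [DecidableEq ι]

lemma det_one_sub_of_isNilpotent {M : Matrix ι ι F} (h : IsNilpotent M) : (1 - M).det = 1 := by
  have h1 := Matrix.isNilpotent_charpoly_sub_pow_of_isNilpotent h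
  rw [isNilpotent_iff_eq_zero, sub_eq_zero] at h1
  have h2 := congrArg (Polynomial.eval 1) h1
  rw [Matrix.eval_charpoly] at h2
  simpa using h2

/-- Adding a commuting nilpotent matrix does not change the characteristic polynomial. -/
lemma charpoly_add_nilpotent {A N : Matrix ι ι F} (hc : Commute A N) (hN : IsNilpotent N) :
    (A + N).charpoly = A.charpoly := by
  let K := RatFunc F
  let φ : Matrix ι ι F[X] →+* Matrix ι ι K := (algebraMap F[X] K).mapMatrix
  let B := φ (Matrix.charmatrix A)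
  let N' := φ ((Polynomial.C : F →+* F[X]).mapMatrix N)
  have hdet : IsUnit B := by
    rw [Matrix.isUnit_iff_isUnit_det]
    show IsUnit ((algebraMap F[X] K).mapMatrix (Matrix.charmatrix A)).det
    rw [← RingHom.map_det, isUnit_iff_ne_zero]
    exact fun h => A.charpoly_monic.ne_zero ((IsFractionRing.injective F[X] K) (by rw [map_zero]; exact h))
  have hcomm : Commute B N' := by
    refine Commute.map ?_ φ
    unfold Matrix.charmatrix
    refine Commute.sub_left ?_ (hc.map _)
    exact Matrix.scalar_commute _ (fun r => Commute.all _ _) _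
  have hnil : IsNilpotent ((↑hdet.unit⁻¹ : Matrix ι ι K) * N') := by
    refine Commute.isNilpotent_mul_left ?_ ((hN.map (Polynomial.C : F →+* F[X]).mapMatrix).map φ)
    exact Commute.units_inv_left (u := hdet.unit) hcomm
  have hkey : φ (Matrix.charmatrix (A + N)) = B * (1 - (↑hdet.unit⁻¹ : Matrix ι ι K) * N') := by
    have hB : B * (↑hdet.unit⁻¹ : Matrix ι ι K) = 1 := hdet.mul_val_inv
    rw [mul_sub, mul_one, ← mul_assoc, hB, one_mul, ← map_sub]
    congr 1
    simp only [Matrix.charmatrix, map_add]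
    abel
  apply IsFractionRing.injective F[X] K
  have h1 := congrArg Matrix.det hkey
  rw [Matrix.det_mul, det_one_sub_of_isNilpotent hnil, mul_one] at h1
  show algebraMap F[X] K (Matrix.charmatrix (A + N)).det = algebraMap F[X] K (Matrix.charmatrix A).det
  rw [RingHom.map_det, RingHom.map_det]
  exact h1

end charpoly

variable {F : Type*} [Field F] [Finite F] (p : ℕ) [Fact p.Prime] [CharP F p] {n : ℕ}

omit [Finite F] in
lemma natCast_ne_zero_of_coprime {m : ℕ} (h : m.Coprime p) : (m : F) ≠ 0 := by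
  rw [Ne, CharP.cast_eq_zero_iff F p]
  intro hd
  exact (Fact.out : p.Prime).not_dvd_one (h ▸ Nat.dvd_gcd hd dvd_rfl)

/-- Two invertible matrices of order prime to `p` with equal characteristic polynomials are conjugate,
by a matrix of any non-zero determinant. -/
theorem exists_conj_det {g h : GL (Fin n) F} (hg : (orderOf g).Coprime p) (hh : (orderOf h).Coprime p)
    (hc : (g : Matrix (Fin n) (Fin n) F).charpoly = (h : Matrix (Fin n) (Fin n) F).charpoly) (a : Fˣ) :
    ∃ c : GL (Fin n) F, c * g = h * c ∧ (0 < n → (c : Matrix (Fin n) (Fin n) F).det = a) := by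
  classical
  set N := orderOf g * orderOf h with hNdef
  have hN : (N : F) ≠ 0 := natCast_ne_zero_of_coprime p (Nat.Coprime.mul_left hg hh)
  let φ : GL (Fin n) F →* Module.End F (Fin n → F) :=
    (Matrix.toLinAlgEquiv' (R := F) (n := Fin n)).toAlgHom.toRingHom.toMonoidHom.comp (Units.coeHom _)
  have hpow : ∀ x : GL (Fin n) F, x ^ N = 1 → φ x ^ N = 1 := fun x hx => by rw [← map_pow, hx, map_one]
  have hT := hpow g (orderOf_dvd_iff_pow_eq_one.1 (Dvd.intro _ rfl))
  have hS := hpow h (orderOf_dvd_iff_pow_eq_one.1 (Dvd.intro_left _ rfl))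
  have hcp : (φ g).charpoly = (φ h).charpoly := by
    show (Matrix.toLin' (g : Matrix (Fin n) (Fin n) F)).charpoly = (Matrix.toLin' (h : Matrix (Fin n) (Fin n) F)).charpoly
    rw [Matrix.charpoly_toLin', Matrix.charpoly_toLin', hc]
  obtain ⟨e, he⟩ := conj_of_charpoly hN n _ _ (φ g) (φ h) (Module.finrank_fin_fun F) hT hS hcp
  let P : Matrix (Fin n) (Fin n) F := LinearMap.toMatrix' e.toLinearMap
  have hPdet : IsUnit P := by
    rw [Matrix.isUnit_iff_isUnit_det, LinearMap.det_toMatrix']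
    exact e.isUnit_det'
  have hPconj : hPdet.unit * g = h * hPdet.unit := by
    apply Units.ext
    apply Matrix.toLin'.injective
    rw [Units.val_mul, Units.val_mul, IsUnit.unit_spec, Matrix.toLin'_mul, Matrix.toLin'_mul, Matrix.toLin'_toMatrix']
    exact LinearMap.ext he
  rcases Nat.eq_zero_or_pos n with hn | hn
  · exact ⟨hPdet.unit, hPconj, fun h' => absurd hn h'.ne'⟩
  haveI : Nontrivial (Fin n → F) := by
    haveI : Nonempty (Fin n) := ⟨⟨0, hn⟩⟩
    infer_instance
  obtain ⟨C, hC, hCdet⟩ := exists_commute_det hN (φ g) hT ((a : F) / P.det)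
  have hP0 : P.det ≠ 0 := ((Matrix.isUnit_iff_isUnit_det _).1 hPdet).ne_zero
  have hCu : IsUnit (LinearMap.toMatrix' C) := by
    rw [Matrix.isUnit_iff_isUnit_det, LinearMap.det_toMatrix', hCdet, isUnit_iff_ne_zero]
    exact div_ne_zero a.ne_zero hP0
  have hCconj : hCu.unit * g = g * hCu.unit := by
    apply Units.ext
    apply Matrix.toLin'.injective
    rw [Units.val_mul, Units.val_mul, IsUnit.unit_spec, Matrix.toLin'_mul, Matrix.toLin'_mul, Matrix.toLin'_toMatrix']
    exact hC
  refine ⟨hPdet.unit * hCu.unit, ?_, fun _ => ?_⟩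
  · rw [mul_assoc, hCconj, ← mul_assoc, hPconj, mul_assoc]
  · rw [Units.val_mul, IsUnit.unit_spec, IsUnit.unit_spec, Matrix.det_mul, LinearMap.det_toMatrix' (f := C), hCdet,
      mul_div_cancel₀ _ hP0]

theorem isConj_GL {g h : GL (Fin n) F} (hg : (orderOf g).Coprime p) (hh : (orderOf h).Coprime p)
    (hc : (g : Matrix (Fin n) (Fin n) F).charpoly = (h : Matrix (Fin n) (Fin n) F).charpoly) : IsConj g h := by
  obtain ⟨c, hc, -⟩ := exists_conj_det p hg hh hc 1
  exact isConj_iff.2 ⟨c, by rw [hc, mul_inv_cancel_right]⟩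

theorem isConj_SL {g h : Matrix.SpecialLinearGroup (Fin n) F} (hg : (orderOf g).Coprime p)
    (hh : (orderOf h).Coprime p)
    (hc : (g : Matrix (Fin n) (Fin n) F).charpoly = (h : Matrix (Fin n) (Fin n) F).charpoly) : IsConj g h := by
  classical
  have hinj : Function.Injective (Matrix.SpecialLinearGroup.toGL : Matrix.SpecialLinearGroup (Fin n) F →* GL (Fin n) F) :=
    Matrix.SpecialLinearGroup.toGL_injective
  obtain ⟨c, hcc, hdet⟩ := exists_conj_det p (g := Matrix.SpecialLinearGroup.toGL g) (h := Matrix.SpecialLinearGroup.toGL h)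
    (by rwa [orderOf_injective _ hinj]) (by rwa [orderOf_injective _ hinj]) hc 1
  rcases Nat.eq_zero_or_pos n with hn | hn
  · subst hn
    rw [Subsingleton.elim g h]
  let t : Matrix.SpecialLinearGroup (Fin n) F := ⟨c, by simpa using hdet hn⟩
  refine isConj_iff.2 ⟨t, hinj ?_⟩
  rw [map_mul, map_mul, map_inv]
  have e : Matrix.SpecialLinearGroup.toGL t = c := Units.ext rfl
  rw [e, hcc, mul_inv_cancel_right]

omit [Finite F] in
/-- A matrix whose characteristic polynomial is a given monic polynomial. -/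
lemma exists_charpoly {f : F[X]} (hf : f.Monic) (hd : f.natDegree = n) :
    ∃ M : Matrix (Fin n) (Fin n) F, M.charpoly = f := by
  classical
  rcases Nat.eq_zero_or_pos n with hn | hn
  · subst hn
    refine ⟨1, ?_⟩
    rw [Polynomial.eq_one_of_monic_natDegree_zero hf hd,
      Polynomial.eq_one_of_monic_natDegree_zero (Matrix.charpoly_monic _) (by simp)]
  let pb := AdjoinRoot.powerBasis hf.ne_zero
  have hdim : pb.dim = n := hd
  refine ⟨Matrix.reindexAlgEquiv F F (finCongr hdim) (Algebra.leftMulMatrix pb.basis pb.gen), ?_⟩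
  rw [Matrix.reindexAlgEquiv_apply, Matrix.charpoly_reindex, charpoly_leftMulMatrix]
  show minpoly F (AdjoinRoot.root f) = f
  rw [AdjoinRoot.minpoly_root hf.ne_zero, hf.leadingCoeff, inv_one, map_one, mul_one]

/-- An invertible matrix of order prime to `p` with a given characteristic polynomial. -/
theorem exists_regular_charpoly {f : F[X]} (hf : f.Monic) (hd : f.natDegree = n) (h0 : f.coeff 0 ≠ 0) :
    ∃ s : GL (Fin n) F, (orderOf s).Coprime p ∧ (s : Matrix (Fin n) (Fin n) F).charpoly = f := by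
  classical
  haveI : Finite (GL (Fin n) F) := inferInstance
  obtain ⟨M, hM⟩ := exists_charpoly (n := n) hf hd
  have hMu : IsUnit M := by
    rw [Matrix.isUnit_iff_isUnit_det, Matrix.det_eq_sign_charpoly_coeff, hM, isUnit_iff_ne_zero]
    exact mul_ne_zero (pow_ne_zero _ (neg_ne_zero.2 one_ne_zero)) h0
  let g : GL (Fin n) F := hMu.unit
  obtain ⟨k, m, hm, hord⟩ := Nat.exists_eq_pow_mul_and_not_dvd (orderOf_pos g).ne' p (Fact.out : p.Prime).ne_one
  have hcop : (p ^ k).Coprime m := Nat.Coprime.pow_left _ (((Fact.out : p.Prime).coprime_iff_not_dvd).2 hm)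
  obtain ⟨e, he1, he2⟩ := Nat.chineseRemainder hcop 0 1
  have hdvd : orderOf (g ^ e) ∣ m := by
    apply orderOf_dvd_of_pow_eq_one
    rw [← pow_mul]
    apply orderOf_dvd_iff_pow_eq_one.1
    rw [hord]
    exact Nat.mul_dvd_mul_right (Nat.modEq_zero_iff_dvd.1 he1) m
  refine ⟨g ^ e, Nat.Coprime.coprime_dvd_left hdvd (((Fact.out : p.Prime).coprime_iff_not_dvd).2 hm).symm, ?_⟩
  set s := g ^ e
  set u := s⁻¹ * g
  have hu : u ^ (p ^ k) = 1 := by
    have hcm : Commute s⁻¹ g := ((Commute.refl g).pow_left e).inv_left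
    rw [hcm.mul_pow, inv_pow, ← pow_mul, inv_mul_eq_one, pow_eq_pow_iff_modEq, hord]
    have h1 : e * p ^ k ≡ 1 * p ^ k [MOD m * p ^ k] := Nat.ModEq.mul_right' _ he2
    rwa [one_mul, mul_comm m] at h1
  rcases Nat.eq_zero_or_pos n with hn | hn
  · subst hn
    rw [← hM]
    exact congrArg Matrix.charpoly (Subsingleton.elim _ _)
  haveI : Nonempty (Fin n) := ⟨⟨0, hn⟩⟩
  haveI : CharP (Matrix (Fin n) (Fin n) F) p := Matrix.charP p
  have hnil : IsNilpotent ((u : Matrix (Fin n) (Fin n) F) - 1) := by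
    refine ⟨p ^ k, ?_⟩
    rw [sub_pow_char_pow_of_commute p k (Commute.one_right _), one_pow, ← Units.val_pow_eq_pow_val, hu,
      Units.val_one, sub_self]
  have hsu : Commute (s : Matrix (Fin n) (Fin n) F) ((u : Matrix (Fin n) (Fin n) F) - 1) := by
    refine Commute.sub_right ?_ (Commute.one_right _)
    have : Commute s u := (Commute.refl s).inv_right.mul_right ((Commute.refl g).pow_left e)
    exact Units.ext_iff.1 this.eq
  have hgs : (g : Matrix (Fin n) (Fin n) F) = s + s * ((u : Matrix (Fin n) (Fin n) F) - 1) := by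
    rw [mul_sub, mul_one, add_sub_cancel, ← Units.val_mul, mul_inv_cancel_left]
  rw [← hM, show M = (g : Matrix (Fin n) (Fin n) F) from rfl, hgs,
    charpoly_add_nilpotent ((Commute.refl _).mul_right hsu) (Commute.isNilpotent_mul_left hsu hnil)]

omit [Finite F] in
lemma charpoly_eq_of_isConj {g h : GL (Fin n) F} (hc : IsConj g h) :
    (g : Matrix (Fin n) (Fin n) F).charpoly = (h : Matrix (Fin n) (Fin n) F).charpoly := by
  obtain ⟨c, rfl⟩ := isConj_iff.1 hc
  rw [Units.val_mul, Units.val_mul, Matrix.coe_units_inv, Matrix.charpoly_units_conj]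

omit [Finite F] in
/-- Monic polynomials of degree `m + 1` with constant term in a given set. -/
lemma card_monic (m : ℕ) (S : Set F) :
    Nat.card {f : F[X] // f.Monic ∧ f.natDegree = m + 1 ∧ f.coeff 0 ∈ S} = Nat.card S * Nat.card F ^ m := by
  let e : {q : F[X] // q.Monic ∧ q.natDegree = m + 1} ≃ (Fin (m + 1) → F) :=
    (Polynomial.monicEquivDegreeLT (m + 1)).trans (Polynomial.degreeLTEquiv F (m + 1)).toEquiv
  have he : ∀ q : {q : F[X] // q.Monic ∧ q.natDegree = m + 1}, e q 0 = q.1.coeff 0 := fun q => by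
    show q.1.eraseLead.coeff 0 = q.1.coeff 0
    exact Polynomial.eraseLead_coeff_of_ne 0 (by rw [q.2.2]; omega)
  rw [← Nat.card_congr ((Equiv.subtypeSubtypeEquivSubtypeInter
    (fun q : F[X] => q.Monic ∧ q.natDegree = m + 1) (fun q => q.coeff 0 ∈ S)).trans
    (Equiv.subtypeEquivRight (fun q => and_assoc))),
    Nat.card_congr (e.subtypeEquiv (q := fun c => c 0 ∈ S) (fun q => by rw [he])),
    Nat.card_congr ((((Fin.consEquiv fun _ => F).symm.subtypeEquiv (q := fun x : F × (Fin m → F) => x.1 ∈ S)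
      (fun c => Iff.rfl)) : {c : Fin (m + 1) → F // c 0 ∈ S} ≃ _).trans
      (Equiv.prodSubtypeFstEquivSubtypeProd (p := fun a => a ∈ S) (β := Fin m → F)))]
  simp [Nat.card_prod, Nat.card_fun]

theorem card_regular_classes_GL {q : ℕ} (hq : Nat.card F = q) (hn : 1 ≤ n) :
    Nat.card {c : ConjClasses (GL (Fin n) F) // ∃ g : GL (Fin n) F, ConjClasses.mk g = c ∧ (orderOf g).Coprime p} =
      (q - 1) * q ^ (n - 1) := by
  classical
  obtain ⟨m, rfl⟩ : ∃ m, n = m + 1 := ⟨n - 1, by omega⟩
  have hset : Nat.card ({0}ᶜ : Set F) = q - 1 := by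
    rw [Nat.card_coe_set_eq, Set.ncard_compl, Set.ncard_singleton, hq]
  rw [Nat.add_sub_cancel, ← hset, ← hq, ← card_monic]
  let Φ : {c : ConjClasses (GL (Fin (m + 1)) F) // ∃ g : GL (Fin (m + 1)) F, ConjClasses.mk g = c ∧ (orderOf g).Coprime p} →
      {f : F[X] // f.Monic ∧ f.natDegree = m + 1 ∧ f.coeff 0 ∈ ({0}ᶜ : Set F)} := fun c =>
    ⟨(c.2.choose : Matrix (Fin (m + 1)) (Fin (m + 1)) F).charpoly, Matrix.charpoly_monic _, by simp, by
      intro h
      have h1 := Matrix.det_eq_sign_charpoly_coeff (c.2.choose : Matrix (Fin (m + 1)) (Fin (m + 1)) F)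
      rw [Set.mem_singleton_iff.1 h, mul_zero] at h1
      exact (Units.ne_zero (Matrix.GeneralLinearGroup.det c.2.choose)) (by simpa using h1)⟩
  refine Nat.card_congr (Equiv.ofBijective Φ ⟨?_, ?_⟩)
  · intro c d h
    apply Subtype.ext
    rw [← c.2.choose_spec.1, ← d.2.choose_spec.1, ConjClasses.mk_eq_mk_iff_isConj]
    exact isConj_GL p c.2.choose_spec.2 d.2.choose_spec.2 (congrArg Subtype.val h)
  · rintro ⟨f, hf, hd, h0⟩
    obtain ⟨s, hs, hsf⟩ := exists_regular_charpoly p hf hd (by simpa using h0)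
    let c : {c : ConjClasses (GL (Fin (m + 1)) F) // ∃ g : GL (Fin (m + 1)) F, ConjClasses.mk g = c ∧ (orderOf g).Coprime p} :=
      ⟨ConjClasses.mk s, s, rfl, hs⟩
    refine ⟨c, Subtype.ext ?_⟩
    show ((c.2.choose : GL (Fin (m + 1)) F) : Matrix (Fin (m + 1)) (Fin (m + 1)) F).charpoly = f
    rw [charpoly_eq_of_isConj (ConjClasses.mk_eq_mk_iff_isConj.1 c.2.choose_spec.1), hsf]

theorem card_regular_classes_SL {q : ℕ} (hq : Nat.card F = q) (hn : 1 ≤ n) :
    Nat.card {c : ConjClasses (Matrix.SpecialLinearGroup (Fin n) F) //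
      ∃ g : Matrix.SpecialLinearGroup (Fin n) F, ConjClasses.mk g = c ∧ (orderOf g).Coprime p} = q ^ (n - 1) := by
  classical
  obtain ⟨m, rfl⟩ : ∃ m, n = m + 1 := ⟨n - 1, by omega⟩
  have h := card_monic (F := F) m {((-1) ^ (m + 1) : F)}
  rw [Nat.card_coe_set_eq, Set.ncard_singleton, one_mul, hq] at h
  rw [Nat.add_sub_cancel, ← h]
  let Φ : {c : ConjClasses (Matrix.SpecialLinearGroup (Fin (m + 1)) F) //
      ∃ g : Matrix.SpecialLinearGroup (Fin (m + 1)) F, ConjClasses.mk g = c ∧ (orderOf g).Coprime p} →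
      {f : F[X] // f.Monic ∧ f.natDegree = m + 1 ∧ f.coeff 0 ∈ ({((-1) ^ (m + 1) : F)} : Set F)} := fun c =>
    ⟨(c.2.choose : Matrix (Fin (m + 1)) (Fin (m + 1)) F).charpoly, Matrix.charpoly_monic _, by simp, by
      have h1 := Matrix.det_eq_sign_charpoly_coeff (c.2.choose : Matrix (Fin (m + 1)) (Fin (m + 1)) F)
      rw [c.2.choose.2, Fintype.card_fin] at h1
      rw [Set.mem_singleton_iff]
      have h2 : ((-1 : F) ^ (m + 1)) * (-1) ^ (m + 1) = 1 := by rw [← mul_pow]; simp
      calc _ = ((-1 : F) ^ (m + 1)) * (-1) ^ (m + 1) * _ := by rw [h2, one_mul]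
        _ = _ := by rw [mul_assoc, ← h1, mul_one]⟩
  refine Nat.card_congr (Equiv.ofBijective Φ ⟨?_, ?_⟩)
  · intro c d h
    apply Subtype.ext
    rw [← c.2.choose_spec.1, ← d.2.choose_spec.1, ConjClasses.mk_eq_mk_iff_isConj]
    exact isConj_SL p c.2.choose_spec.2 d.2.choose_spec.2 (congrArg Subtype.val h)
  · rintro ⟨f, hf, hd, h0⟩
    rw [Set.mem_singleton_iff] at h0
    obtain ⟨s, hs, hsf⟩ := exists_regular_charpoly p hf hd (by rw [h0]; exact pow_ne_zero _ (neg_ne_zero.2 one_ne_zero))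
    have hdet : (s : Matrix (Fin (m + 1)) (Fin (m + 1)) F).det = 1 := by
      rw [Matrix.det_eq_sign_charpoly_coeff, hsf, h0, Fintype.card_fin, ← mul_pow]; simp
    let t : Matrix.SpecialLinearGroup (Fin (m + 1)) F := ⟨s, hdet⟩
    have ht : (orderOf t).Coprime p := by
      rw [← orderOf_injective _ Matrix.SpecialLinearGroup.toGL_injective t,
        show Matrix.SpecialLinearGroup.toGL t = s from Units.ext rfl]
      exact hs
    let c : {c : ConjClasses (Matrix.SpecialLinearGroup (Fin (m + 1)) F) //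
      ∃ g : Matrix.SpecialLinearGroup (Fin (m + 1)) F, ConjClasses.mk g = c ∧ (orderOf g).Coprime p} :=
      ⟨ConjClasses.mk t, t, rfl, ht⟩
    refine ⟨c, Subtype.ext ?_⟩
    show (c.2.choose : Matrix (Fin (m + 1)) (Fin (m + 1)) F).charpoly = f
    have h1 : IsConj (Matrix.SpecialLinearGroup.toGL c.2.choose) s := by
      have := (ConjClasses.mk_eq_mk_iff_isConj.1 c.2.choose_spec.1)
      obtain ⟨x, hx⟩ := isConj_iff.1 this
      refine isConj_iff.2 ⟨Matrix.SpecialLinearGroup.toGL x, ?_⟩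
      rw [← map_inv, ← map_mul, ← map_mul, hx]
      exact Units.ext rfl
    exact (charpoly_eq_of_isConj h1).trans hsf

end Cfsg.Agent.H54
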