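import Mathlib

/-!
The rank one Steinberg presentation of `SL_2` over a finite field.
-/

set_option autoImplicit false

namespace Cfsg.Agent.H54.Presentation

variable {K : Type*} [Field K] {G : Type*} [Group G]

/-- `x(t) y(-t⁻¹) x(t)`. -/
def wEl (x y : K → G) (t : K) : G := x t * y (-t⁻¹) * x t

/-- The relations of the rank one presentation. -/
structure SL2Rels (x y : K → G) : Prop where
  x_add : ∀ t u, x t * x u = x (t + u)
  y_add : ∀ t u, y t * y u = y (t + u)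
  w_conj : ∀ t u, t ≠ 0 → wEl x y t * x u * (wEl x y t)⁻¹ = y (-(t⁻¹ ^ 2 * u))

/-- A function on `Kˣ` with these relations is multiplicative. -/
theorem mul_of_rels [Finite K] {A : Type*} [CommGroup A] (H : Kˣ → A) (h1 : H 1 = 1)
    (hsq : ∀ s t : Kˣ, H (s ^ 2 * t) = H (s ^ 2) * H t)
    (hrel : ∀ a b : Kˣ, (a : K) + b = 1 → H a⁻¹ * H b⁻¹ * H (-(a * b)) = H (-1)) (t u : Kˣ) :
    H t * H u = H (t * u) := by
  classical
  cases nonempty_fintype K
  obtain ⟨g, hg⟩ := IsCyclic.exists_generator (α := Kˣ)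
  have hsplit : ∀ t : Kˣ, ∃ s : Kˣ, t = s ^ 2 ∨ t = s ^ 2 * g := by
    intro t
    obtain ⟨k, hk⟩ := Subgroup.mem_zpowers_iff.1 (hg t)
    rcases Int.even_or_odd' k with ⟨m, rfl | rfl⟩
    · exact ⟨g ^ m, Or.inl (by rw [← hk, ← zpow_natCast, ← zpow_mul, mul_comm]; rfl)⟩
    · exact ⟨g ^ m, Or.inr (by rw [← hk, ← zpow_natCast, ← zpow_mul, zpow_add, mul_comm m]; simp)⟩
  have hss : ∀ a b : Kˣ, H ((a * b) ^ 2) = H (a ^ 2) * H (b ^ 2) := fun a b => by rw [mul_pow, hsq]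
  have hgg : H g * H g = H (g ^ 2) := by
    by_cases hgs : ∃ s : Kˣ, g = s ^ 2
    · obtain ⟨s, hs⟩ := hgs
      rw [hs, ← hss, ← sq]
    have hgsq : ¬ IsSquare (g : K) := fun ⟨r, hr⟩ =>
      hgs ⟨Units.mk0 r (fun e => g.ne_zero (by rw [hr, e, mul_zero])), Units.ext (by simp [hr, sq])⟩
    obtain ⟨p, q, hpq⟩ : ∃ p q : K, p ^ 2 + q ^ 2 = (g : K)⁻¹ := by
      by_cases h2 : ringChar K = 2
      · obtain ⟨a, ha⟩ := FiniteField.isSquare_of_char_two h2 ((g : K)⁻¹)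
        exact ⟨a, 0, by simp [ha, sq]⟩
      · obtain ⟨a, b, hab⟩ := FiniteField.exists_root_sum_quadratic (f := (Polynomial.X ^ 2 : Polynomial K))
          (g := Polynomial.X ^ 2 - Polynomial.C (g : K)⁻¹) (Polynomial.degree_X_pow 2)
          (Polynomial.degree_X_pow_sub_C two_pos _) (FiniteField.odd_card_of_char_ne_two h2)
        exact ⟨a, b, by simp at hab; linear_combination hab⟩
    have hp : p ≠ 0 := fun e => hgsq ⟨q⁻¹, by
      subst e; rw [← mul_inv, ← sq, show q ^ 2 = (g : K)⁻¹ by simpa using hpq, inv_inv]⟩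
    have hq : q ≠ 0 := fun e => hgsq ⟨p⁻¹, by
      subst e; rw [← mul_inv, ← sq, show p ^ 2 = (g : K)⁻¹ by simpa using hpq, inv_inv]⟩
    set P := Units.mk0 p hp
    set Q := Units.mk0 q hq
    have hab : ((g * P ^ 2 : Kˣ) : K) + ((g * Q ^ 2 : Kˣ) : K) = 1 := by
      simp [P, Q]
      linear_combination (g : K) * hpq + mul_inv_cancel₀ g.ne_zero
    have hr := hrel _ _ hab
    have ea : (g * P ^ 2)⁻¹ = ((g * P)⁻¹) ^ 2 * g := by rw [inv_pow, mul_pow, sq g]; group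
    have eb : (g * Q ^ 2)⁻¹ = ((g * Q)⁻¹) ^ 2 * g := by rw [inv_pow, mul_pow, sq g]; group
    have ec : -((g * P ^ 2) * (g * Q ^ 2)) = (g * P * Q) ^ 2 * -1 := by
      rw [mul_neg_one]; congr 1; simp only [mul_pow, sq]; ac_rfl
    rw [ea, eb, ec, hsq, hsq _ g, hsq _ (-1)] at hr
    have hr' : H (((g * P)⁻¹ * (g * Q)⁻¹ * (g * P * Q)) ^ 2) * (H g * H g) * H (-1) = H (-1) := by
      rw [hss, hss]
      exact Eq.trans (by ac_rfl) hr
    rw [mul_eq_right, show (g * P)⁻¹ * (g * Q)⁻¹ * (g * P * Q) = g⁻¹ by refine Units.ext ?_; simp [P, Q]; field_simp] at hr'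
    have hinv : H (g⁻¹ ^ 2) * H (g ^ 2) = 1 := by rw [← hss, inv_mul_cancel, one_pow, h1]
    exact mul_left_cancel (hr'.trans hinv.symm)
  obtain ⟨a, rfl | rfl⟩ := hsplit t <;> obtain ⟨b, rfl | rfl⟩ := hsplit u
  · rw [← hss, ← mul_pow]
  · rw [hsq, ← mul_assoc, ← hss, ← hsq, mul_pow, mul_assoc]
  · rw [mul_comm, hsq, ← mul_assoc, ← hss, ← hsq, mul_pow]; congr 1; ac_rfl
  · rw [hsq, hsq, mul_mul_mul_comm, ← hss, hgg, ← hss]; congr 1; simp only [sq]; ac_rfl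

namespace SL2Rels

variable {x y : K → G} (R : SL2Rels x y)

/-- `w(t) w(-1)`. -/
def hEl (x y : K → G) (t : K) : G := wEl x y t * wEl x y (-1)

/-- The subgroup generated by the torus elements. -/
def torus (x y : K → G) : Subgroup G := Subgroup.closure {g | ∃ t : Kˣ, g = hEl x y t}

lemma h_mem (x y : K → G) (t : Kˣ) : hEl x y t ∈ torus x y := Subgroup.subset_closure ⟨t, rfl⟩

local notation "w" => wEl x y
local notation "h" => hEl x y

include R

lemma x_zero : x 0 = 1 := by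
  have := R.x_add 0 0
  rw [add_zero] at this
  exact mul_eq_left.1 this

lemma y_zero : y 0 = 1 := by
  have := R.y_add 0 0
  rw [add_zero] at this
  exact mul_eq_left.1 this

lemma x_inv (t : K) : (x t)⁻¹ = x (-t) :=
  inv_eq_of_mul_eq_one_right (by rw [R.x_add, add_neg_cancel, R.x_zero])

lemma y_inv (t : K) : (y t)⁻¹ = y (-t) :=
  inv_eq_of_mul_eq_one_right (by rw [R.y_add, add_neg_cancel, R.y_zero])

lemma w_inv (t : K) : (w t)⁻¹ = w (-t) := by
  simp only [wEl, mul_inv_rev, R.x_inv, R.y_inv, inv_neg, neg_neg, mul_assoc]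

lemma w_conj_y {t : K} (ht : t ≠ 0) (v : K) : w t * y v * (w t)⁻¹ = x (-(t ^ 2 * v)) := by
  have h1 := R.w_conj (-t) (-(t ^ 2 * v)) (neg_ne_zero.2 ht)
  have e : -((-t)⁻¹ ^ 2 * -(t ^ 2 * v)) = v := by field_simp
  rw [e, R.w_inv (-t), neg_neg] at h1
  rw [← h1, R.w_inv t]
  have h2 : w t * w (-t) = 1 := by rw [← R.w_inv t, mul_inv_cancel]
  rw [show w t * (w (-t) * x (-(t ^ 2 * v)) * w t) * w (-t) = (w t * w (-t)) * x (-(t ^ 2 * v)) * (w t * w (-t)) by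
    group, h2, one_mul, mul_one]

lemma w_conj_w_aux {t u : K} (ht : t ≠ 0) (hu : u ≠ 0) :
    w t * w u * (w t)⁻¹ = wEl y x (-(t⁻¹ ^ 2 * u)) := by
  show w t * (x u * y (-u⁻¹) * x u) * (w t)⁻¹ = _
  rw [show w t * (x u * y (-u⁻¹) * x u) * (w t)⁻¹ =
    (w t * x u * (w t)⁻¹) * (w t * y (-u⁻¹) * (w t)⁻¹) * (w t * x u * (w t)⁻¹) by group,
    R.w_conj t u ht, R.w_conj_y ht]
  unfold wEl
  congr 3
  field_simp

lemma w'_eq {s : K} (hs : s ≠ 0) : wEl y x s = w (-s⁻¹) := by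
  have := R.w_conj_w_aux (t := -s⁻¹) (u := -s⁻¹) (by simpa using hs) (by simpa using hs)
  rw [mul_inv_cancel_right] at this
  rw [this]
  congr 1
  field_simp

lemma w_conj_w {t u : K} (ht : t ≠ 0) (hu : u ≠ 0) : w t * w u * (w t)⁻¹ = w (t ^ 2 / u) := by
  rw [R.w_conj_w_aux ht hu, R.w'_eq (by simp [ht, hu])]
  congr 1
  field_simp

lemma h_one : h 1 = 1 := by
  rw [hEl, ← R.w_inv 1, mul_inv_cancel]

lemma w_eq (t : K) : w t = h t * w 1 := by
  rw [hEl, mul_assoc, show w (-1) * w 1 = (w 1)⁻¹ * w 1 by rw [R.w_inv], inv_mul_cancel, mul_one]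

lemma h_conj_w {t u : K} (ht : t ≠ 0) (hu : u ≠ 0) : h t * w u * (h t)⁻¹ = w (t ^ 2 * u) := by
  rw [hEl, show w t * w (-1) * w u * (w t * w (-1))⁻¹ = w t * (w (-1) * w u * (w (-1))⁻¹) * (w t)⁻¹ by group,
    R.w_conj_w (by norm_num) hu, R.w_conj_w ht (by simp [hu])]
  congr 1
  field_simp

lemma h_conj_x {t : K} (ht : t ≠ 0) (u : K) : h t * x u * (h t)⁻¹ = x (t ^ 2 * u) := by
  rw [hEl, show w t * w (-1) * x u * (w t * w (-1))⁻¹ = w t * (w (-1) * x u * (w (-1))⁻¹) * (w t)⁻¹ by group,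
    R.w_conj _ _ (by norm_num), R.w_conj_y ht]
  congr 1
  field_simp

lemma h_conj_y {t : K} (ht : t ≠ 0) (u : K) : h t * y u * (h t)⁻¹ = y (t⁻¹ ^ 2 * u) := by
  rw [hEl, show w t * w (-1) * y u * (w t * w (-1))⁻¹ = w t * (w (-1) * y u * (w (-1))⁻¹) * (w t)⁻¹ by group,
    R.w_conj_y (by norm_num), R.w_conj t _ ht]
  congr 1
  field_simp

lemma h_conj_h {t u : K} (ht : t ≠ 0) (hu : u ≠ 0) : h t * h u * (h t)⁻¹ = h (t ^ 2 * u) * (h (t ^ 2))⁻¹ := by
  have ew : h t * w (-1) * (h t)⁻¹ = w (-(t ^ 2)) := by rw [R.h_conj_w ht (by norm_num)]; ring_nf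
  calc h t * h u * (h t)⁻¹ = (h t * w u * (h t)⁻¹) * (h t * w (-1) * (h t)⁻¹) := by simp only [hEl]; group
    _ = w (t ^ 2 * u) * (w (t ^ 2))⁻¹ := by rw [R.h_conj_w ht hu, ew, R.w_inv]
    _ = h (t ^ 2 * u) * (h (t ^ 2))⁻¹ := by rw [hEl, hEl]; group

lemma w1_conj_h {t : K} (ht : t ≠ 0) : w 1 * h t * (w 1)⁻¹ = h t⁻¹ := by
  rw [hEl, show w 1 * (w t * w (-1)) * (w 1)⁻¹ = (w 1 * w t * (w 1)⁻¹) * (w 1 * w (-1) * (w 1)⁻¹) by group,
    R.w_conj_w one_ne_zero ht, R.w_conj_w one_ne_zero (by norm_num)]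
  rw [hEl]
  norm_num

variable (φ : G →* Matrix.SpecialLinearGroup (Fin 2) K)
  (hx : ∀ t, (φ (x t) : Matrix (Fin 2) (Fin 2) K) = !![1, t; 0, 1])
  (hy : ∀ t, (φ (y t) : Matrix (Fin 2) (Fin 2) K) = !![1, 0; t, 1])

include hx hy

lemma map_w {t : K} (ht : t ≠ 0) : (φ (w t) : Matrix (Fin 2) (Fin 2) K) = !![0, t; -t⁻¹, 0] := by
  rw [wEl, map_mul, map_mul, Matrix.SpecialLinearGroup.coe_mul, Matrix.SpecialLinearGroup.coe_mul, hx, hy]
  ext i j
  fin_cases i <;> fin_cases j <;> simp [ht]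

lemma map_h {t : K} (ht : t ≠ 0) : (φ (h t) : Matrix (Fin 2) (Fin 2) K) = !![t, 0; 0, t⁻¹] := by
  rw [hEl, map_mul, Matrix.SpecialLinearGroup.coe_mul, R.map_w φ hx hy ht, R.map_w φ hx hy (by norm_num)]
  ext i j
  fin_cases i <;> fin_cases j <;> simp

lemma map_torus {g : G} (hg : g ∈ torus x y) :
    ∃ t : Kˣ, (φ g : Matrix (Fin 2) (Fin 2) K) = !![(t : K), 0; 0, (t : K)⁻¹] ∧
      (∀ u, g * x u * g⁻¹ = x ((t : K) ^ 2 * u)) ∧ ∀ u, g * y u * g⁻¹ = y ((t : K)⁻¹ ^ 2 * u) := by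
  induction hg using Subgroup.closure_induction with
  | mem g hg =>
    obtain ⟨t, rfl⟩ := hg
    exact ⟨t, R.map_h φ hx hy t.ne_zero, R.h_conj_x t.ne_zero, R.h_conj_y t.ne_zero⟩
  | one => exact ⟨1, by rw [map_one, Matrix.SpecialLinearGroup.coe_one]; ext i j; fin_cases i <;> fin_cases j <;> simp,
      fun u => by simp, fun u => by simp⟩
  | mul g g' _ _ hg hg' =>
    obtain ⟨a, ha, hax, hay⟩ := hg
    obtain ⟨b, hb, hbx, hby⟩ := hg'
    refine ⟨a * b, ?_, fun u => ?_, fun u => ?_⟩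
    · rw [map_mul, Matrix.SpecialLinearGroup.coe_mul, ha, hb]
      ext i j; fin_cases i <;> fin_cases j <;> simp [mul_comm]
    · rw [show g * g' * x u * (g * g')⁻¹ = g * (g' * x u * g'⁻¹) * g⁻¹ by group, hbx, hax]
      congr 1; push_cast; ring
    · rw [show g * g' * y u * (g * g')⁻¹ = g * (g' * y u * g'⁻¹) * g⁻¹ by group, hby, hay]
      congr 1; push_cast; field_simp
  | inv g _ hg =>
    obtain ⟨a, ha, hax, hay⟩ := hg
    have ha0 := a.ne_zero
    refine ⟨a⁻¹, ?_, fun u => ?_, fun u => ?_⟩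
    · rw [map_inv, Matrix.SpecialLinearGroup.coe_inv, ha, Matrix.adjugate_fin_two_of]
      ext i j; fin_cases i <;> fin_cases j <;> simp
    · have := hax ((a : K)⁻¹ ^ 2 * u)
      rw [show (a : K) ^ 2 * ((a : K)⁻¹ ^ 2 * u) = u by field_simp] at this
      rw [← this]; simp [mul_assoc]
    · have := hay ((a : K) ^ 2 * u)
      rw [show (a : K)⁻¹ ^ 2 * ((a : K) ^ 2 * u) = u by field_simp] at this
      rw [← this]; simp [mul_assoc]

variable (hgen : Subgroup.closure (Set.range x ∪ Set.range y) = ⊤)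

include hgen

lemma torus_comm [Finite K] {a b : G} (ha : a ∈ torus x y) (hb : b ∈ torus x y) : a * b = b * a := by
  let f : torus x y →* Kˣ :=
    { toFun := fun a => (R.map_torus φ hx hy a.2).choose
      map_one' := by
        have := (R.map_torus φ hx hy (one_mem (torus x y))).choose_spec.1
        refine Units.ext ?_
        have h00 := congrFun (congrFun this 0) 0
        simpa using h00.symm
      map_mul' := fun a b => by
        have e1 := congrFun (congrFun (R.map_torus φ hx hy a.2).choose_spec.1 0) 0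
        have e2 := congrFun (congrFun (R.map_torus φ hx hy b.2).choose_spec.1 0) 0
        have e3 := congrFun (congrFun (R.map_torus φ hx hy (a * b).2).choose_spec.1 0) 0
        have e4 := congrFun (congrFun (R.map_torus φ hx hy a.2).choose_spec.1 0) 1
        refine Units.ext ?_
        simp only [Subgroup.coe_mul, map_mul, Matrix.SpecialLinearGroup.coe_mul, Matrix.mul_apply, Fin.sum_univ_two] at e3
        simp only [Matrix.of_apply, Matrix.cons_val', Matrix.cons_val_zero, Matrix.cons_val_one,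
          Matrix.empty_val', Matrix.cons_val_fin_one] at e1 e2 e3 e4
        rw [Units.val_mul, ← e1, ← e2]
        simpa [e4] using e3.symm }
  have hker : f.ker ≤ Subgroup.center (torus x y) := by
    intro g hg
    have hg1 : (R.map_torus φ hx hy g.2).choose = 1 := hg
    have hsp := (R.map_torus φ hx hy g.2).choose_spec
    rw [hg1] at hsp
    obtain ⟨-, hgx, hgy⟩ := hsp
    simp only [Units.val_one, one_pow, inv_one, one_mul] at hgx hgy
    have hc : ∀ z, z * (g : G) = (g : G) * z := by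
      intro z
      have hz : z ∈ Subgroup.closure (Set.range x ∪ Set.range y) := by rw [hgen]; trivial
      have : z ∈ Subgroup.centralizer {(g : G)} := by
        refine (Subgroup.closure_le _).2 ?_ hz
        rintro _ (⟨u, rfl⟩ | ⟨u, rfl⟩) <;> rw [SetLike.mem_coe, Subgroup.mem_centralizer_singleton_iff]
        · exact (mul_inv_eq_iff_eq_mul.1 (hgx u)).symm
        · exact (mul_inv_eq_iff_eq_mul.1 (hgy u)).symm
      exact Subgroup.mem_centralizer_singleton_iff.1 this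
    exact Subgroup.mem_center_iff.2 fun z => Subtype.ext (hc z)
  exact congrArg Subtype.val ((commutative_of_cyclic_center_quotient f hker) ⟨a, ha⟩ ⟨b, hb⟩)

lemma h_sq_mul [Finite K] (t u : Kˣ) : h ((t : K) ^ 2 * u) = h u * h ((t : K) ^ 2) := by
  have := R.h_conj_h t.ne_zero u.ne_zero
  rw [R.torus_comm φ hx hy hgen (h_mem x y t) (h_mem x y u), mul_inv_cancel_right] at this
  exact (eq_mul_inv_iff_mul_eq.1 this).symm

lemma w_triple {a b c : K} (ha : a ≠ 0) (hb : b ≠ 0) (hc : c ≠ 0) (habc : a + b = c) :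
    w (-a⁻¹) * w (c / (a * b)) * w (-b⁻¹) = w (-c⁻¹) := by
  have eqy : ∀ s : K, s ≠ 0 → y s = x s⁻¹ * w (-s⁻¹) * x s⁻¹ := fun s hs => by
    rw [wEl]
    simp only [← mul_assoc, R.x_add, add_neg_cancel, R.x_zero, one_mul]
    rw [mul_assoc, R.x_add, neg_add_cancel, R.x_zero, mul_one, inv_neg, inv_inv, neg_neg]
  set p := c / (a * b) with hp
  have hp0 : p ≠ 0 := div_ne_zero hc (mul_ne_zero ha hb)
  have eqx : x p = y p⁻¹ * w p * y p⁻¹ := by
    have := R.w'_eq (neg_ne_zero.2 (inv_ne_zero hp0))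
    rw [show -(-p⁻¹)⁻¹ = p by simp [inv_neg]] at this
    rw [← this, wEl]
    simp only [← mul_assoc, R.y_add, add_neg_cancel, R.y_zero, one_mul]
    rw [mul_assoc, R.y_add, neg_add_cancel, R.y_zero, mul_one]
    simp [inv_neg]
  have hna : -a⁻¹ ≠ 0 := by simp [ha]
  have hnb : -b⁻¹ ≠ 0 := by simp [hb]
  have h1 : w (-a⁻¹) * y p⁻¹ = x (-((-a⁻¹) ^ 2 * p⁻¹)) * w (-a⁻¹) := by
    rw [← R.w_conj_y hna, inv_mul_cancel_right]
  have h2 : y p⁻¹ * w (-b⁻¹) = w (-b⁻¹) * x (-((-b⁻¹) ^ 2 * p⁻¹)) := by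
    rw [mul_inv_eq_iff_eq_mul.1 (R.w_conj (-b⁻¹) (-((-b⁻¹) ^ 2 * p⁻¹)) hnb)]
    congr 2
    field_simp
  have main : y a * y b = x c⁻¹ * (w (-a⁻¹) * w p * w (-b⁻¹)) * x c⁻¹ := by
    rw [eqy a ha, eqy b hb,
      show x a⁻¹ * w (-a⁻¹) * x a⁻¹ * (x b⁻¹ * w (-b⁻¹) * x b⁻¹) =
        x a⁻¹ * w (-a⁻¹) * (x a⁻¹ * x b⁻¹) * w (-b⁻¹) * x b⁻¹ by group,
      R.x_add, show a⁻¹ + b⁻¹ = p by rw [hp]; field_simp; linear_combination habc, eqx,
      show x a⁻¹ * w (-a⁻¹) * (y p⁻¹ * w p * y p⁻¹) * w (-b⁻¹) * x b⁻¹ =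
        x a⁻¹ * (w (-a⁻¹) * y p⁻¹) * w p * (y p⁻¹ * w (-b⁻¹)) * x b⁻¹ by group,
      h1, h2,
      show x a⁻¹ * (x (-((-a⁻¹) ^ 2 * p⁻¹)) * w (-a⁻¹)) * w p * (w (-b⁻¹) * x (-((-b⁻¹) ^ 2 * p⁻¹))) * x b⁻¹ =
        (x a⁻¹ * x (-((-a⁻¹) ^ 2 * p⁻¹))) * (w (-a⁻¹) * w p * w (-b⁻¹)) * (x (-((-b⁻¹) ^ 2 * p⁻¹)) * x b⁻¹) by group,
      R.x_add, R.x_add]
    have e1 : a⁻¹ + -((-a⁻¹) ^ 2 * p⁻¹) = c⁻¹ := by rw [hp]; field_simp; linear_combination -habc
    have e2 : -((-b⁻¹) ^ 2 * p⁻¹) + b⁻¹ = c⁻¹ := by rw [hp]; field_simp; linear_combination -habc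
    rw [e1, e2]
  rw [R.y_add, habc, eqy c hc] at main
  exact (mul_left_cancel (mul_right_cancel main)).symm

lemma w_rel [Finite K] {a b : Kˣ} (hab : (a : K) + b = 1) :
    h ((a⁻¹ : Kˣ) : K) * h ((b⁻¹ : Kˣ) : K) * h ((-(a * b) : Kˣ) : K) = h ((-1 : Kˣ) : K) := by
  have htri := R.w_triple φ hx hy hgen (neg_ne_zero.2 a.ne_zero) (neg_ne_zero.2 b.ne_zero)
    (c := -1) (by norm_num) (by linear_combination -hab)
  set P : Kˣ := -(a * b)⁻¹ with hPdef
  have eP : -1 / (-(a : K) * -(b : K)) = (P : K) := by simp [hPdef, div_eq_mul_inv]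
  rw [inv_neg, neg_neg, inv_neg, neg_neg, eP, inv_neg, inv_one, neg_neg,
    ← Units.val_inv_eq_inv_val, ← Units.val_inv_eq_inv_val] at htri
  rw [R.w_eq ((a⁻¹ : Kˣ) : K), R.w_eq (P : K), R.w_eq ((b⁻¹ : Kˣ) : K)] at htri
  have e1 : h ((a⁻¹ : Kˣ) : K) * w 1 * (h (P : K) * w 1) * (h ((b⁻¹ : Kˣ) : K) * w 1) =
      h ((a⁻¹ : Kˣ) : K) * (w 1 * h (P : K) * (w 1)⁻¹) * (w 1 * w 1) * h ((b⁻¹ : Kˣ) : K) * w 1 := by group
  rw [e1, R.w1_conj_h P.ne_zero, ← Units.val_inv_eq_inv_val, hPdef, inv_neg, inv_inv] at htri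
  have ew : w 1 * w 1 = (h ((-1 : Kˣ) : K))⁻¹ := by
    rw [hEl, Units.val_neg, Units.val_one, mul_inv_rev, R.w_inv, neg_neg]
  rw [ew, mul_eq_right] at htri
  have cm := fun {a b : G} (ha : a ∈ torus x y) (hb : b ∈ torus x y) => R.torus_comm φ hx hy hgen ha hb
  have hA := h_mem x y a⁻¹
  have hB := h_mem x y b⁻¹
  have hP := h_mem x y (-(a * b))
  have hM := h_mem x y (-1 : Kˣ)
  rw [mul_assoc (h ((a⁻¹ : Kˣ) : K) * h ((-(a * b) : Kˣ) : K)), cm (inv_mem hM) hB, ← mul_assoc,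
    mul_inv_eq_one, mul_assoc, cm hP hB, ← mul_assoc] at htri
  exact htri

theorem h_mul [Finite K] (t u : Kˣ) : h (t : K) * h (u : K) = h ((t * u : Kˣ) : K) := by
  letI : CommGroup (torus x y) :=
    { (inferInstance : Group (torus x y)) with
      mul_comm := fun a b => Subtype.ext (R.torus_comm φ hx hy hgen a.2 b.2) }
  have := mul_of_rels (fun t : Kˣ => (⟨h (t : K), h_mem x y t⟩ : torus x y))
    (Subtype.ext (show h ((1 : Kˣ) : K) = 1 by rw [Units.val_one]; exact R.h_one))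
    (fun s t => Subtype.ext (by
      show h ((s ^ 2 * t : Kˣ) : K) = h ((s ^ 2 : Kˣ) : K) * h (t : K)
      rw [R.torus_comm φ hx hy hgen (h_mem x y (s ^ 2)) (h_mem x y t), Units.val_mul, Units.val_pow_eq_pow_val]
      exact R.h_sq_mul φ hx hy hgen s t))
    (fun a b hab => Subtype.ext (R.w_rel φ hx hy hgen hab)) t u
  exact congrArg Subtype.val this

theorem injective [Finite K] : Function.Injective φ := by
  rw [← MonoidHom.ker_eq_bot_iff, eq_bot_iff]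
  let T : Kˣ →* G :=
    { toFun := fun t => h (t : K)
      map_one' := by rw [Units.val_one, R.h_one]
      map_mul' := fun a b => (R.h_mul φ hx hy hgen a b).symm }
  have hxT : ∀ (t : Kˣ) u, T t * x u = x ((t : K) ^ 2 * u) * T t := fun t u =>
    mul_inv_eq_iff_eq_mul.1 (R.h_conj_x t.ne_zero u)
  have hwT : ∀ t : Kˣ, w 1 * T t = T t⁻¹ * w 1 := fun t =>
    mul_inv_eq_iff_eq_mul.1 ((R.w1_conj_h t.ne_zero).trans (by rw [← Units.val_inv_eq_inv_val]; rfl))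
  let S : Set G := {g | ∃ u t, g = x u * T t} ∪ {g | ∃ v t u, g = x v * T t * w 1 * x u}
  have hSx : ∀ u, ∀ g ∈ S, x u * g ∈ S := by
    rintro u g (⟨v, t, rfl⟩ | ⟨v, t, r, rfl⟩)
    · exact Or.inl ⟨u + v, t, by rw [← mul_assoc, R.x_add]⟩
    · exact Or.inr ⟨u + v, t, r, by simp only [← mul_assoc, R.x_add]⟩
  have hST : ∀ s, ∀ g ∈ S, T s * g ∈ S := by
    rintro s g (⟨v, t, rfl⟩ | ⟨v, t, r, rfl⟩)
    · exact Or.inl ⟨_, s * t, by rw [← mul_assoc, hxT, mul_assoc, ← map_mul]⟩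
    · exact Or.inr ⟨_, s * t, r, by simp only [← mul_assoc, hxT]; rw [mul_assoc (x _) (T s), ← map_mul]⟩
  have hw2 : w 1 * w 1 = T (-1) := by
    have e : T (-1) * T (-1) = 1 := by rw [← map_mul]; simp
    rw [mul_eq_one_iff_eq_inv.1 e]
    show _ = (h (((-1 : Kˣ)) : K))⁻¹
    rw [hEl, Units.val_neg, Units.val_one, mul_inv_rev, R.w_inv, neg_neg]
  have eqy : ∀ s : Kˣ, y (s : K) = x ((s : K)⁻¹) * T (-s⁻¹) * w 1 * x ((s : K)⁻¹) := fun s => by
    have : w (-(s : K)⁻¹) = T (-s⁻¹) * w 1 := (R.w_eq _).trans (by simp [T])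
    rw [mul_assoc (x _) (T _), ← this, wEl]
    simp only [← mul_assoc, R.x_add, add_neg_cancel, R.x_zero, one_mul]
    rw [mul_assoc, R.x_add, neg_add_cancel, R.x_zero, mul_one, inv_neg, inv_inv, neg_neg]
  have hTx : ∀ (a : K) (t : Kˣ), x a * T t = T t * x (((t⁻¹ : Kˣ) : K) ^ 2 * a) := fun a t => by
    rw [hxT]; congr 2
    rw [← mul_assoc, ← mul_pow, ← Units.val_mul, mul_inv_cancel, Units.val_one, one_pow, one_mul]
  have hSw : ∀ g ∈ S, w 1 * g ∈ S := by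
    rintro g (⟨v, t, rfl⟩ | ⟨v, t, r, rfl⟩)
    · exact Or.inr ⟨0, t⁻¹, ((t⁻¹ : Kˣ) : K) ^ 2 * v, by rw [hTx, ← mul_assoc, hwT, R.x_zero, one_mul]⟩
    · rw [show w 1 * (x v * T t * w 1 * x r) = w 1 * x v * (T t * w 1) * x r by group,
        show T t * w 1 = w 1 * T t⁻¹ by rw [hwT, inv_inv]]
      rcases eq_or_ne v 0 with rfl | hv
      · rw [R.x_zero, mul_one, ← mul_assoc (w 1), hw2, ← map_mul, hxT]
        exact Or.inl ⟨_, _, rfl⟩
      · obtain ⟨v, rfl⟩ : ∃ v' : Kˣ, v = v' := ⟨Units.mk0 v hv, rfl⟩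
        have hwx : w 1 * x (v : K) = y ((-v : Kˣ) : K) * w 1 := by
          refine mul_inv_eq_iff_eq_mul.1 ?_
          rw [R.w_conj 1 v one_ne_zero]; simp
        refine Or.inr ⟨((-v : Kˣ) : K)⁻¹, -(-v)⁻¹ * -1 * t,
          ((((-1 : Kˣ) * t⁻¹)⁻¹ : Kˣ) : K) ^ 2 * ((-v : Kˣ) : K)⁻¹ + r, ?_⟩
        rw [hwx, eqy]
        set a := ((-v : Kˣ) : K)⁻¹
        calc x a * T (-(-v)⁻¹) * w 1 * x a * w 1 * (w 1 * T t⁻¹) * x r
            = x a * T (-(-v)⁻¹) * w 1 * (x a * ((w 1 * w 1) * T t⁻¹)) * x r := by group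
          _ = x a * T (-(-v)⁻¹) * (w 1 * T (-1 * t⁻¹)) *
              (x (((((-1 : Kˣ) * t⁻¹)⁻¹ : Kˣ) : K) ^ 2 * a) * x r) := by
            rw [hw2, ← map_mul, show x a * T (-1 * t⁻¹) = _ from hTx a _]; group
          _ = _ := by
            rw [hwT, R.x_add, show T (-(-v)⁻¹ * -1 * t) = T (-(-v)⁻¹) * T ((-1 * t⁻¹)⁻¹) by
              rw [← map_mul]; congr 1; simp [mul_assoc]]
            group
  have hall : ∀ g, g ∈ S := by
    intro g
    have hg : g ∈ Subgroup.closure (Set.range x ∪ Set.range y) := by rw [hgen]; trivial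
    have hy' : ∀ s, ∀ g ∈ S, y s * g ∈ S := by
      intro s g hg
      rcases eq_or_ne s 0 with rfl | hs
      · rwa [R.y_zero, one_mul]
      · rw [← Units.val_mk0 hs, eqy, show ∀ a b c d : G, a * b * c * d * g = a * (b * (c * (d * g))) by intros; group]
        exact hSx _ _ (hST _ _ (hSw _ (hSx _ _ hg)))
    induction hg using Subgroup.closure_induction_left with
    | one => exact Or.inl ⟨0, 1, by rw [R.x_zero, map_one, one_mul]⟩
    | mul_left a ha g _ ih =>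
      rcases ha with ⟨s, rfl⟩ | ⟨s, rfl⟩
      · exact hSx s g ih
      · exact hy' s g ih
    | inv_mul_cancel a ha g _ ih =>
      rcases ha with ⟨s, rfl⟩ | ⟨s, rfl⟩
      · rw [R.x_inv]; exact hSx _ g ih
      · rw [R.y_inv]; exact hy' _ g ih
  intro g hg
  rw [MonoidHom.mem_ker] at hg
  rw [Subgroup.mem_bot]
  have hTm : ∀ t : Kˣ, (φ (T t) : Matrix (Fin 2) (Fin 2) K) = !![(t : K), 0; 0, (t : K)⁻¹] := fun t =>
    R.map_h φ hx hy t.ne_zero
  rcases hall g with ⟨u, t, rfl⟩ | ⟨v, t, r, rfl⟩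
  · have e := congrArg (fun M : Matrix.SpecialLinearGroup (Fin 2) K => (M : Matrix (Fin 2) (Fin 2) K)) hg
    simp only [map_mul, Matrix.SpecialLinearGroup.coe_mul, Matrix.SpecialLinearGroup.coe_one, hx, hTm] at e
    have e00 := congrFun (congrFun e 0) 0
    have e01 := congrFun (congrFun e 0) 1
    simp [Matrix.mul_apply, Fin.sum_univ_two] at e00 e01
    subst e00
    simp_all [R.x_zero]
  · have e := congrArg (fun M : Matrix.SpecialLinearGroup (Fin 2) K => (M : Matrix (Fin 2) (Fin 2) K)) hg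
    simp only [map_mul, Matrix.SpecialLinearGroup.coe_mul, Matrix.SpecialLinearGroup.coe_one, hx, hTm,
      R.map_w φ hx hy one_ne_zero] at e
    have e10 := congrFun (congrFun e 1) 0
    simp [Matrix.mul_apply, Fin.sum_univ_two] at e10

end SL2Rels

end Cfsg.Agent.H54.Presentation
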