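import Cfsg.Agent.H28.BNBasic

/-!
Double cosets of parabolic subgroups in a (B,N)-pair: descent-free representatives, reduced products, the longest
element.
-/

set_option autoImplicit false
set_option linter.unusedSectionVars false

namespace Cfsg.Agent.H54.BNC

open Cfsg.Agent.H28

variable {G : Type*} [Group G] {P : Cfsg.BNPair G}

theorem eqv_trans {a b c : G} (h : a⁻¹ * b ∈ P.B) (h' : b⁻¹ * c ∈ P.B) : a⁻¹ * c ∈ P.B := by
  have e : a⁻¹ * c = (a⁻¹ * b) * (b⁻¹ * c) := by group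
  rw [e]; exact mul_mem h h'

theorem eqv_symm {a b : G} (h : a⁻¹ * b ∈ P.B) : b⁻¹ * a ∈ P.B := by
  have e : b⁻¹ * a = (a⁻¹ * b)⁻¹ := by group
  rw [e]; exact inv_mem h

theorem eqv_left {a b c : G} (h : a⁻¹ * b ∈ P.B) : (c * a)⁻¹ * (c * b) ∈ P.B := by
  simpa [mul_assoc] using h

theorem eqv_right {a b c : G} (ha : a ∈ P.N) (hb : b ∈ P.N) (hc : c ∈ P.N) (h : a⁻¹ * b ∈ P.B) :
    (a * c)⁻¹ * (b * c) ∈ P.B := by
  have e : (a * c)⁻¹ * (b * c) = c⁻¹ * (a⁻¹ * b) * c := by group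
  rw [e]
  exact (conj_T' hc (Subgroup.mem_inf.2 ⟨h, mul_mem (inv_mem ha) hb⟩)).1

theorem eqv_inv {a b : G} (ha : a ∈ P.N) (hb : b ∈ P.N) (h : a⁻¹ * b ∈ P.B) : a⁻¹⁻¹ * b⁻¹ ∈ P.B := by
  have e : a⁻¹⁻¹ * b⁻¹ = a * (a⁻¹ * b)⁻¹ * a⁻¹ := by group
  rw [e]
  exact (conj_T ha (inv_mem (Subgroup.mem_inf.2 ⟨h, mul_mem (inv_mem ha) hb⟩))).1

theorem eqv_S_inv {s : G} (hs : s ∈ P.S) : s⁻¹⁻¹ * s ∈ P.B := by
  rw [inv_inv]; exact P.sq_mem s hs

/-! ### Words -/

theorem rep_append {A B : List G} {a b : G} (ha : a ∈ P.N) (hb : b ∈ P.N) (hA : Rep P A a) (hB : Rep P B b) :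
    Rep P (A ++ B) (a * b) := by
  refine ⟨fun x hx => (List.mem_append.1 hx).elim (hA.1 x) (hB.1 x), ?_⟩
  rw [List.prod_append]
  exact eqv_trans (eqv_left hB.2) (eqv_right (prod_mem_N hA.1) ha hb hA.2)

theorem len_mul_le {a b : G} (ha : a ∈ P.N) (hb : b ∈ P.N) : len P (a * b) ≤ len P a + len P b := by
  obtain ⟨A, hA, hA'⟩ := exists_red ha
  obtain ⟨B, hB, hB'⟩ := exists_red hb
  have := len_le (rep_append ha hb hA hB)
  rw [List.length_append] at this
  omega

theorem rep_self {L : List G} (h : ∀ x ∈ L, x ∈ P.S) : Rep P L L.prod := ⟨h, by simp⟩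

theorem rep_single {s : G} (hs : s ∈ P.S) : Rep P [s] s := ⟨by simpa using hs, by simp⟩

theorem rep_reverse : ∀ {L : List G} {n : G}, n ∈ P.N → Rep P L n → Rep P L.reverse n⁻¹ := by
  intro L
  induction L with
  | nil =>
    intro n _ h
    exact ⟨by simp, by simpa using inv_mem h.2⟩
  | cons s L ih =>
    intro n hn h
    have hs : s ∈ P.S := h.1 s (by simp)
    have hL : ∀ x ∈ L, x ∈ P.S := fun x hx => h.1 x (by simp [hx])
    have hp := prod_mem_N hL
    have h1 := ih hp (rep_self hL)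
    rw [List.reverse_cons]
    have h2 := rep_append (inv_mem hp) (S_mem_N hs) h1 (rep_single hs)
    refine h2.congr (eqv_trans (b := L.prod⁻¹ * s⁻¹) ?_ ?_)
    · exact eqv_left (eqv_symm (eqv_S_inv hs))
    · have h3 : (s * L.prod)⁻¹⁻¹ * n⁻¹ ∈ P.B := eqv_inv (mul_mem (S_mem_N hs) hp) hn (by simpa using h.2)
      rwa [mul_inv_rev s L.prod] at h3

theorem len_inv_le {n : G} (hn : n ∈ P.N) : len P n⁻¹ ≤ len P n := by
  obtain ⟨L, hL, hl⟩ := exists_red hn
  simpa [hl] using len_le (rep_reverse hn hL)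

theorem len_inv {n : G} (hn : n ∈ P.N) : len P n⁻¹ = len P n := by
  refine le_antisymm (len_inv_le hn) ?_
  simpa using len_inv_le (inv_mem hn)

theorem len_mul_S_inv {n s : G} (hn : n ∈ P.N) (hs : s ∈ P.S) : len P (s⁻¹ * n) = len P (s * n) :=
  len_congr (eqv_right (S_mem_N hs) (inv_mem (S_mem_N hs)) hn (eqv_symm (eqv_S_inv hs)))

theorem len_inv_mul {n s : G} (hn : n ∈ P.N) (hs : s ∈ P.S) : len P (s * n⁻¹) = len P (n * s) := by
  rw [← len_inv (mul_mem hn (S_mem_N hs)), mul_inv_rev, len_mul_S_inv (inv_mem hn) hs]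

/-! ### Descents -/

/-- No left descents in `J`. -/
def LFree (P : Cfsg.BNPair G) (J : Set G) (n : G) : Prop := ∀ s ∈ J, len P n < len P (s * n)

/-- No right descents in `K`. -/
def RFree (P : Cfsg.BNPair G) (K : Set G) (n : G) : Prop := ∀ s ∈ K, len P n < len P (n * s)

theorem len_cases_right {s n : G} (hs : s ∈ P.S) (hn : n ∈ P.N) :
    len P (n * s) = len P n + 1 ∨ len P (n * s) + 1 = len P n := by
  have h := len_cases hs (inv_mem hn)
  rwa [len_inv_mul hn hs, len_inv hn] at h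

theorem LFree.congr {J : Set G} (hJ : J ⊆ P.S) {n n' : G} (h : LFree P J n) (e : n⁻¹ * n' ∈ P.B) :
    LFree P J n' := fun s hs => by
  have := hJ hs
  rw [len_congr e, len_congr (n := s * n) (n' := s * n') (eqv_left e)]
  exact h s hs

theorem RFree.congr {K : Set G} (hK : K ⊆ P.S) {n n' : G} (hn : n ∈ P.N) (hn' : n' ∈ P.N) (h : RFree P K n)
    (e : n⁻¹ * n' ∈ P.B) : RFree P K n' := fun s hs => by
  rw [len_congr e, len_congr (n := n * s) (n' := n' * s) (eqv_right hn hn' (S_mem_N (hK hs)) e)]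
  exact h s hs

theorem exchange_right {L : List G} {s n : G} (hs : s ∈ P.S) (hn : n ∈ P.N) (hL : Rep P L n)
    (hl : L.length = len P n) (hlt : len P (n * s) < len P n) :
    ∃ L' : List G, L'.Sublist L ∧ L'.length + 1 = L.length ∧ Rep P L' (n * s) := by
  obtain ⟨L', h1, h2, h3⟩ := exchange hs (inv_mem hn) (rep_reverse hn hL)
    (by rw [List.length_reverse, hl, len_inv hn]) (by rwa [len_inv_mul hn hs, len_inv hn])
  refine ⟨L'.reverse, ?_, ?_, ?_⟩
  · simpa using h1.reverse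
  · simpa using h2
  · refine (rep_reverse (mul_mem (S_mem_N hs) (inv_mem hn)) h3).congr ?_
    rw [mul_inv_rev, inv_inv]
    exact eqv_left (eqv_S_inv hs)

theorem exists_reduced_sublist : ∀ {L : List G} {n : G}, n ∈ P.N → Rep P L n →
    ∃ R : List G, R.Sublist L ∧ Rep P R n ∧ R.length = len P n := by
  intro L
  induction hk : L.length using Nat.strong_induction_on generalizing L with
  | _ k ih =>
    intro n hn h
    by_cases hl : L.length = len P n
    · exact ⟨L, List.Sublist.refl _, h, hl⟩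
    · obtain ⟨L', hs, hlt, hr⟩ := deletion hn h hl
      obtain ⟨R, h1, h2, h3⟩ := ih L'.length (hk ▸ hlt) rfl hn hr
      exact ⟨R, h1.trans hs, h2, h3⟩

theorem not_LFree_of_cons {J : Set G} {a : G} {R : List G} {n : G} (hn : n ∈ P.N) (ha : a ∈ J)
    (hR : Rep P (a :: R) n) (hl : (a :: R).length = len P n) : ¬ LFree P J n := fun h => by
  have haS : a ∈ P.S := hR.1 a (by simp)
  have hr : Rep P R (a⁻¹ * n) :=
    ⟨fun x hx => hR.1 x (by simp [hx]), by simpa [mul_assoc] using hR.2⟩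
  have := len_le hr
  rw [len_mul_S_inv hn haS] at this
  have := h a ha
  simp only [List.length_cons] at hl
  omega

theorem not_RFree_of_concat {K : Set G} {b : G} {R : List G} {n : G} (hn : n ∈ P.N) (hb : b ∈ K)
    (hR : Rep P (R ++ [b]) n) (hl : (R ++ [b]).length = len P n) : ¬ RFree P K n := fun h => by
  have hbS : b ∈ P.S := hR.1 b (by simp)
  have h2 := rep_reverse hn hR
  rw [List.reverse_append, List.reverse_singleton, List.singleton_append] at h2
  refine not_LFree_of_cons (J := {b}) (inv_mem hn) rfl h2 ?_ fun s hs => ?_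
  · rw [List.length_cons, List.length_reverse, len_inv hn, ← hl]; simp
  · rw [Set.mem_singleton_iff] at hs
    subst hs
    rw [len_inv_mul hn hbS, len_inv hn]; exact h s hb

/-! ### Products of cells -/

theorem mul_dc_subword : ∀ {L : List G}, (∀ x ∈ L, x ∈ P.S) → ∀ {n x y : G}, n ∈ P.N → x ∈ dc P L.prod →
    y ∈ dc P n → ∃ L' : List G, L'.Sublist L ∧ x * y ∈ dc P (L'.prod * n) := by
  intro L
  induction L with
  | nil =>
    intro _ n x y _ hx hy
    refine ⟨[], List.Sublist.refl _, ?_⟩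
    rw [List.prod_nil, mem_dc_one] at hx
    rw [List.prod_nil, one_mul]
    exact left_mem_dc hx hy
  | cons s L ih =>
    intro hL n x y hn hx hy
    have hs : s ∈ P.S := hL s (by simp)
    have hL' : ∀ z ∈ L, z ∈ P.S := fun z hz => hL z (by simp [hz])
    obtain ⟨b1, hb1, b2, hb2, rfl⟩ := (mem_dc P).1 hx
    obtain ⟨R, hR, h⟩ := ih hL' hn (self_mem_dc P L.prod) (left_mem_dc hb2 hy)
    obtain ⟨c1, hc1, c2, hc2, e⟩ := (mem_dc P).1 h
    have hRS : ∀ z ∈ R, z ∈ P.S := fun z hz => hL' z (hR.subset hz)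
    have e2 : b1 * (s :: L).prod * b2 * y = b1 * (s * c1 * (R.prod * n)) * c2 := by
      rw [List.prod_cons]
      calc b1 * (s * L.prod) * b2 * y = b1 * s * (L.prod * (b2 * y)) := by group
        _ = _ := by rw [e]; group
    rw [e2]
    rcases axiom_left hs (mul_mem (prod_mem_N hRS) hn) hc1 with h1 | h1
    · refine ⟨s :: R, hR.cons_cons s, ?_⟩
      rw [List.prod_cons, mul_assoc s]
      exact right_mem_dc (left_mem_dc hb1 h1) hc2
    · exact ⟨R, hR.cons s, right_mem_dc (left_mem_dc hb1 h1) hc2⟩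

theorem exists_word {J : Set G} (hJ : J ⊆ P.S) {x : G} (hx : x ∈ P.parabolic J) :
    ∃ L : List G, (∀ z ∈ L, z ∈ J) ∧ x ∈ dc P L.prod := by
  obtain ⟨c, hc, hxc⟩ := mem_parabolic hJ hx
  obtain ⟨L, hLJ, hL⟩ := exists_rep_of_mem hJ hc
  exact ⟨L, hLJ, by rw [← dc_eq_of_equiv hL.2]; exact hxc⟩

theorem mul_mem_dc_reduced : ∀ {L : List G} {n x y : G}, (∀ z ∈ L, z ∈ P.S) → n ∈ P.N →
    len P (L.prod * n) = L.length + len P n → x ∈ dc P L.prod → y ∈ dc P n → x * y ∈ dc P (L.prod * n) := by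
  intro L
  induction L with
  | nil =>
    intro n x y _ _ _ hx hy
    rw [List.prod_nil, mem_dc_one] at hx
    rw [List.prod_nil, one_mul]
    exact left_mem_dc hx hy
  | cons s L ih =>
    intro n x y hL hn hlen hx hy
    have hs : s ∈ P.S := hL s (by simp)
    have hL' : ∀ z ∈ L, z ∈ P.S := fun z hz => hL z (by simp [hz])
    have hm : L.prod * n ∈ P.N := mul_mem (prod_mem_N hL') hn
    have h1 : len P (L.prod * n) = L.length + len P n := by
      have ha := len_cons_le hs hm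
      have hb := len_mul_le (prod_mem_N hL') hn
      have hc := len_le (rep_self hL')
      rw [List.prod_cons, mul_assoc, List.length_cons] at hlen
      omega
    obtain ⟨b1, hb1, b2, hb2, rfl⟩ := (mem_dc P).1 hx
    have h := ih hL' hn h1 (self_mem_dc P L.prod) (left_mem_dc hb2 hy)
    obtain ⟨c1, hc1, c2, hc2, e⟩ := (mem_dc P).1 h
    have e2 : b1 * (s :: L).prod * b2 * y = b1 * (s * c1 * (L.prod * n)) * c2 := by
      rw [List.prod_cons]
      calc b1 * (s * L.prod) * b2 * y = b1 * s * (L.prod * (b2 * y)) := by group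
        _ = _ := by rw [e]; group
    rw [e2, List.prod_cons, mul_assoc s]
    exact right_mem_dc (left_mem_dc hb1 (mul_mem_dc_of_len_le _ hs hm rfl
      (by rw [List.prod_cons, mul_assoc, List.length_cons] at hlen; omega) c1 hc1)) hc2

theorem mul_mem_dc_additive {a b x y : G} (ha : a ∈ P.N) (hb : b ∈ P.N)
    (hlen : len P (a * b) = len P a + len P b) (hx : x ∈ dc P a) (hy : y ∈ dc P b) :
    x * y ∈ dc P (a * b) := by
  obtain ⟨L, hL, hl⟩ := exists_red ha
  have e : (L.prod * b)⁻¹ * (a * b) ∈ P.B := eqv_right (prod_mem_N hL.1) ha hb hL.2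
  rw [dc_eq_of_equiv e]
  refine mul_mem_dc_reduced hL.1 hb ?_ ?_ hy
  · rw [← len_congr e, hlen, hl]
  · rw [← dc_eq_of_equiv hL.2]; exact hx

/-! ### Parabolic double cosets -/

theorem prod_mem_parabolic {J : Set G} {L : List G} (h : ∀ x ∈ L, x ∈ J) : L.prod ∈ P.parabolic J :=
  Subgroup.mem_sup_right (list_prod_mem fun x hx => Subgroup.subset_closure (h x hx))

theorem B_le_parabolic {J : Set G} : P.B ≤ P.parabolic J := le_sup_left

theorem parabolic_empty : P.parabolic ∅ = P.B := by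
  rw [Cfsg.BNPair.parabolic, Subgroup.closure_empty, sup_bot_eq]

/-- The parabolic double coset of `n`. -/
def InPP (P : Cfsg.BNPair G) (J K : Set G) (n m : G) : Prop :=
  ∃ p ∈ P.parabolic J, ∃ q ∈ P.parabolic K, m = p * n * q

theorem InPP.refl (J K : Set G) (n : G) : InPP P J K n n := ⟨1, one_mem _, 1, one_mem _, by simp⟩

theorem InPP.symm {J K : Set G} {n m : G} (h : InPP P J K n m) : InPP P J K m n := by
  obtain ⟨p, hp, q, hq, rfl⟩ := h
  exact ⟨p⁻¹, inv_mem hp, q⁻¹, inv_mem hq, by group⟩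

theorem InPP.trans {J K : Set G} {n m l : G} (h : InPP P J K n m) (h' : InPP P J K m l) : InPP P J K n l := by
  obtain ⟨p, hp, q, hq, rfl⟩ := h
  obtain ⟨p', hp', q', hq', rfl⟩ := h'
  exact ⟨p' * p, mul_mem hp' hp, q * q', mul_mem hq hq', by group⟩

theorem word_of_mem_pp {J K : Set G} (hJ : J ⊆ P.S) (hK : K ⊆ P.S) {n m : G} (hn : n ∈ P.N) (hm : m ∈ P.N)
    (h : InPP P J K n m) :
    ∃ A B : List G, (∀ x ∈ A, x ∈ J) ∧ (∀ x ∈ B, x ∈ K) ∧ (A.prod * n * B.prod)⁻¹ * m ∈ P.B := by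
  obtain ⟨p, hp, q, hq, rfl⟩ := h
  obtain ⟨A, hA, hpA⟩ := exists_word hJ hp
  obtain ⟨A', hA', h1⟩ := mul_dc_subword (fun x hx => hJ (hA x hx)) hn hpA (self_mem_dc P n)
  have hA'J : ∀ x ∈ A', x ∈ J := fun x hx => hA x (hA'.subset hx)
  have hA'N : A'.prod ∈ P.N := prod_mem_N fun x hx => hJ (hA'J x hx)
  obtain ⟨B, hB, hqB⟩ := exists_word hK (inv_mem hq)
  obtain ⟨B', hB', h2⟩ := mul_dc_subword (fun x hx => hK (hB x hx)) (inv_mem (mul_mem hA'N hn)) hqB (inv_mem_dc h1)
  have hB'K : ∀ x ∈ B', x ∈ K := fun x hx => hB x (hB'.subset hx)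
  have hB'S : ∀ x ∈ B', x ∈ P.S := fun x hx => hK (hB'K x hx)
  have h3 := inv_mem_dc h2
  simp only [mul_inv_rev, inv_inv] at h3
  have h4 := dc_inj hm (mul_mem (mul_mem hA'N hn) (inv_mem (prod_mem_N hB'S))) h3
  have hr := rep_reverse (prod_mem_N hB'S) (rep_self hB'S)
  exact ⟨A', B'.reverse, hA'J, fun x hx => hB'K x (List.mem_reverse.1 hx),
    eqv_trans (eqv_left hr.2) (eqv_symm h4)⟩

theorem eqv_of_free {J K : Set G} (hJ : J ⊆ P.S) (hK : K ⊆ P.S) {n m : G} (hn : n ∈ P.N) (hm : m ∈ P.N)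
    (hmin : ∀ x ∈ P.N, InPP P J K n x → len P n ≤ len P x) (h : InPP P J K n m) (hLf : LFree P J m)
    (hRf : RFree P K m) : n⁻¹ * m ∈ P.B := by
  obtain ⟨A, B, hA, hB, hAB⟩ := word_of_mem_pp hJ hK hn hm h
  obtain ⟨L, hL, hl⟩ := exists_red hn
  have hAS : ∀ x ∈ A, x ∈ P.S := fun x hx => hJ (hA x hx)
  have hBS : ∀ x ∈ B, x ∈ P.S := fun x hx => hK (hB x hx)
  have hrep : Rep P ((A ++ L) ++ B) m := (rep_append (mul_mem (prod_mem_N hAS) hn) (prod_mem_N hBS)
    (rep_append (prod_mem_N hAS) hn (rep_self hAS) hL) (rep_self hBS)).congr hAB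
  obtain ⟨R, hR, hRrep, hRl⟩ := exists_reduced_sublist hm hrep
  obtain ⟨AL, B', rfl, hAL, hB'⟩ := List.sublist_append_iff.1 hR
  obtain ⟨A', L', rfl, hA', hL'⟩ := List.sublist_append_iff.1 hAL
  rcases A' with _ | ⟨a, A'⟩
  swap
  · simp only [List.cons_append] at hRrep hRl
    exact absurd hLf (not_LFree_of_cons hm (hA a (hA'.subset (by simp))) hRrep hRl)
  rcases List.eq_nil_or_concat B' with rfl | ⟨B'', b, rfl⟩
  swap
  · rw [List.concat_eq_append] at hRrep hRl hB'
    rw [← List.append_assoc] at hRrep hRl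
    exact absurd hRf (not_RFree_of_concat hm (hB b (hB'.subset (by simp))) hRrep hRl)
  simp only [List.nil_append, List.append_nil] at hRrep hRl
  have hle : L'.length ≤ L.length := hL'.length_le
  have hmn : len P n ≤ len P m := hmin m hm h
  have he : L' = L := hL'.eq_of_length (by omega)
  subst he
  exact eqv_trans (eqv_symm hL.2) hRrep.2

theorem exists_min {J K : Set G} (hJ : J ⊆ P.S) (hK : K ⊆ P.S) (g : G) :
    ∃ n ∈ P.N, InPP P J K g n ∧ (∀ x ∈ P.N, InPP P J K n x → len P n ≤ len P x) ∧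
      LFree P J n ∧ RFree P K n := by
  classical
  have hex : ∃ d, ∃ x ∈ P.N, InPP P J K g x ∧ len P x = d := by
    obtain ⟨n, hn, hg⟩ := bruhat (P := P) g
    obtain ⟨a, ha, b, hb, rfl⟩ := (mem_dc P).1 hg
    exact ⟨_, n, hn, ⟨a⁻¹, inv_mem (B_le_parabolic ha), b⁻¹, inv_mem (B_le_parabolic hb), by group⟩, rfl⟩
  obtain ⟨n, hn, hgn, hlen⟩ := Nat.find_spec hex
  have hmin : ∀ x ∈ P.N, InPP P J K n x → len P n ≤ len P x := fun x hx hnx => by
    rw [hlen]; exact Nat.find_le ⟨x, hx, hgn.trans hnx, rfl⟩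
  refine ⟨n, hn, hgn, hmin, fun s hs => ?_, fun s hs => ?_⟩
  · have h1 := hmin (s * n) (mul_mem (S_mem_N (hJ hs)) hn)
      ⟨s, Subgroup.mem_sup_right (Subgroup.subset_closure hs), 1, one_mem _, by simp⟩
    have h2 := len_cases (hJ hs) hn
    omega
  · have h1 := hmin (n * s) (mul_mem hn (S_mem_N (hK hs)))
      ⟨1, one_mem _, s, Subgroup.mem_sup_right (Subgroup.subset_closure hs), by simp⟩
    have h2 := len_cases_right (hK hs) hn
    omega

/-- Descent-free representatives of a parabolic double coset are unique. -/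
theorem free_unique {J K : Set G} (hJ : J ⊆ P.S) (hK : K ⊆ P.S) {n m : G} (hn : n ∈ P.N) (hm : m ∈ P.N)
    (h : InPP P J K n m) (hLn : LFree P J n) (hRn : RFree P K n) (hLm : LFree P J m) (hRm : RFree P K m) :
    n⁻¹ * m ∈ P.B := by
  obtain ⟨x, hx, hgx, hmin, -, -⟩ := exists_min hJ hK n
  exact eqv_trans (eqv_symm (eqv_of_free hJ hK hx hn hmin hgx.symm hLn hRn))
    (eqv_of_free hJ hK hx hm hmin (hgx.symm.trans h) hLm hRm)

theorem len_add_of_RFree {K : Set G} (hK : K ⊆ P.S) {n c : G} (hn : n ∈ P.N) (hRn : RFree P K n)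
    (hc : c ∈ Subgroup.closure K ⊔ (P.B ⊓ P.N)) : len P (n * c) = len P n + len P c := by
  have hcN : c ∈ P.N := sup_T_le_N hK hc
  refine le_antisymm (len_mul_le hn hcN) ?_
  obtain ⟨C, hCK, hC, hCl⟩ := exists_red_of_mem hK hc
  obtain ⟨L, hL, hl⟩ := exists_red hn
  obtain ⟨R, hR, hRrep, hRl⟩ := exists_reduced_sublist (mul_mem hn hcN) (rep_append hn hcN hL hC)
  obtain ⟨L', C', rfl, hL', hC'⟩ := List.sublist_append_iff.1 hR
  have hL'S : ∀ x ∈ L', x ∈ P.S := fun x hx => hL.1 x (hL'.subset hx)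
  have hC'S : ∀ x ∈ C', x ∈ P.S := fun x hx => hC.1 x (hC'.subset hx)
  -- `L'` represents an element of the coset `n P_K`
  have hmem : InPP P ∅ K n L'.prod := by
    have h1 := hRrep.2
    rw [List.prod_append] at h1
    refine ⟨1, one_mem _, c * ((L'.prod * C'.prod)⁻¹ * (n * c))⁻¹ * C'.prod⁻¹, ?_, by group⟩
    refine mul_mem (mul_mem ?_ (inv_mem (B_le_parabolic h1)))
      (inv_mem (prod_mem_parabolic fun x hx => hCK x (hC'.subset hx)))
    exact (sup_le le_sup_right (inf_le_left.trans le_sup_left) :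
      Subgroup.closure K ⊔ (P.B ⊓ P.N) ≤ P.parabolic K) hc
  obtain ⟨x, hx, hgx, hmin, -, -⟩ := exists_min (J := (∅ : Set G)) (Set.empty_subset _) hK n
  have hxn := eqv_of_free (Set.empty_subset _) hK hx hn hmin hgx.symm (fun s hs => hs.elim) hRn
  have h2 : len P n ≤ L'.length := by
    rw [len_congr hxn]
    exact (hmin _ (prod_mem_N hL'S) (hgx.symm.trans hmem)).trans (len_le (rep_self hL'S))
  have he : L' = L := hL'.eq_of_length (le_antisymm hL'.length_le (hl ▸ h2))
  subst he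
  have h3 : Rep P C' c := by
    refine ⟨hC'S, ?_⟩
    have h1 := hRrep.2
    rw [List.prod_append] at h1
    have h4 := eqv_trans h1 (eqv_symm (eqv_right (prod_mem_N hL.1) hn hcN hL.2))
    simpa [mul_assoc] using h4
  have h5 := len_le h3
  rw [List.length_append] at hRl
  omega

/-! ### The longest element -/

/-- All generators are descents. -/
def AllDesc (P : Cfsg.BNPair G) (w : G) : Prop := ∀ s ∈ P.S, len P (w * s) < len P w

theorem len_eq_add_of_allDesc {w : G} (hw : w ∈ P.N) (h : AllDesc P w) {x : G} (hx : x ∈ P.N) :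
    len P w = len P (w * x⁻¹) + len P x := by
  induction hd : len P x using Nat.strong_induction_on generalizing x with
  | _ d ih =>
    rcases Nat.eq_zero_or_pos d with rfl | hd0
    · have hxB := mem_B_of_len_eq_zero hx hd
      have h1 := conj_T hw (inv_mem (Subgroup.mem_inf.2 ⟨hxB, hx⟩ : x ∈ P.B ⊓ P.N))
      rw [len_congr (n := w) (n' := w * x⁻¹) (by simpa using inv_mem hxB)]
      omega
    obtain ⟨m, z, hm, hz, hml, hmz⟩ := exists_rep_last hx (by omega)
    have hih := ih (len P m) (by omega) hm rfl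
    have hwm : w * m⁻¹ ∈ P.N := mul_mem hw (inv_mem hm)
    obtain ⟨V, hV, hVl⟩ := exists_red hwm
    obtain ⟨Mw, hM, hMl⟩ := exists_red hm
    have hVM : Rep P (V ++ Mw) w := by
      have := rep_append hwm hm hV hM
      rwa [inv_mul_cancel_right] at this
    obtain ⟨R, hR, hRl, hRrep⟩ := exchange_right hz hw hVM (by rw [List.length_append]; omega) (h z hz)
    obtain ⟨V', M', rfl, hV', hM'⟩ := List.sublist_append_iff.1 hR
    have hV'S : ∀ y ∈ V', y ∈ P.S := fun y hy => hV.1 y (hV'.subset hy)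
    have hM'S : ∀ y ∈ M', y ∈ P.S := fun y hy => hM.1 y (hM'.subset hy)
    have hVp := prod_mem_N hV'S
    have hMp := prod_mem_N hM'S
    have hR2 : (V'.prod * M'.prod)⁻¹ * (w * z) ∈ P.B := by simpa using hRrep.2
    rw [List.length_append, List.length_append] at hRl
    by_cases hMM : M' = Mw
    · subst hMM
      have hl' : len P (w * x⁻¹) ≤ V'.length := by
        refine len_le ⟨hV'S, ?_⟩
        have e1 : (V'.prod * M'.prod)⁻¹ * ((w * x⁻¹) * m) ∈ P.B := by
          refine eqv_trans hR2 ?_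
          have hxm : x⁻¹ * m ∈ P.N := mul_mem (inv_mem hx) hm
          refine eqv_trans (b := w * (x⁻¹ * m)) ?_ (by simp [mul_assoc])
          refine eqv_left (eqv_trans (b := z⁻¹) (eqv_symm (eqv_S_inv hz)) ?_)
          have e2 := eqv_right (inv_mem (mul_mem hm (S_mem_N hz))) (inv_mem hx) hm
            (eqv_inv (mul_mem hm (S_mem_N hz)) hx hmz)
          simpa using e2
        have e3 := eqv_right (mul_mem hVp hMp) (mul_mem (mul_mem hw (inv_mem hx)) hm) (inv_mem hm) e1
        rw [mul_inv_cancel_right] at e3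
        refine eqv_trans (b := V'.prod * M'.prod * m⁻¹) ?_ e3
        have e4 := eqv_right hMp hm (inv_mem hm) hM.2
        rw [mul_inv_cancel] at e4
        rw [mul_assoc]
        have e5 := eqv_left (c := V'.prod) (eqv_symm e4)
        simpa using e5
      have hge : len P w ≤ len P (w * x⁻¹) + len P x := by
        have := len_mul_le (mul_mem hw (inv_mem hx)) hx
        rwa [inv_mul_cancel_right] at this
      omega
    · exfalso
      have hM'lt : M'.length < Mw.length :=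
        lt_of_le_of_ne hM'.length_le fun e => hMM (hM'.eq_of_length e)
      have hV'le := hV'.length_le
      have hVe : V' = V := hV'.eq_of_length (by omega)
      subst hVe
      have h1 : (w * m⁻¹ * M'.prod)⁻¹ * (w * z) ∈ P.B :=
        eqv_trans (eqv_symm (eqv_right hVp hwm hMp hV.2)) hR2
      have h2 : M'.prod⁻¹ * (m * z) ∈ P.B := by
        simpa [mul_assoc] using h1
      have h3 : Rep P M' x := ⟨hM'S, eqv_trans h2 hmz⟩
      have := len_le h3
      omega

variable (P) in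
theorem exists_longest [Finite G] : ∃ w ∈ P.N, AllDesc P w ∧ ∀ x ∈ P.N, len P x ≤ len P w := by
  obtain ⟨⟨w, hw⟩, hmax⟩ := Finite.exists_max (fun x : P.N => len P (x : G))
  refine ⟨w, hw, fun s hs => ?_, fun x hx => hmax ⟨x, hx⟩⟩
  have := hmax ⟨w * s, mul_mem hw (S_mem_N hs)⟩
  have := len_cases_right hs hw
  simp only at *
  omega

theorem allDesc_unique {w w' : G} (hw : w ∈ P.N) (hw' : w' ∈ P.N) (h : AllDesc P w)
    (hmax : ∀ x ∈ P.N, len P x ≤ len P w') : w'⁻¹ * w ∈ P.B := by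
  have hx : w'⁻¹ * w ∈ P.N := mul_mem (inv_mem hw') hw
  have h1 := len_eq_add_of_allDesc hw h hx
  rw [show w * (w'⁻¹ * w)⁻¹ = w' by group] at h1
  have := hmax w hw
  exact mem_B_of_len_eq_zero hx (by omega)

end Cfsg.Agent.H54.BNC
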