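import Cfsg.Prelude.Def_ParabolicCharacters
import Cfsg.Prelude.Def_Characters
import Cfsg.Agent.H54.BNCosets
import Cfsg.Agent.H54.PermChar
import Cfsg.Agent.CharInduce.Ops

/-!
The Steinberg character of a finite group with a (B,N)-pair: the alternating sum of the parabolic permutation
characters. Its restriction to `B` is the permutation character on the big cell and its norm is one.
-/

set_option autoImplicit false
set_option linter.unusedSectionVars false
set_option linter.style.haveILetI false

open scoped ComplexConjugate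

namespace Cfsg.Agent.H54.BNSt

open Cfsg.Agent.H28 BNC MulAction

universe u

variable {G : Type u} [Group G] [Finite G] (P : Cfsg.BNPair G)

/-- The classes of `N` modulo `B ⊓ N`. -/
abbrev Idx := ↥P.N ⧸ (P.B ⊓ P.N).subgroupOf P.N

/-- A representative. -/
noncomputable def rep (w : Idx P) : G := ((Quotient.out w : ↥P.N) : G)

theorem rep_mem (w : Idx P) : rep P w ∈ P.N := (Quotient.out w : ↥P.N).2

theorem idx_eq_iff {a b : ↥P.N} : (a : Idx P) = (b : Idx P) ↔ (a : G)⁻¹ * b ∈ P.B := by
  rw [QuotientGroup.eq, Subgroup.mem_subgroupOf, Subgroup.mem_inf, Subgroup.coe_mul, Subgroup.coe_inv]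
  exact ⟨And.left, fun h => ⟨h, mul_mem (inv_mem a.2) b.2⟩⟩

theorem idx_eq {w w' : Idx P} (h : (rep P w)⁻¹ * rep P w' ∈ P.B) : w = w' := by
  rw [← QuotientGroup.out_eq' w, ← QuotientGroup.out_eq' w']
  exact (idx_eq_iff P).2 h

theorem exists_idx {n : G} (hn : n ∈ P.N) : ∃ w : Idx P, n⁻¹ * rep P w ∈ P.B :=
  ⟨((⟨n, hn⟩ : ↥P.N) : Idx P), (idx_eq_iff P (a := ⟨n, hn⟩)).1 (QuotientGroup.out_eq' _).symm⟩

/-- The distinguished generators as a finset. -/
noncomputable def gens : Finset G := P.S.toFinite.toFinset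

theorem mem_gens {s : G} : s ∈ gens P ↔ s ∈ P.S := Set.Finite.mem_toFinset _

theorem coe_subset {K : Finset G} (hK : K ∈ (gens P).powerset) : (K : Set G) ⊆ P.S := fun _ hs =>
  (mem_gens P).1 (Finset.mem_powerset.1 hK hs)

/-- The alternating sum of the parabolic permutation characters. -/
noncomputable def st : G → ℂ :=
  fun g => ∑ J ∈ (gens P).powerset, (-1 : ℂ) ^ J.card * fixedPointCharacter (P.parabolic (J : Set G)) g

/-- The cell of `w` in `G ⧸ B`. -/
def cell (w : Idx P) : Set (G ⧸ P.B) := orbit ↥P.B ((rep P w : G) : G ⧸ P.B)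

theorem mem_cell {w : Idx P} {c : G ⧸ P.B} :
    c ∈ cell P w ↔ ∃ x ∈ P.B, c = ((x * rep P w : G) : G ⧸ P.B) := by
  constructor
  · rintro ⟨⟨x, hx⟩, rfl⟩
    exact ⟨x, hx, rfl⟩
  · rintro ⟨x, hx, rfl⟩
    exact ⟨⟨x, hx⟩, rfl⟩

/-- Coarsening of cosets. -/
def coarse (K : Set G) (c : G ⧸ P.B) : G ⧸ P.parabolic K := Subgroup.quotientMapOfLE B_le_parabolic c

theorem coarse_mk (K : Set G) (g : G) : coarse P K (g : G ⧸ P.B) = (g : G ⧸ P.parabolic K) := rfl

theorem coarse_smul (K : Set G) (g : G) (c : G ⧸ P.B) : coarse P K (g • c) = g • coarse P K c := by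
  induction c using QuotientGroup.induction_on with
  | H x => rfl

/-- Indices without right descents in `K`. -/
abbrev RIdx (K : Set G) := {w : Idx P // RFree P K (rep P w)}

/-- The sum of the free cells maps onto the parabolic cosets. -/
def cellMap (K : Set G) (x : Σ w : RIdx P K, ↥(cell P w.1)) : G ⧸ P.parabolic K := coarse P K x.2.1

theorem cellMap_bijective {K : Set G} (hK : K ⊆ P.S) : Function.Bijective (cellMap P K) := by
  constructor
  · rintro ⟨w, c, hc⟩ ⟨w', c', hc'⟩ h
    obtain ⟨x, hx, rfl⟩ := (mem_cell P).1 hc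
    obtain ⟨x', hx', rfl⟩ := (mem_cell P).1 hc'
    simp only [cellMap, coarse_mk, QuotientGroup.eq] at h
    have hn := rep_mem P w.1
    have hn' := rep_mem P w'.1
    have hpp : InPP P ∅ K (rep P w.1) (rep P w'.1) :=
      ⟨x'⁻¹ * x, B_le_parabolic (mul_mem (inv_mem hx') hx), _, h, by group⟩
    have hww : w = w' := Subtype.ext (idx_eq P (free_unique (Set.empty_subset _) hK hn hn' hpp
      (fun s hs => hs.elim) w.2 (fun s hs => hs.elim) w'.2))
    subst hww
    obtain ⟨c, hc, hpc⟩ := mem_parabolic hK h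
    have hadd := len_add_of_RFree hK hn w.2 hc
    have h1 := mul_mem_dc_additive hn (sup_T_le_N hK hc) hadd (self_mem_dc P _) hpc
    rw [show rep P w.1 * ((x * rep P w.1)⁻¹ * (x' * rep P w.1)) = x⁻¹ * x' * rep P w.1 by group] at h1
    have h2 := dc_inj' hn (mul_mem hn (sup_T_le_N hK hc))
      (left_mem_dc (mul_mem (inv_mem hx) hx') (self_mem_dc P (rep P w.1))) h1
    rw [inv_mul_cancel_left] at h2
    have hpB : (x * rep P w.1)⁻¹ * (x' * rep P w.1) ∈ P.B := by
      rwa [dc_of_mem_B h2, mem_dc_one] at hpc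
    exact Sigma.ext rfl (heq_of_eq (Subtype.ext (QuotientGroup.eq.2 hpB)))
  · intro d
    induction d using QuotientGroup.induction_on with
    | H g =>
      obtain ⟨n, hn, hgn, -, -, hR⟩ := exists_min (J := (∅ : Set G)) (Set.empty_subset _) hK g
      obtain ⟨w, hw⟩ := exists_idx P hn
      obtain ⟨p, hp, q, hq, hg⟩ := hgn.symm
      rw [parabolic_empty] at hp
      refine ⟨⟨⟨w, hR.congr hK hn (rep_mem P w) hw⟩, ((p * rep P w : G) : G ⧸ P.B),
        (mem_cell P).2 ⟨p, hp, rfl⟩⟩, ?_⟩
      simp only [cellMap, coarse_mk, QuotientGroup.eq, hg]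
      have e : (p * rep P w)⁻¹ * (p * n * q) = (n⁻¹ * rep P w)⁻¹ * q := by group
      rw [e]
      exact mul_mem (inv_mem (B_le_parabolic hw)) hq

/-- The fixed points of `b` in a cell. -/
noncomputable def cellFix (b : ↥P.B) (w : Idx P) : ℕ := Nat.card {c : ↥(cell P w) // (b : G) • c.1 = c.1}

theorem card_fixedBy {K : Set G} (hK : K ⊆ P.S) (b : ↥P.B) [Fintype (RIdx P K)] :
    Nat.card (fixedBy (G ⧸ P.parabolic K) (b : G)) = ∑ w : RIdx P K, cellFix P b w.1 := by
  simp only [cellFix]
  rw [← Nat.card_sigma]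
  refine (Nat.card_congr ((Equiv.subtypeEquiv (p := fun x : Σ w : RIdx P K, ↥(cell P w.1) => (b : G) • x.2.1 = x.2.1)
    (q := fun d => d ∈ fixedBy (G ⧸ P.parabolic K) (b : G))
    (Equiv.ofBijective _ (cellMap_bijective P hK)) fun x => ?_).symm.trans ?_))
  · rw [Equiv.ofBijective_apply, mem_fixedBy, cellMap, ← coarse_smul]
    refine ⟨fun h => by rw [h], fun h => ?_⟩
    have hmem : (b : G) • x.2.1 ∈ cell P x.1.1 := by
      obtain ⟨y, hy, he⟩ := (mem_cell P).1 x.2.2
      exact (mem_cell P).2 ⟨b * y, mul_mem b.2 hy, by rw [he, MulAction.Quotient.smul_coe, smul_eq_mul, mul_assoc]⟩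
    have h2 := (cellMap_bijective P hK).1 (a₁ := ⟨x.1, ⟨_, hmem⟩⟩) (a₂ := x) h
    exact congrArg (fun z : Σ w : RIdx P K, ↥(cell P w.1) => z.2.1) h2
  · exact { toFun := fun x => ⟨x.1.1, x.1.2, x.2⟩, invFun := fun x => ⟨⟨x.1, x.2.1⟩, x.2.2⟩,
            left_inv := fun x => rfl, right_inv := fun x => rfl }

theorem alt_sum [Fintype (Idx P)] (a : Idx P → ℂ) [DecidablePred fun w : Idx P => AllDesc P (rep P w)]
    [∀ K : Set G, DecidablePred fun w : Idx P => RFree P K (rep P w)] :
    ∑ K ∈ (gens P).powerset, (-1 : ℂ) ^ K.card * ∑ w : Idx P, (if RFree P (K : Set G) (rep P w) then a w else 0) =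
      ∑ w : Idx P, if AllDesc P (rep P w) then a w else 0 := by
  classical
  simp only [Finset.mul_sum]
  rw [Finset.sum_comm]
  refine Finset.sum_congr rfl fun w _ => ?_
  set A := (gens P).filter fun s => len P (rep P w) < len P (rep P w * s) with hA
  have h : ∀ K ∈ (gens P).powerset, (-1 : ℂ) ^ K.card * (if RFree P (K : Set G) (rep P w) then a w else 0) =
      if K ⊆ A then (-1 : ℂ) ^ K.card * a w else 0 := by
    intro K hK
    have e : RFree P (K : Set G) (rep P w) ↔ K ⊆ A :=
      ⟨fun h s hs => Finset.mem_filter.2 ⟨Finset.mem_powerset.1 hK hs, h s hs⟩,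
        fun h s hs => (Finset.mem_filter.1 (h hs)).2⟩
    simp only [e, mul_ite, mul_zero]
  rw [Finset.sum_congr rfl h, ← Finset.sum_filter,
    show (gens P).powerset.filter (· ⊆ A) = A.powerset from Finset.ext fun K => by
      simp only [Finset.mem_filter, Finset.mem_powerset]
      exact ⟨And.right, fun h => ⟨h.trans (Finset.filter_subset _ _), h⟩⟩,
    ← Finset.sum_mul]
  have h2 : (∑ K ∈ A.powerset, (-1 : ℂ) ^ K.card) = if A = ∅ then 1 else 0 := by
    have := congrArg (fun z : ℤ => (z : ℂ)) (Finset.sum_powerset_neg_one_pow_card (x := A))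
    simpa using this
  have h3 : A = ∅ ↔ AllDesc P (rep P w) := by
    rw [hA, Finset.filter_eq_empty_iff]
    refine ⟨fun h s hs => ?_, fun h s hs => ?_⟩
    · have := h ((mem_gens P).2 hs)
      have := len_cases_right hs (rep_mem P w)
      omega
    · have := h s ((mem_gens P).1 hs)
      omega
  rw [h2]
  simp only [h3, ite_mul, one_mul, zero_mul]

theorem exists_w0 : ∃ w₀ : Idx P, AllDesc P (rep P w₀) ∧ LFree P (∅ : Set G) (rep P w₀) ∧
    (∀ w : Idx P, AllDesc P (rep P w) → w = w₀) ∧ ∀ s ∈ P.S, len P (s * rep P w₀) < len P (rep P w₀) := by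
  obtain ⟨n, hn, -, hmax⟩ := exists_longest P
  obtain ⟨w₀, hw₀⟩ := exists_idx P hn
  have hmax' : ∀ x ∈ P.N, len P x ≤ len P (rep P w₀) := fun x hx => by rw [len_congr hw₀]; exact hmax x hx
  have hA : AllDesc P (rep P w₀) := fun s hs => by
    have := hmax' (rep P w₀ * s) (mul_mem (rep_mem P w₀) (S_mem_N hs))
    have := len_cases_right hs (rep_mem P w₀)
    omega
  refine ⟨w₀, hA, fun s hs => hs.elim, fun w hw => ?_, fun s hs => ?_⟩
  · exact (idx_eq P (allDesc_unique (rep_mem P w) (rep_mem P w₀) hw hmax')).symm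
  · have := hmax' (s * rep P w₀) (mul_mem (S_mem_N hs) (rep_mem P w₀))
    have := len_cases hs (rep_mem P w₀)
    omega

/-- The index of the big cell. -/
noncomputable def w0 : Idx P := (exists_w0 P).choose

/-- A representative of the longest element. -/
noncomputable def n0 : G := rep P (w0 P)

theorem n0_mem : n0 P ∈ P.N := rep_mem P _

theorem n0_allDesc : AllDesc P (n0 P) := (exists_w0 P).choose_spec.1

theorem eq_w0 {w : Idx P} (h : AllDesc P (rep P w)) : w = w0 P := (exists_w0 P).choose_spec.2.2.1 w h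

theorem n0_left {s : G} (hs : s ∈ P.S) : len P (s * n0 P) < len P (n0 P) := (exists_w0 P).choose_spec.2.2.2 s hs

theorem st_B_eq_cellFix (b : ↥P.B) : st P (b : G) = (cellFix P b (w0 P) : ℂ) := by
  classical
  haveI : Fintype (Idx P) := Fintype.ofFinite _
  have h : ∀ K ∈ (gens P).powerset, fixedPointCharacter (P.parabolic (K : Set G)) (b : G) =
      ∑ w : Idx P, if RFree P (K : Set G) (rep P w) then (cellFix P b w : ℂ) else 0 := by
    intro K hK
    rw [fixedPointCharacter, card_fixedBy P (coe_subset P hK) b, Nat.cast_sum, ← Finset.sum_filter,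
      ← Finset.sum_subtype (p := fun w : Idx P => RFree P (K : Set G) (rep P w))
        (Finset.univ.filter fun w : Idx P => RFree P (K : Set G) (rep P w)) (by simp)
        (fun w => (cellFix P b w : ℂ))]
  rw [st, Finset.sum_congr rfl (fun K hK => by rw [h K hK]), alt_sum P]
  rw [Finset.sum_eq_single (w0 P) (fun w _ hw => if_neg fun h => hw (eq_w0 P h)) (by simp)]
  exact if_pos (n0_allDesc P)

theorem stabilizer_n0 :
    stabilizer ↥P.B ((n0 P : G) : G ⧸ P.B) = (P.B ⊓ P.B.map (MulAut.conj (n0 P)).toMonoidHom).subgroupOf P.B := by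
  ext b
  rw [mem_stabilizer_iff, Subgroup.mem_subgroupOf, Subgroup.mem_inf, Subgroup.mem_map_equiv,
    MulAut.conj_symm_apply, show (b • ((n0 P : G) : G ⧸ P.B)) = (((b : G) * n0 P : G) : G ⧸ P.B) from rfl,
    QuotientGroup.eq]
  constructor
  · intro h
    refine ⟨b.2, ?_⟩
    have := inv_mem h
    simpa [mul_assoc] using this
  · intro h
    have := inv_mem h.2
    simpa [mul_assoc] using this

/-- The restriction of the Steinberg character to `B`. -/
theorem st_B (b : ↥P.B) : st P (b : G) =
    fixedPointCharacter ((P.B ⊓ P.B.map (MulAut.conj (n0 P)).toMonoidHom).subgroupOf P.B) b := by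
  rw [st_B_eq_cellFix, fixedPointCharacter, ← stabilizer_n0]
  congr 1
  let e := orbitEquivQuotientStabilizer ↥P.B ((n0 P : G) : G ⧸ P.B)
  have he : ∀ c : ↥(orbit ↥P.B ((n0 P : G) : G ⧸ P.B)), e (b • c) = b • e c := by
    intro c
    apply e.symm.injective
    rw [Equiv.symm_apply_apply]
    obtain ⟨x, rfl⟩ := e.symm.surjective c
    induction x using QuotientGroup.induction_on with
    | H y =>
      rw [Equiv.apply_symm_apply]
      refine Subtype.ext ?_
      rw [MulAction.orbit.coe_smul, MulAction.Quotient.smul_coe, orbitEquivQuotientStabilizer_symm_apply,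
        orbitEquivQuotientStabilizer_symm_apply, smul_eq_mul, mul_smul]
  have he' : ∀ c : ↥(orbit ↥P.B ((n0 P : G) : G ⧸ P.B)),
      ((b : G) • (c : G ⧸ P.B) = c) ↔ e c ∈ fixedBy _ b := fun c => by
    rw [mem_fixedBy, ← he]
    exact ⟨fun h => congrArg e (Subtype.ext h), fun h => congrArg Subtype.val (e.injective h)⟩
  exact Nat.card_congr (Equiv.subtypeEquiv e he')

theorem st_one : st P 1 =
    (((P.B ⊓ P.B.map (MulAut.conj (n0 P)).toMonoidHom).subgroupOf P.B).index : ℂ) := by
  have h := st_B P 1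
  rw [Subgroup.coe_one] at h
  rw [h, fixedPointCharacter, fixedBy_one_eq_univ, Nat.card_coe_set_eq, Set.ncard_univ]
  rfl

theorem st_conj (g h : G) : st P (h * g * h⁻¹) = st P g := by
  refine Finset.sum_congr rfl fun J _ => ?_
  congr 1
  refine congrArg Nat.cast (Nat.card_congr (Equiv.subtypeEquiv (MulAction.toPerm (α := G) (β := G ⧸ P.parabolic (J : Set G)) h⁻¹) fun c => ?_))
  simp only [mem_fixedBy, MulAction.toPerm_apply, mul_smul]
  exact smul_eq_iff_eq_inv_smul h

theorem st_real (g : G) : conj (st P g) = st P g := by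
  simp [st, fixedPointCharacter, map_sum]

open scoped Classical in
theorem sum_parabolic {J : Finset G} (hJ : J ∈ (gens P).powerset) [Fintype (P.parabolic (J : Set G))] :
    ∑ p : P.parabolic (J : Set G), st P (p : G) =
      if J = ∅ then (Nat.card (P.parabolic (J : Set G)) : ℂ) else 0 := by
  classical
  haveI : Fintype (Idx P) := Fintype.ofFinite _
  have hJS := coe_subset P hJ
  have horb : ∀ K ∈ (gens P).powerset,
      ∑ p : (P.parabolic (J : Set G)), fixedPointCharacter (P.parabolic (K : Set G)) (p : G) = (Nat.card (P.parabolic (J : Set G)) : ℂ) *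
        ∑ w : Idx P, if RFree P (K : Set G) (rep P w) then (if LFree P (J : Set G) (rep P w) then 1 else 0) else 0 := by
    intro K hK
    have hKS := coe_subset P hK
    haveI : Fintype (G ⧸ P.parabolic (K : Set G)) := Fintype.ofFinite _
    haveI : Fintype (Quotient (orbitRel (P.parabolic (J : Set G)) (G ⧸ P.parabolic (K : Set G)))) := Fintype.ofFinite _
    have hb := sum_card_fixedBy_eq_card_orbits_mul_card_group (P.parabolic (J : Set G)) (G ⧸ P.parabolic (K : Set G))
    have h1 : ∀ p : (P.parabolic (J : Set G)), fixedPointCharacter (P.parabolic (K : Set G)) (p : G) =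
        ((Fintype.card (fixedBy (G ⧸ P.parabolic (K : Set G)) p) : ℕ) : ℂ) := fun p => by
      rw [fixedPointCharacter, ← Nat.card_eq_fintype_card]
      rfl
    rw [Finset.sum_congr rfl fun p _ => h1 p, ← Nat.cast_sum, hb, Nat.cast_mul, mul_comm,
      Nat.card_eq_fintype_card]
    congr 1
    let Fr := {w : Idx P // RFree P (K : Set G) (rep P w) ∧ LFree P (J : Set G) (rep P w)}
    let Φ : Fr → Quotient (orbitRel (P.parabolic (J : Set G)) (G ⧸ P.parabolic (K : Set G))) := fun w =>
      Quotient.mk'' ((rep P w.1 : G) : G ⧸ P.parabolic (K : Set G))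
    have hΦ : Function.Bijective Φ := by
      constructor
      · intro w w' h
        obtain ⟨⟨p, hp⟩, hpe⟩ := Quotient.eq''.1 h
        have hpe' : ((p * rep P w'.1 : G) : G ⧸ P.parabolic (K : Set G)) = (rep P w.1 : G) := hpe
        rw [QuotientGroup.eq] at hpe'
        exact Subtype.ext (idx_eq P (free_unique hJS hKS (rep_mem P _) (rep_mem P _)
          (InPP.symm ⟨p, hp, _, hpe', by group⟩) w.2.2 w.2.1 w'.2.2 w'.2.1))
      · intro d
        induction d using Quotient.inductionOn' with
        | h c =>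
          induction c using QuotientGroup.induction_on with
          | H g =>
            obtain ⟨n, hn, hgn, -, hL, hR⟩ := exists_min hJS hKS g
            obtain ⟨w, hw⟩ := exists_idx P hn
            refine ⟨⟨w, hR.congr hKS hn (rep_mem P w) hw, hL.congr hJS hw⟩, Quotient.eq''.2 ?_⟩
            obtain ⟨p, hp, q, hq, hg⟩ := hgn
            refine ⟨⟨p, hp⟩, ?_⟩
            show ((p * g : G) : G ⧸ P.parabolic (K : Set G)) = (rep P w : G)
            rw [QuotientGroup.eq]
            have e : (p * g)⁻¹ * rep P w = q * (n⁻¹ * rep P w) := by rw [hg]; group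
            rw [e]
            exact mul_mem hq (B_le_parabolic hw)
    rw [← Fintype.card_of_bijective hΦ, Fintype.card_subtype, Finset.natCast_card_filter]
    exact Finset.sum_congr rfl fun w _ => by by_cases h : RFree P (K : Set G) (rep P w) <;> simp [h]
  simp only [st]
  rw [Finset.sum_comm]
  simp only [← Finset.mul_sum]
  have h2 : ∀ K ∈ (gens P).powerset, (-1 : ℂ) ^ K.card *
        ∑ p : (P.parabolic (J : Set G)), fixedPointCharacter (P.parabolic (K : Set G)) (p : G) =
      (Nat.card (P.parabolic (J : Set G)) : ℂ) * ((-1 : ℂ) ^ K.card * ∑ w : Idx P,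
        if RFree P (K : Set G) (rep P w) then (if LFree P (J : Set G) (rep P w) then 1 else 0) else 0) :=
    fun K hK => by rw [horb K hK]; ring
  rw [Finset.sum_congr rfl h2, ← Finset.mul_sum, alt_sum P]
  rw [Finset.sum_eq_single (w0 P) (fun w _ hw => if_neg fun h => hw (eq_w0 P h)) (by simp),
    if_pos (show AllDesc P (rep P (w0 P)) from n0_allDesc P)]
  by_cases hJe : J = ∅
  · subst hJe
    rw [if_pos rfl, if_pos (show LFree P ((∅ : Finset G) : Set G) (rep P (w0 P)) from
      fun s hs => absurd (Finset.mem_coe.1 hs) (Finset.notMem_empty s)), mul_one]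
  · obtain ⟨s, hs⟩ := Finset.nonempty_iff_ne_empty.2 hJe
    rw [if_neg hJe, if_neg, mul_zero]
    intro h
    have h1 := h s hs
    have h2 := n0_left P (hJS hs)
    rw [n0] at h2
    omega

theorem sum_mul_fixed [Fintype G] (K : Subgroup G) [Fintype K] :
    ∑ g : G, st P g * fixedPointCharacter K g = (K.index : ℂ) * ∑ k : K, st P (k : G) := by
  classical
  haveI : Fintype (G ⧸ K) := Fintype.ofFinite _
  have h1 : ∀ g : G, fixedPointCharacter K g = ∑ c : G ⧸ K, if g • c = c then (1 : ℂ) else 0 := fun g => by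
    rw [fixedPointCharacter, Nat.card_eq_fintype_card, Fintype.card_subtype, Finset.natCast_card_filter]
    rfl
  simp only [h1, Finset.mul_sum]
  rw [Finset.sum_comm]
  have h2 : ∀ c : G ⧸ K, ∑ g : G, st P g * (if g • c = c then (1 : ℂ) else 0) = ∑ k : K, st P (k : G) := by
    intro c
    induction c using QuotientGroup.induction_on with
    | H x =>
      rw [← Equiv.sum_comp (MulAut.conj x).toEquiv]
      simp only [MulEquiv.toEquiv_eq_coe, MulEquiv.coe_toEquiv, MulAut.conj_apply, st_conj]
      rw [← Finset.sum_subtype (Finset.univ.filter fun g => g ∈ K) (by simp) (fun g => st P g),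
        Finset.sum_filter]
      refine Finset.sum_congr rfl fun g _ => ?_
      have e : (x * g * x⁻¹) • (x : G ⧸ K) = (x : G ⧸ K) ↔ g ∈ K := by
        rw [MulAction.Quotient.smul_coe, smul_eq_mul, QuotientGroup.eq,
          show (x * g * x⁻¹ * x)⁻¹ * x = g⁻¹ by group, inv_mem_iff]
      simp only [e, mul_ite, mul_one, mul_zero]
  rw [Finset.sum_congr rfl (fun c _ => h2 c), Finset.sum_const, Finset.card_univ, nsmul_eq_mul,
    Subgroup.index, Nat.card_eq_fintype_card, ← Finset.mul_sum]

theorem inner_self [Fintype G] : classInner (st P) (st P) = 1 := by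
  classical
  have hG : (Nat.card G : ℂ) ≠ 0 := Nat.cast_ne_zero.2 Nat.card_pos.ne'
  have h : ∑ g : G, st P g * st P g = (Nat.card G : ℂ) := by
    calc ∑ g : G, st P g * st P g
        = ∑ J ∈ (gens P).powerset, (-1 : ℂ) ^ J.card *
            ∑ g : G, st P g * fixedPointCharacter (P.parabolic (J : Set G)) g := by
          simp only [Finset.mul_sum]
          rw [Finset.sum_comm]
          refine Finset.sum_congr rfl fun g _ => ?_
          conv_lhs => arg 2; rw [st]
          rw [Finset.mul_sum]
          exact Finset.sum_congr rfl fun J _ => by ring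
      _ = ∑ J ∈ (gens P).powerset, (-1 : ℂ) ^ J.card * (if J = ∅ then (Nat.card G : ℂ) else 0) := by
          refine Finset.sum_congr rfl fun J hJ => ?_
          haveI : Fintype (P.parabolic (J : Set G)) := Fintype.ofFinite _
          rw [sum_mul_fixed, sum_parabolic P hJ]
          split_ifs with h
          · rw [← Nat.cast_mul, Subgroup.index_mul_card]
          · rw [mul_zero]
      _ = _ := by
          rw [Finset.sum_eq_single (∅ : Finset G) (fun J _ hJ => by rw [if_neg hJ, mul_zero]) (by simp),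
            if_pos rfl, Finset.card_empty, pow_zero, one_mul]
  rw [CharBasic.classInner_def]
  simp only [st_real]
  rw [h, inv_mul_cancel₀ hG]

theorem isGeneralized : IsGeneralizedCharacter G (st P) := by
  have h : st P = ∑ J ∈ (gens P).powerset, ((-1 : ℤ) ^ J.card) • fixedPointCharacter (P.parabolic (J : Set G)) := by
    funext g
    simp [st, Finset.sum_apply, zsmul_eq_mul]
  rw [h]
  exact CharInduce.IsGen.sum _ _ fun J _ =>
    CharInduce.IsGen.zsmul (CharInduce.IsGen.of_char (isCharacter_fixedPointCharacter _)) _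

/-- The alternating sum is irreducible. -/
theorem isIrr : IsIrrCharacter G (st P) := by
  classical
  cases nonempty_fintype G
  obtain ⟨ψ, h | h⟩ := CharInduce.IsGen.eq_irr_or_neg (isGeneralized P) (inner_self P)
  · rw [h]; exact ψ.2
  · exfalso
    obtain ⟨d, hd, hd'⟩ := CharBasic.IsIrr.exists_degree ψ.2
    have h1 := congrFun h 1
    rw [st_one, Pi.neg_apply, hd'] at h1
    have h2 : ((((P.B ⊓ P.B.map (MulAut.conj (n0 P)).toMonoidHom).subgroupOf P.B).index + d : ℕ) : ℂ) = 0 := by
      push_cast; rw [h1]; ring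
    rw [Nat.cast_eq_zero] at h2
    omega

end Cfsg.Agent.H54.BNSt
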