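import Cfsg.Prelude.Def_ParabolicCharacters
import Cfsg.Prelude.Def_Characters
import Cfsg.Agent.H54.BNSteinberg
import Cfsg.Agent.H37.Chev.All
import Cfsg.Agent.H37.Chev.Result
import Cfsg.Agent.H84.Kernel

/-!
The Steinberg character of a split Chevalley group is the abstract Steinberg character of its Tits system: its
restriction to `B`, its degree and the vanishing at `p`-singular elements.
-/

set_option autoImplicit false
set_option linter.unusedSectionVars false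

namespace Cfsg.Agent.H54.ChevSt

open Cfsg.Agent.H28 BNC
open Cfsg.Lie Cfsg.Agent.H37.RootSys
open Cfsg.Agent.H37 (Tits.Ambient Tits.InCell Weyl.gen)

section Ambient

variable {G W : Type*} [Group G] [Group W] [Finite G] (A : Tits.Ambient G W) {w₀ : W}

theorem mem_dc_iff {x : G} {w : W} :
    x ∈ dc A.pair (A.n w) ↔ Tits.InCell A.U A.H (A.n w) x := by
  rw [A.inCell_iff, mem_dc]
  rfl

/-- An element with full `Uw` has all descents. -/
theorem allDesc_of_full (hw₀ : A.Uw w₀ = A.U)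
    (hlt : ∀ s ∈ A.S, Nat.card (A.Uw (w₀ * s)) < Nat.card A.U) : AllDesc A.pair (A.n w₀) := by
  intro x hx
  obtain ⟨s, hs, rfl⟩ : x ∈ A.n '' A.S := hx
  have hn : A.n w₀ ∈ A.pair.N := A.n_mem_N _
  have hsn : A.n s ∈ A.pair.N := A.n_mem_N _
  by_contra hcon
  have h1 : len A.pair (A.n s) ≤ 1 := len_le (rep_single (P := A.pair) ⟨s, hs, rfl⟩)
  have h2 := len_mul_le hn hsn
  have hne : len A.pair (A.n w₀ * A.n s) ≠ len A.pair (A.n w₀) := by
    have := len_cases_right (P := A.pair) (s := A.n s) ⟨s, hs, rfl⟩ hn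
    omega
  have hadd : len A.pair (A.n w₀ * A.n s) = len A.pair (A.n w₀) + len A.pair (A.n s) := by omega
  obtain ⟨k, hk, ek⟩ := A.n_mul w₀ s
  have hdc : dc A.pair (A.n w₀ * A.n s) = dc A.pair (A.n (w₀ * s)) := by
    rw [ek]; exact dc_mul_left _ (A.H_le_B hk)
  have hf : ∀ p : ↥A.U × ↥A.H × ↥A.U, ∃ q : ↥A.U × ↥A.H × ↥(A.Uw (w₀ * s)),
      (p.1 : G) * p.2.1 * A.n w₀ * p.2.2 * A.n s = (q.1 : G) * q.2.1 * A.n (w₀ * s) * q.2.2 := by
    rintro ⟨⟨u, hu⟩, ⟨h, hh⟩, ⟨v, hv⟩⟩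
    have hg : u * h * A.n w₀ * v ∈ dc A.pair (A.n w₀) :=
      (mem_dc A.pair).2 ⟨u * h, ⟨u, hu, h, hh, rfl⟩, v, A.U_le_B hv, rfl⟩
    have hm := mul_mem_dc_additive hn hsn hadd hg (self_mem_dc A.pair (A.n s))
    rw [hdc, mem_dc_iff] at hm
    obtain ⟨u', hu', h', hh', w', v', hv', e⟩ := A.exists_eq (u * h * A.n w₀ * v * A.n s)
    rw [e] at hm
    obtain rfl := A.index_eq hu' hh' hv' hm
    exact ⟨(⟨u', hu'⟩, ⟨h', hh'⟩, ⟨v', hv'⟩), e⟩
  choose f hf using hf
  have hinj : Function.Injective f := by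
    intro p p' e
    have h3 := (hf p).trans (e ▸ (hf p').symm)
    have h4 := A.unique p.1.2 p'.1.2 p.2.1.2 p'.2.1.2 (hw₀.symm ▸ p.2.2.2) (hw₀.symm ▸ p'.2.2.2)
      (mul_right_cancel h3)
    exact Prod.ext (Subtype.ext h4.2.1) (Prod.ext (Subtype.ext h4.2.2.1) (Subtype.ext h4.2.2.2))
  have hle := Nat.card_le_card_of_injective f hinj
  rw [Nat.card_prod, Nat.card_prod, Nat.card_prod, Nat.card_prod, ← mul_assoc, ← mul_assoc] at hle
  have hpos : 0 < Nat.card A.U * Nat.card A.H := Nat.mul_pos Nat.card_pos Nat.card_pos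
  have := Nat.le_of_mul_le_mul_left hle hpos
  have := hlt s hs
  omega

/-- The representative of the abstract longest element. -/
theorem n0_eq (hA : AllDesc A.pair (A.n w₀)) : ∃ t ∈ A.H, BNSt.n0 A.pair = A.n w₀ * t := by
  have hn : A.n w₀ ∈ A.pair.N := A.n_mem_N _
  obtain ⟨w, hw⟩ := BNSt.exists_idx A.pair hn
  have hw' : AllDesc A.pair (BNSt.rep A.pair w) := by
    intro s hs
    rw [len_congr (eqv_right hn (BNSt.rep_mem _ w) (S_mem_N hs) hw), len_congr hw]
    exact hA s hs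
  rw [BNSt.eq_w0 A.pair hw'] at hw
  refine ⟨(A.n w₀)⁻¹ * BNSt.n0 A.pair, ?_, by group⟩
  rw [← A.B_inf_N]
  exact Subgroup.mem_inf.2 ⟨hw, mul_mem (inv_mem hn) (BNSt.n0_mem A.pair)⟩

/-- `B` meets its conjugate by the longest element in `H`. -/
theorem inf_conj (hw₀ : A.Uw w₀ = A.U) (hA : AllDesc A.pair (A.n w₀)) :
    A.B ⊓ A.B.map (MulAut.conj (BNSt.n0 A.pair)).toMonoidHom = A.H := by
  obtain ⟨t, ht, e⟩ := n0_eq A hA
  rw [e]
  ext b
  rw [Subgroup.mem_inf, Subgroup.mem_map_equiv, MulAut.conj_symm_apply]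
  constructor
  · rintro ⟨hb, hb'⟩
    have hb2 : (A.n w₀)⁻¹ * b * A.n w₀ ∈ A.B := by
      have := mul_mem (mul_mem (A.H_le_B ht) hb') (inv_mem (A.H_le_B ht))
      simpa [mul_assoc] using this
    obtain ⟨u, hu, h, hh, rfl⟩ := hb
    obtain ⟨u', hu', h', hh', e2⟩ := hb2
    have e3 : u * h * A.n w₀ * 1 =
        1 * (A.n w₀ * h' * (A.n w₀)⁻¹) * A.n w₀ * (h'⁻¹ * u' * h') := by
      calc u * h * A.n w₀ * 1 = A.n w₀ * ((A.n w₀)⁻¹ * (u * h) * A.n w₀) := by group
        _ = _ := by rw [e2]; group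
    have hv : h'⁻¹ * u' * h' ∈ A.Uw w₀ := by
      rw [hw₀]
      simpa using A.H_conj_U h'⁻¹ (inv_mem hh') u' hu'
    rw [(A.unique hu (one_mem _) hh (A.n_conj_H w₀ h' hh') (one_mem _) hv e3).2.1, one_mul]
    exact hh
  · intro hb
    refine ⟨A.H_le_B hb, A.H_le_B ?_⟩
    have := mul_mem (mul_mem (inv_mem ht) (A.n_conj_H' w₀ hb)) ht
    simpa [mul_assoc] using this

theorem card_B : Nat.card A.B = Nat.card A.U * Nat.card A.H := by
  rw [← Nat.card_prod]
  refine (Nat.card_congr (Equiv.ofBijective (fun p : ↥A.U × ↥A.H =>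
    (⟨p.1.1 * p.2.1, p.1.1, p.1.2, p.2.1, p.2.2, rfl⟩ : ↥A.B)) ⟨?_, ?_⟩)).symm
  · rintro ⟨⟨u, hu⟩, ⟨h, hh⟩⟩ ⟨⟨u', hu'⟩, ⟨h', hh'⟩⟩ e
    have e' : u * h = u' * h' := congrArg Subtype.val e
    have := A.unique hu hu' hh hh' (one_mem (A.Uw 1)) (one_mem (A.Uw 1))
      (show u * h * A.n 1 * 1 = u' * h' * A.n 1 * 1 by rw [e'])
    exact Prod.ext (Subtype.ext this.2.1) (Subtype.ext this.2.2.1)
  · rintro ⟨b, u, hu, h, hh, rfl⟩
    exact ⟨(⟨u, hu⟩, ⟨h, hh⟩), rfl⟩

theorem index_H : (A.H.subgroupOf A.B).index = Nat.card A.U := by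
  have h := Subgroup.card_mul_index (A.H.subgroupOf A.B)
  rw [Nat.card_congr (Subgroup.subgroupOfEquivOfLe A.H_le_B).toEquiv, card_B,
    mul_comm (Nat.card A.U)] at h
  exact Nat.eq_of_mul_eq_mul_left Nat.card_pos h

end Ambient

section Chevalley

variable {D : ChevalleyDatum} {F : Type*} [Field F] (Q : H37.Chev.Data D F)
include Q

theorem simple_inj' {i j : Fin Q.X.n} (h : Q.X.M.simple i = Q.X.M.simple j) : i = j := by
  apply Q.simple_inj
  by_contra hne
  have hi := Q.X.good.simple_spec i.isLt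
  have hj := Q.X.good.simple_spec j.isLt
  have e := congrArg (fun w => (Q.X.good.hom w ⟨D.simple j, hj.2.1⟩).val) h
  simp only [Q.X.good.hom_simple, Q.X.good.sigmaPerm_val] at e
  have h1 := (Q.X.good.sigma_spec i.isLt hj.2.1).2.2.2.2 hj.1 (Ne.symm hne)
  have := hj.2.2
  omega

theorem card_Uw_lt [Finite F] : ∀ s ∈ Q.amb.S,
    Nat.card (Q.amb.Uw (Q.X.w0 * s)) < Nat.card Q.amb.U := by
  rintro _ ⟨i, rfl⟩
  have hs := Q.X.good.simple_spec i.isLt
  have hinv := Q.X.good.inv_mul_gen_neg (g := Q.X.w0) i.isLt (Q.X.w0_neg hs.2.1 hs.1)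
  rw [show Weyl.gen Q.X.M i.val = Q.X.M.simple i from Sys.gen_eq i] at hinv
  rw [← Q.Uw_w0, Q.card_Uw, Q.card_Uw]
  exact Nat.pow_lt_pow_right Finite.one_lt_card (by omega)

theorem allDesc_w0 [Finite F] : AllDesc Q.amb.pair (Q.amb.n Q.X.w0) :=
  allDesc_of_full Q.amb Q.Uw_w0 (card_Uw_lt Q)

theorem inf_conj_B [Finite F] :
    Q.amb.pair.B ⊓ Q.amb.pair.B.map (MulAut.conj (BNSt.n0 Q.amb.pair)).toMonoidHom = Q.amb.H :=
  inf_conj Q.amb Q.Uw_w0 (allDesc_w0 Q)

open scoped Classical in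
theorem gens_eq [Finite F] :
    BNSt.gens Q.amb.pair = (Finset.range D.rank).image (nG Q.K F) := by
  classical
  ext g
  rw [BNSt.mem_gens, Finset.mem_image, show Q.amb.pair.S = Q.amb.n '' Q.amb.S from rfl, Q.amb_S]
  simp only [Set.mem_setOf_eq, Finset.mem_range]
  constructor
  · rintro ⟨i, hi, e⟩
    exact ⟨i, hi, Subtype.ext (Units.ext ((Q.K.coe_nU F _ _).trans e.symm))⟩
  · rintro ⟨i, hi, rfl⟩
    exact ⟨i, hi, Q.K.coe_nU F _ _⟩

theorem nG_injOn : Set.InjOn (nG Q.K F) (Finset.range D.rank : Set ℕ) := by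
  intro i hi j hj e
  rw [Finset.coe_range, Set.mem_Iio, Q.rank_eq] at hi hj
  have hi' := Q.rep_simple ⟨i, hi⟩
  have hj' := Q.rep_simple ⟨j, hj⟩
  have e' : Q.amb.n (Q.X.M.simple ⟨i, hi⟩) = Q.amb.n (Q.X.M.simple ⟨j, hj⟩) := by
    show Q.sys.rep _ = Q.sys.rep _
    rw [hi', hj', e]
  have : (⟨i, hi⟩ : Fin Q.X.n) = ⟨j, hj⟩ := simple_inj' Q (Q.amb.n_inj_B (by rw [e', inv_mul_cancel]; exact one_mem _))
  exact congrArg (fun k : Fin Q.X.n => k.val) this

theorem parabolicIn_eq [Finite F] {J : Finset ℕ} (hJ : J ⊆ Finset.range D.rank) :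
    D.parabolicIn F J = Q.amb.pair.parabolic (nG Q.K F '' (J : Set ℕ)) := by
  unfold ChevalleyDatum.parabolicIn
  have hset : {g : GL D.Idx F | ∃ j ∈ (J : Set ℕ), j < D.rank ∧
      (g : Matrix D.Idx D.Idx F) = D.nMat F (D.simple j) 1} =
      (D.group F).subtype '' (nG Q.K F '' (J : Set ℕ)) := by
    ext g
    constructor
    · rintro ⟨j, hj, -, e⟩
      exact ⟨_, ⟨j, hj, rfl⟩, Units.ext ((Q.K.coe_nU F _ _).trans e.symm)⟩
    · rintro ⟨_, ⟨j, hj, rfl⟩, rfl⟩
      exact ⟨j, hj, Finset.mem_range.1 (hJ hj), Q.K.coe_nU F _ _⟩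
  rw [ChevalleyDatum.parabolicSubgroup, hset, ← MonoidHom.map_closure, Subgroup.subgroupOf_sup
      (H37.borel_le_group Q.ord) (Subgroup.map_subtype_le _), ← Q.amb_B]
  show Q.amb.B ⊔ _ = Q.amb.B ⊔ _
  congr 1
  exact Subgroup.comap_map_eq_self_of_injective (D.group F).subtype_injective _

theorem steinberg_eq [Finite F] : D.steinbergCharacter F = BNSt.st Q.amb.pair := by
  classical
  funext g
  unfold ChevalleyDatum.steinbergCharacter BNSt.st
  rw [gens_eq Q, Finset.powerset_image, Finset.sum_image]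
  · refine Finset.sum_congr rfl fun J hJ => ?_
    have hJ' := Finset.mem_powerset.1 hJ
    rw [parabolicIn_eq Q hJ', Finset.coe_image, Finset.card_image_of_injOn]
    exact (nG_injOn Q).mono (Finset.coe_subset.2 hJ')
  · intro J hJ J' hJ' e
    have h1 : ∀ K : Finset ℕ, K ⊆ Finset.range D.rank → ∀ i ∈ Finset.range D.rank,
        nG Q.K F i ∈ K.image (nG Q.K F) → i ∈ K := fun K hK i hi h => by
      obtain ⟨j, hj, e⟩ := Finset.mem_image.1 h
      rwa [← nG_injOn Q (Finset.mem_coe.2 (hK hj)) (Finset.mem_coe.2 hi) e]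
    have hJ1 := Finset.mem_powerset.1 hJ
    have hJ1' := Finset.mem_powerset.1 hJ'
    change J.image (nG Q.K F) = J'.image (nG Q.K F) at e
    ext i
    constructor
    · exact fun h => h1 J' hJ1' i (hJ1 h) (e ▸ Finset.mem_image_of_mem _ h)
    · exact fun h => h1 J hJ1 i (hJ1' h) (e.symm ▸ Finset.mem_image_of_mem _ h)

theorem isIrr [Finite F] : IsIrrCharacter ↥(D.group F) (D.steinbergCharacter F) := by
  rw [steinberg_eq Q]; exact BNSt.isIrr _

theorem restrict_borel [Finite F]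
    (b : ↥((D.borelSubgroup F).subgroupOf (D.group F))) :
    D.steinbergCharacter F (b : ↥(D.group F)) =
      fixedPointCharacter (((D.diagonalSubgroup F).subgroupOf (D.group F)).subgroupOf
        ((D.borelSubgroup F).subgroupOf (D.group F))) b := by
  revert b
  rw [← Q.amb_B, ← Q.amb_H, steinberg_eq Q]
  intro b
  exact (BNSt.st_B Q.amb.pair b).trans (by rw [inf_conj_B Q]; rfl)

theorem degree [Finite F] : D.steinbergCharacter F 1 = (Nat.card F : ℂ) ^ (D.nroots / 2) := by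
  rw [steinberg_eq Q, BNSt.st_one, inf_conj_B Q,
    show Q.amb.pair.B = Q.amb.B from rfl, index_H Q.amb, Q.card_U, Nat.cast_pow]

theorem not_dvd_card_H [Finite F] (p : ℕ) [hp : Fact p.Prime] [CharP F p] :
    ¬ p ∣ Nat.card Q.amb.H := by
  intro hd
  obtain ⟨⟨⟨h, hhG⟩, hh⟩, ho⟩ := exists_prime_orderOf_dvd_card' p hd
  have hh' : h ∈ D.diagonalSubgroup F := hh
  have hpow : h ^ p = 1 := by
    have e := pow_orderOf_eq_one (⟨⟨h, hhG⟩, hh⟩ : ↥Q.amb.H)
    rw [ho] at e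
    exact congrArg (fun x : ↥Q.amb.H => (x.1.1 : GL D.Idx F)) e
  have hdiag : (h : Matrix D.Idx D.Idx F) =
      Matrix.diagonal fun a => (h : Matrix D.Idx D.Idx F) a a := by
    ext a b
    by_cases e : a = b
    · subst e; rw [Matrix.diagonal_apply_eq]
    · rw [Matrix.diagonal_apply_ne _ e]; exact Q.T.off _ hh' a b e
  have h1 : h = 1 := by
    refine Units.ext ?_
    have e := congrArg Units.val hpow
    rw [Units.val_pow_eq_pow_val, hdiag, Matrix.diagonal_pow, Units.val_one, ← Matrix.diagonal_one,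
      Matrix.diagonal_eq_diagonal_iff] at e
    rw [hdiag, Units.val_one, ← Matrix.diagonal_one, Matrix.diagonal_eq_diagonal_iff]
    intro a
    have := e a
    rw [Pi.pow_apply, ← one_pow p] at this
    exact frobenius_inj F p this
  subst h1
  have : orderOf (⟨⟨1, hhG⟩, hh⟩ : ↥Q.amb.H) = 1 := orderOf_eq_one_iff.2 rfl
  exact hp.out.ne_one (ho.symm.trans this)

theorem defect_zero [Finite F] (p : ℕ) [hp : Fact p.Prime] [CharP F p] :
    ¬ p ∣ Nat.card ↥(D.group F) / Nat.card F ^ (D.nroots / 2) := by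
  classical
  haveI : Finite Q.X.M.Group := Finite.of_injective (fun w => Q.amb.n w) fun a b e =>
    Q.amb.n_inj_B (by
      have e' : Q.amb.n a = Q.amb.n b := e
      rw [e', inv_mul_cancel]; exact one_mem _)
  letI : Fintype Q.X.M.Group := Fintype.ofFinite _
  have h := Q.amb.toNormalForm.card_eq
  rw [h, Q.card_U, mul_assoc, Nat.mul_div_cancel_left _ (pow_pos Nat.card_pos _)]
  intro hd
  rcases hp.out.dvd_mul.1 hd with h1 | h1
  · exact not_dvd_card_H Q p h1
  · have hpF : p ∣ Nat.card F := by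
      letI := Fintype.ofFinite F
      rw [Nat.card_eq_fintype_card, ← CharP.cast_eq_zero_iff F p, Nat.cast_card_eq_zero]
    rw [← Finset.add_sum_erase _ _ (Finset.mem_univ (1 : Q.X.M.Group)),
      Q.amb.Uw_one, Subgroup.card_bot] at h1
    have h2 : p ∣ ∑ w ∈ (Finset.univ : Finset Q.X.M.Group).erase 1, Nat.card (Q.amb.Uw w) := by
      refine Finset.dvd_sum fun w hw => ?_
      rw [Q.card_Uw]
      exact dvd_pow hpF fun e => (Finset.mem_erase.1 hw).1 (Q.X.good.eq_one_of_inv_eq_zero e)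
    exact hp.out.not_dvd_one ((Nat.dvd_add_left h2).1 h1)

theorem degree_charDegree [Finite F] :
    charDegree (D.steinbergCharacter F) = Nat.card F ^ (D.nroots / 2) := by
  unfold charDegree
  rw [degree Q, ← Nat.cast_pow, Complex.natCast_re, Nat.floor_natCast]

theorem vanishes [Finite F] (p : ℕ) [Fact p.Prime] [CharP F p] (g : ↥(D.group F))
    (hg : p ∣ orderOf g) : D.steinbergCharacter F g = 0 :=
  H84.apply_eq_zero_of_defect_zero (p := p) ⟨D.steinbergCharacter F, isIrr Q⟩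
    (by
      show ¬ p ∣ Nat.card ↥(D.group F) / charDegree (D.steinbergCharacter F)
      rw [degree_charDegree Q]; exact defect_zero Q p) hg

end Chevalley

end Cfsg.Agent.H54.ChevSt
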