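import Mathlib
import Cfsg.Agent.H54.SL2Presentation

/-!
The Steinberg relations present `SL_n` over a finite field (`n ≥ 3`).
-/

set_option autoImplicit false

namespace Cfsg.Agent.H54.Presentation

open Matrix

universe u v

variable {K : Type u} [Field K] {G : Type v} [Group G]

/-- The Steinberg relations. -/
structure StRels {n : ℕ} (x : Fin n → Fin n → K → G) : Prop where
  diag : ∀ i t, x i i t = 1
  add : ∀ i j t u, x i j t * x i j u = x i j (t + u)
  comm : ∀ i j k l t u, i ≠ l → j ≠ k → Commute (x i j t) (x k l u)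
  mul : ∀ i j l t u, i ≠ j → j ≠ l → i ≠ l → x i j t * x j l u = x i l (t * u) * x j l u * x i j t

namespace StRels

section basic

variable {n : ℕ} {x : Fin n → Fin n → K → G} (R : StRels x)
include R

lemma zero (i j : Fin n) : x i j 0 = 1 := by
  have := R.add i j 0 0
  rw [add_zero] at this
  exact mul_eq_left.1 this

lemma inv (i j : Fin n) (t : K) : (x i j t)⁻¹ = x i j (-t) :=
  inv_eq_of_mul_eq_one_right (by rw [R.add, add_neg_cancel, R.zero])

/-- The commutator in the other order. -/
lemma mul' {i j l : Fin n} (t u : K) (hij : i ≠ j) (hjl : j ≠ l) (hil : i ≠ l) :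
    x j l u * x i j t = x i l (-(t * u)) * (x i j t * x j l u) := by
  rw [R.mul i j l t u hij hjl hil, ← mul_assoc, ← mul_assoc, R.add, neg_add_cancel, R.zero, one_mul]

/-- The rank one relations inside the Steinberg relations, from a third index. -/
theorem sl2Rels {p q k : Fin n} (hpq : p ≠ q) (hpk : p ≠ k) (hqk : q ≠ k) :
    SL2Rels (fun t => x p q t) (fun t => x q p t) := by
  refine ⟨fun t u => R.add p q t u, fun t u => R.add q p t u, fun t u ht => ?_⟩
  set W := wEl (fun t => x p q t) (fun t => x q p t) t with hW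
  have conj : ∀ (g a b : G), g * a = b * g → g * a * g⁻¹ = b := fun g a b h => by rw [h, mul_inv_cancel_right]
  have c1 : ∀ v, x p q t * x p k v = x p k v * x p q t := fun v => R.comm p q p k t v hpk hpq.symm
  have c2 : ∀ v, x p q t * x k q v = x k q v * x p q t := fun v => R.comm p q k q t v hpq hqk
  have h1 : ∀ v, W * x p k v = x q k (-t⁻¹ * v) * W := by
    intro v
    rw [hW, wEl, mul_assoc, c1, ← mul_assoc, mul_assoc (x p q t) (x q p (-t⁻¹)),
      R.mul q p k (-t⁻¹) v hpq.symm hpk hqk]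
    simp only [← mul_assoc]
    rw [R.mul p q k t (-t⁻¹ * v) hpq hqk hpk, show t * (-t⁻¹ * v) = -v by field_simp,
      mul_assoc (x p k (-v) * x q k _), c1, ← mul_assoc,
      mul_assoc (x p k (-v)), (R.comm q k p k (-t⁻¹ * v) v hqk hpk.symm).eq, ← mul_assoc, R.add, neg_add_cancel,
      R.zero, one_mul]
  have h2 : ∀ v, W * x k q v = x k p (t⁻¹ * v) * W := by
    intro v
    rw [hW, wEl, mul_assoc, c2, ← mul_assoc, mul_assoc (x p q t) (x q p (-t⁻¹)),
      R.mul' v (-t⁻¹) hqk.symm hpq.symm hpk.symm, show -(v * -t⁻¹) = t⁻¹ * v by ring]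
    simp only [← mul_assoc]
    rw [R.mul' (t⁻¹ * v) t hpk.symm hpq hqk.symm, show -(t⁻¹ * v * t) = -v by field_simp]
    simp only [← mul_assoc]
    rw [mul_assoc (x k q (-v) * x k p _), c2, ← mul_assoc,
      mul_assoc (x k q (-v)), (R.comm k p k q (t⁻¹ * v) v hqk.symm hpk).eq, ← mul_assoc, R.add, neg_add_cancel,
      R.zero, one_mul]
  have e : x p q u = x p k u * x k q 1 * (x p k u)⁻¹ * (x k q 1)⁻¹ := by
    rw [R.mul p k q u 1 hpk hqk.symm hpq, mul_one]; group
  show W * x p q u * W⁻¹ = x q p (-(t⁻¹ ^ 2 * u))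
  have e' : x q p (-(t⁻¹ ^ 2 * u)) =
      x q k (-t⁻¹ * u) * x k p (t⁻¹ * 1) * (x q k (-t⁻¹ * u))⁻¹ * (x k p (t⁻¹ * 1))⁻¹ := by
    rw [R.mul q k p _ _ hqk hpk.symm hpq.symm, show -t⁻¹ * u * (t⁻¹ * 1) = -(t⁻¹ ^ 2 * u) by ring]; group
  rw [e, e', ← conj W _ _ (h1 u), ← conj W _ _ (h2 1)]
  group

end basic

variable {n : ℕ} {x : Fin (n + 1) → Fin (n + 1) → K → G} (R : StRels x)

omit [Group G] in
/-- Induction on vectors. -/
lemma vec_induction {P : (Fin n → K) → Prop} (h0 : P 0) (hs : ∀ i t, P (Pi.single i t))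
    (hadd : ∀ v w, P v → P w → P (v + w)) (v : Fin n → K) : P v := by
  classical
  rw [← Finset.univ_sum_single v]
  exact Finset.sum_induction _ P hadd h0 fun i _ => hs i (v i)

/-- A commuting family of root subgroups as one homomorphism. -/
noncomputable def colHom : (Fin n → Multiplicative K) →* G :=
  MonoidHom.noncommPiCoprod
    (fun i : Fin n =>
      { toFun := fun t => x i.succ 0 (Multiplicative.toAdd t)
        map_one' := R.zero _ _
        map_mul' := fun a b => (R.add _ _ _ _).symm })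
    (fun i j _ a b => R.comm i.succ 0 j.succ 0 _ _ (Fin.succ_ne_zero i) (Fin.succ_ne_zero j).symm)

/-- The element of the first column group with the given entries. -/
noncomputable def colEl (v : Fin n → K) : G := R.colHom fun i => Multiplicative.ofAdd (v i)

lemma colEl_add (v w : Fin n → K) : R.colEl (v + w) = R.colEl v * R.colEl w := by
  rw [colEl, colEl, colEl, ← map_mul]; rfl

lemma colEl_zero : R.colEl 0 = 1 := map_one R.colHom

lemma colEl_single (i : Fin n) (t : K) : R.colEl (Pi.single i t) = x i.succ 0 t := by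
  classical
  have : (fun j => Multiplicative.ofAdd ((Pi.single i t : Fin n → K) j)) =
      Pi.mulSingle (M := fun _ : Fin n => Multiplicative K) i (Multiplicative.ofAdd t) := by
    funext j
    by_cases h : j = i
    · subst h; simp
    · simp [Pi.single_eq_of_ne h, Pi.mulSingle_eq_of_ne h]
  rw [colEl, this]
  exact MonoidHom.noncommPiCoprod_mulSingle _ i _

variable (x) in
/-- The candidate stabiliser of the first basis vector. -/
def stab : Subgroup G := Subgroup.closure {g | ∃ i j t, j ≠ 0 ∧ g = x i j t}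

variable (x) in
lemma mem_stab (i : Fin (n + 1)) (j : Fin n) (t : K) : x i j.succ t ∈ stab x :=
  Subgroup.subset_closure ⟨i, _, t, Fin.succ_ne_zero j, rfl⟩

/-- The coset of a column element. -/
noncomputable def colC (v : Fin n → K) : G ⧸ stab x := (R.colEl v : G ⧸ stab x)

include R in
lemma smul_colC_of_mem {g g' : G} {v : Fin n → K} (v' : Fin n → K) (hg' : g' ∈ stab x)
    (h : g * R.colEl v = R.colEl v' * g') : g • R.colC v = R.colC v' := by
  show ((g * R.colEl v : G) : G ⧸ stab x) = _
  rw [h]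
  exact QuotientGroup.mk_mul_of_mem _ hg'

lemma colEl_row (a : Fin n) (t : K) (v : Fin n → K) :
    x a.succ 0 t • R.colC v = R.colC (v + Pi.single a t) := by
  show ((x a.succ 0 t * R.colEl v : G) : G ⧸ stab x) = _
  rw [show v + Pi.single a t = Pi.single a t + v from add_comm _ _, colC, colEl_add, colEl_single]

lemma colEl_lower {a b : Fin n} (hab : a ≠ b) (t : K) (v : Fin n → K) :
    x a.succ b.succ t • R.colC v = R.colC (v + Pi.single a (t * v b)) := by
  refine R.smul_colC_of_mem _ (mem_stab x a.succ b t) ?_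
  induction v using vec_induction with
  | h0 => simp [R.colEl_zero]
  | hs c s =>
    rcases eq_or_ne c b with rfl | hcb
    · rw [R.colEl_add, R.colEl_single, R.colEl_single, Pi.single_eq_same,
        R.mul a.succ c.succ 0 t s (fun e => hab (Fin.succ_injective _ e)) (Fin.succ_ne_zero _) (Fin.succ_ne_zero _),
        (R.comm a.succ 0 c.succ 0 (t * s) s (Fin.succ_ne_zero _) (Fin.succ_ne_zero _).symm).eq]
    · rw [Pi.single_eq_of_ne hcb.symm, mul_zero, Pi.single_zero, add_zero, R.colEl_single]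
      exact (R.comm a.succ b.succ c.succ 0 t s (Fin.succ_ne_zero _) (fun e => hcb (Fin.succ_injective _ e).symm)).eq
  | hadd v w hv hw =>
    rw [R.colEl_add v w, ← mul_assoc, hv, mul_assoc, hw, ← mul_assoc, ← R.colEl_add]
    congr 2
    rw [Pi.add_apply, mul_add, Pi.single_add]
    abel

/-- `x_{0b}` fixes the coset of a column vector with `v_b = 0`. -/
lemma colEl_top {b : Fin n} (β : K) {v : Fin n → K} (hb : v b = 0) : x 0 b.succ β • R.colC v = R.colC v := by
  set C := Subgroup.closure {g | ∃ i t, g = x i b.succ t} with hC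
  have hCQ : C ≤ stab x := (Subgroup.closure_le _).2 (by rintro _ ⟨i, t, rfl⟩; exact mem_stab x i b t)
  have hconj : ∀ c : Fin n, c ≠ b → ∀ s, x c.succ 0 s ∈ Subgroup.normalizer (C : Set G) := by
    intro c hc s
    have hle : ∀ s, C ≤ C.comap (MulAut.conj (x c.succ 0 s)).toMonoidHom := by
      intro s
      refine (Subgroup.closure_le _).2 ?_
      rintro _ ⟨i, t, rfl⟩
      show x c.succ 0 s * x i b.succ t * (x c.succ 0 s)⁻¹ ∈ C
      rcases eq_or_ne i 0 with rfl | hi
      · rw [R.mul c.succ 0 b.succ s t (Fin.succ_ne_zero _) (Fin.succ_ne_zero _).symm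
          (fun e => hc (Fin.succ_injective _ e)), mul_inv_cancel_right]
        exact mul_mem (Subgroup.subset_closure ⟨_, _, rfl⟩) (Subgroup.subset_closure ⟨_, _, rfl⟩)
      · rw [(R.comm c.succ 0 i b.succ s t (fun e => hc (Fin.succ_injective _ e)) hi.symm).eq, mul_inv_cancel_right]
        exact Subgroup.subset_closure ⟨_, _, rfl⟩
    rw [Subgroup.mem_normalizer_iff]
    refine fun y => ⟨fun hy => hle s hy, fun hy => ?_⟩
    have := hle (-s) hy
    rw [Subgroup.mem_comap] at this
    simpa [← R.inv, mul_assoc] using this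
  have hN : ∀ v : Fin n → K, R.colEl (fun c => if c = b then 0 else v c) ∈ Subgroup.normalizer (C : Set G) := by
    intro v
    induction v using vec_induction with
    | h0 =>
      rw [show (fun c => if c = b then (0 : K) else (0 : Fin n → K) c) = 0 by funext c; simp, R.colEl_zero]
      exact one_mem _
    | hs c s =>
      rcases eq_or_ne c b with rfl | hcb
      · rw [show (fun d => if d = c then (0 : K) else (Pi.single c s : Fin n → K) d) = 0 by
          funext d; by_cases h : d = c <;> simp [h], R.colEl_zero]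
        exact one_mem _
      · rw [show (fun d => if d = b then (0 : K) else (Pi.single c s : Fin n → K) d) = Pi.single c s by
          funext d; by_cases h : d = b <;> simp [h, hcb], R.colEl_single]
        exact hconj c hcb s
    | hadd v w hv hw =>
      rw [show (fun c => if c = b then (0 : K) else (v + w) c) =
        (fun c => if c = b then (0 : K) else v c) + (fun c => if c = b then (0 : K) else w c) by
          funext c; by_cases h : c = b <;> simp [h], R.colEl_add]
      exact mul_mem hv hw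
  have hv' := hN v
  rw [show (fun c => if c = b then (0 : K) else v c) = v by
    funext c; by_cases h : c = b <;> simp [h, hb]] at hv'
  refine R.smul_colC_of_mem v (g' := (R.colEl v)⁻¹ * x 0 b.succ β * R.colEl v) (hCQ ?_) (by group)
  have := (Subgroup.mem_normalizer_iff.1 (inv_mem hv') (x 0 b.succ β)).1 (Subgroup.subset_closure ⟨_, _, rfl⟩)
  rwa [inv_inv] at this

/-- The coset of a vector computed with the pivot `j`. -/
noncomputable def sig (j : Fin n) (w : Fin (n + 1) → K) : G ⧸ stab x :=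
  x 0 j.succ ((w 0 - 1) / w j.succ) • R.colC (fun c => w c.succ)

omit [Group G] in
/-- The image of a vector under a transvection. -/
def mv (i j : Fin (n + 1)) (t : K) (w : Fin (n + 1) → K) : Fin (n + 1) → K := w + Pi.single i (t * w j)

omit [Group G] in
lemma mv_self {i j : Fin (n + 1)} (t : K) {w : Fin (n + 1) → K} (h : w j = 0) : mv i j t w = w := by
  simp [mv, h]

omit [Group G] in
lemma mv_of_ne {i j k : Fin (n + 1)} (t : K) (w : Fin (n + 1) → K) (h : k ≠ i) : mv i j t w k = w k := by
  simp [mv, h]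

lemma sig_eq {j k : Fin n} {w : Fin (n + 1) → K} (hj : w j.succ ≠ 0) (hk : w k.succ ≠ 0) :
    R.sig j w = R.sig k w := by
  rcases eq_or_ne j k with rfl | hjk
  · rfl
  unfold sig
  set α := (w 0 - 1) / w j.succ with hα
  set β := (w 0 - 1) / w k.succ with hβ
  set v : Fin n → K := fun c => w c.succ with hv
  set m := -(w k.succ / w j.succ) with hm
  set y := x k.succ j.succ m
  set v' := v + Pi.single k (m * v j)
  have hyv : y • R.colC v = R.colC v' := R.colEl_lower hjk.symm m v
  have hv'k : v' k = 0 := by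
    simp only [v', hv, hm, Pi.add_apply, Pi.single_eq_same]; field_simp; ring
  have e : y * (x 0 k.succ (-β) * x 0 j.succ α) * y⁻¹ = x 0 k.succ (-β) := by
    have hy1 : y * x 0 j.succ α = x 0 j.succ α * y :=
      R.comm k.succ j.succ 0 j.succ m α (fun e => hjk (Fin.succ_injective _ e).symm) (Fin.succ_ne_zero _)
    have hy2 : y * x 0 k.succ (-β) = x 0 j.succ (-(-β * m)) * (x 0 k.succ (-β) * y) :=
      R.mul' (-β) m (Fin.succ_ne_zero _).symm (fun e => hjk (Fin.succ_injective _ e).symm) (Fin.succ_ne_zero _).symm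
    have hc : x 0 k.succ (-β) * x 0 j.succ α = x 0 j.succ α * x 0 k.succ (-β) :=
      R.comm 0 k.succ 0 j.succ (-β) α (Fin.succ_ne_zero _).symm (Fin.succ_ne_zero _)
    rw [hc, ← mul_assoc y, hy1, mul_assoc (x 0 j.succ α), hy2, ← mul_assoc, ← mul_assoc, R.add,
      show α + -(-β * m) = 0 by rw [hα, hβ, hm]; field_simp; ring, R.zero, one_mul, mul_inv_cancel_right]
  have hfix : (x 0 k.succ (-β) * x 0 j.succ α) • R.colC v = R.colC v := by
    refine smul_left_cancel y ?_
    rw [hyv, smul_smul, ← mul_inv_cancel_right (y * (x 0 k.succ (-β) * x 0 j.succ α)) y⁻¹, inv_inv, e,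
      mul_smul, hyv, R.colEl_top _ hv'k]
  rw [mul_smul, ← R.inv, inv_smul_eq_iff] at hfix
  exact hfix

open Classical in
/-- The coset of a non-zero vector. -/
noncomputable def sigma [NeZero n] (w : Fin (n + 1) → K) : G ⧸ stab x :=
  if h : ∃ j : Fin n, w j.succ ≠ 0 then R.sig h.choose w
  else x (0 : Fin n).succ 0 (-(w 0)⁻¹) • R.sig 0 (w + Pi.single (0 : Fin n).succ 1)

lemma sigma_eq [NeZero n] {j : Fin n} {w : Fin (n + 1) → K} (hj : w j.succ ≠ 0) : R.sigma w = R.sig j w := by
  rw [sigma, dif_pos ⟨j, hj⟩]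
  exact R.sig_eq (Exists.choose_spec (p := fun j : Fin n => w j.succ ≠ 0) ⟨j, hj⟩) hj

/-- Tail moves, with a pivot outside the moved row. -/
lemma col_move {a j : Fin n} (haj : j ≠ a) (t : K) {w : Fin (n + 1) → K} (hj : w j.succ ≠ 0) :
    x a.succ 0 t • R.sig j w = R.sig j (mv a.succ 0 t w) := by
  unfold sig
  rw [mv_of_ne t w (Fin.succ_ne_zero a).symm, mv_of_ne t w (fun e => haj (Fin.succ_injective _ e))]
  set α := (w 0 - 1) / w j.succ with hα
  have e : x a.succ 0 t * x 0 j.succ α = x 0 j.succ α * (x a.succ j.succ (t * α) * x a.succ 0 t) := by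
    rw [R.mul a.succ 0 j.succ t α (Fin.succ_ne_zero _) (Fin.succ_ne_zero _).symm
      (fun e => haj (Fin.succ_injective _ e).symm), ← mul_assoc]
    congr 1
    exact R.comm a.succ j.succ 0 j.succ _ _ (fun e => haj (Fin.succ_injective _ e).symm) (Fin.succ_ne_zero _)
  rw [smul_smul, e, mul_smul, mul_smul, R.colEl_row, R.colEl_lower haj.symm]
  congr 1
  congr 1
  funext c
  simp only [Pi.add_apply, mv]
  rcases eq_or_ne c a with rfl | hca
  · simp only [Pi.single_eq_same, Pi.single_eq_of_ne haj, add_zero, hα]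
    field_simp
    ring
  · rw [Pi.single_eq_of_ne hca, Pi.single_eq_of_ne hca, Pi.single_eq_of_ne (fun e => hca (Fin.succ_injective _ e))]
    ring

omit [Group G] in
lemma exists_other (hn : 2 ≤ n) (a : Fin n) : ∃ k : Fin n, k ≠ a := by
  haveI : Nontrivial (Fin n) := Fin.nontrivial_iff_two_le.2 hn
  exact exists_ne a

/-- Removing an auxiliary coordinate. -/
lemma sigma_aux [NeZero n] {k : Fin n} {w : Fin (n + 1) → K} (hk : w k.succ = 0) (h0 : w 0 ≠ 0) :
    x k.succ 0 (-(w 0)⁻¹) • R.sigma (w + Pi.single k.succ 1) = R.sigma w := by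
  classical
  have hwk : (w + Pi.single k.succ 1 : Fin (n + 1) → K) k.succ ≠ 0 := by simp [hk]
  by_cases h : ∃ j : Fin n, w j.succ ≠ 0
  · obtain ⟨j, hj⟩ := h
    have hjk : j ≠ k := fun e => hj (e ▸ hk)
    have hwj : (w + Pi.single k.succ 1 : Fin (n + 1) → K) j.succ ≠ 0 := by
      simpa [Pi.single_eq_of_ne (show j.succ ≠ k.succ from fun e => hjk (Fin.succ_injective _ e))] using hj
    rw [R.sigma_eq hwj, R.col_move hjk _ hwj, R.sigma_eq hj]
    congr 1
    funext i
    rw [mv, Pi.add_apply, Pi.add_apply]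
    rcases eq_or_ne i k.succ with rfl | hi
    · simp [(Fin.succ_ne_zero k).symm, h0]
    · simp [hi]
  · conv_rhs => rw [sigma, dif_neg h]
    push Not at h
    rw [R.sigma_eq hwk]
    rcases eq_or_ne k 0 with rfl | hk0
    · rfl
    set W := w + Pi.single k.succ 1 + Pi.single (0 : Fin n).succ 1 with hW
    have h0k : (0 : Fin n).succ ≠ k.succ := fun e => hk0 (Fin.succ_injective _ e).symm
    have hWk : W k.succ ≠ 0 := by simp [hW, h, h0k.symm, -Fin.succ_zero_eq_one']
    have hW0 : W (0 : Fin n).succ ≠ 0 := by simp [hW, h, h0k, -Fin.succ_zero_eq_one']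
    have e1 : R.sig k (w + Pi.single k.succ 1) = x (0 : Fin n).succ 0 (-(w 0)⁻¹) • R.sig k W := by
      rw [R.col_move hk0 _ hWk]
      congr 1
      funext i
      rw [mv, hW]
      rcases eq_or_ne i (0 : Fin n).succ with rfl | hi
      · simp [-Fin.succ_zero_eq_one', h, h0k, (Fin.succ_ne_zero (0 : Fin n)).symm, (Fin.succ_ne_zero k).symm, h0]
      · simp [-Fin.succ_zero_eq_one', hi]
    have e2 : R.sig 0 (w + Pi.single (0 : Fin n).succ 1) = x k.succ 0 (-(w 0)⁻¹) • R.sig 0 W := by
      rw [R.col_move hk0.symm _ hW0]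
      congr 1
      funext i
      rw [mv, hW]
      rcases eq_or_ne i k.succ with rfl | hi
      · simp [-Fin.succ_zero_eq_one', h, h0k.symm, (Fin.succ_ne_zero (0 : Fin n)).symm, (Fin.succ_ne_zero k).symm, h0]
      · simp [-Fin.succ_zero_eq_one', hi]
    rw [e1, e2, R.sig_eq hWk hW0, smul_smul, smul_smul,
      (R.comm k.succ 0 (0 : Fin n).succ 0 _ _ (Fin.succ_ne_zero _) (Fin.succ_ne_zero _).symm).eq]

/-- Vectors with a non-zero tail. -/
lemma equiv_tail [NeZero n] (hn : 2 ≤ n) {i j : Fin (n + 1)} (hij : i ≠ j) (t : K) {w : Fin (n + 1) → K}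
    (hw : ∃ c : Fin n, w c.succ ≠ 0) : x i j t • R.sigma w = R.sigma (mv i j t w) := by
  classical
  rcases Fin.eq_zero_or_eq_succ i with rfl | ⟨a, rfl⟩ <;> rcases Fin.eq_zero_or_eq_succ j with rfl | ⟨b, rfl⟩
  · exact absurd rfl hij
  · by_cases hb : w b.succ = 0
    · obtain ⟨c, hc⟩ := hw
      rw [mv_self t hb, R.sigma_eq hc, sig, smul_smul,
        (R.comm 0 b.succ 0 c.succ t _ (Fin.succ_ne_zero _).symm (Fin.succ_ne_zero _)).eq, mul_smul,
        R.colEl_top t (v := fun c => w c.succ) hb]
    · have hb' : mv 0 b.succ t w b.succ ≠ 0 := by rwa [mv_of_ne t w (Fin.succ_ne_zero b)]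
      rw [R.sigma_eq hb, R.sigma_eq hb']
      unfold sig
      rw [smul_smul, R.add]
      congr 1
      · congr 1
        rw [mv_of_ne t w (Fin.succ_ne_zero b), mv, Pi.add_apply, Pi.single_eq_same]
        field_simp
        ring
      · congr 1; funext c; rw [mv_of_ne t w (Fin.succ_ne_zero c)]
  · by_cases hp : ∃ c, c ≠ a ∧ w c.succ ≠ 0
    · obtain ⟨c, hca, hc⟩ := hp
      have hc' : mv a.succ 0 t w c.succ ≠ 0 := by
        rwa [mv_of_ne t w fun e => hca (Fin.succ_injective _ e)]
      rw [R.sigma_eq hc, R.sigma_eq hc', R.col_move hca t hc]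
    push Not at hp
    have ha : w a.succ ≠ 0 := by
      obtain ⟨c, hc⟩ := hw
      rcases eq_or_ne c a with rfl | hca
      · exact hc
      · exact absurd (hp c hca) hc
    obtain ⟨k, hk⟩ := exists_other hn a
    have hks : k.succ ≠ a.succ := fun e => hk (Fin.succ_injective _ e)
    by_cases h0 : w 0 = 0
    · rw [mv_self t h0]
      have f1 : ∀ s, x k.succ 0 s • R.sigma w = R.sigma w := fun s => by
        rw [R.sigma_eq ha, R.col_move hk.symm s ha, mv_self s h0]
      have f2 : ∀ s, x a.succ k.succ s • R.sigma w = R.sigma w := fun s => by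
        have hs : x a.succ k.succ s * x 0 a.succ ((w 0 - 1) / w a.succ) = x 0 a.succ ((w 0 - 1) / w a.succ) *
            (x 0 k.succ (-((w 0 - 1) / w a.succ * s)) * x a.succ k.succ s) := by
          rw [R.mul' _ s (Fin.succ_ne_zero a).symm hks.symm (Fin.succ_ne_zero k).symm, ← mul_assoc, ← mul_assoc]
          congr 1
          exact (R.comm 0 k.succ 0 a.succ _ _ (Fin.succ_ne_zero _).symm (Fin.succ_ne_zero _)).eq
        rw [R.sigma_eq ha, sig, smul_smul, hs, mul_smul, mul_smul, R.colEl_lower hk.symm,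
          show w k.succ = 0 from hp k hk, mul_zero, Pi.single_zero, add_zero, R.colEl_top _ (hp k hk)]
      have e : x a.succ 0 t = x a.succ k.succ t * x k.succ 0 1 * (x a.succ k.succ t)⁻¹ * (x k.succ 0 1)⁻¹ := by
        rw [R.mul a.succ k.succ 0 t 1 hks.symm (Fin.succ_ne_zero _) (Fin.succ_ne_zero _), mul_one]; group
      rw [e, R.inv, R.inv, mul_smul, mul_smul, mul_smul, f1, f2, f1, f2]
    · have hwk : (w + Pi.single k.succ 1 : Fin (n + 1) → K) k.succ ≠ 0 := by simp [hp k hk]
      conv_lhs => rw [← R.sigma_aux (hp k hk) h0]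
      rw [smul_smul, (R.comm a.succ 0 k.succ 0 t _ (Fin.succ_ne_zero _) (Fin.succ_ne_zero _).symm).eq,
        mul_smul, R.sigma_eq hwk, R.col_move hk t hwk]
      have e : mv a.succ 0 t (w + Pi.single k.succ 1) = mv a.succ 0 t w + Pi.single k.succ 1 := by
        simp [mv, (Fin.succ_ne_zero k).symm]; abel
      have h0' : mv a.succ 0 t w 0 = w 0 := mv_of_ne t w (Fin.succ_ne_zero a).symm
      have hk' : mv a.succ 0 t w k.succ = 0 := by rw [mv_of_ne t w hks]; exact hp k hk
      rw [e, ← R.sigma_eq (j := k) (w := mv a.succ 0 t w + Pi.single k.succ 1) (by simp [hk']),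
        ← h0', R.sigma_aux hk' (by rwa [h0'])]
  · have hab : a ≠ b := fun e => hij (congrArg Fin.succ e)
    by_cases hp : ∃ c, c ≠ a ∧ w c.succ ≠ 0
    · obtain ⟨c, hca, hc⟩ := hp
      have hcs : c.succ ≠ a.succ := fun e => hca (Fin.succ_injective _ e)
      have hc' : mv a.succ b.succ t w c.succ ≠ 0 := by rwa [mv_of_ne t w hcs]
      rw [R.sigma_eq hc, R.sigma_eq hc']
      unfold sig
      rw [mv_of_ne t w hcs, mv_of_ne t w (Fin.succ_ne_zero a).symm, smul_smul,
        (R.comm a.succ b.succ 0 c.succ t _ hcs.symm (Fin.succ_ne_zero _)).eq, mul_smul, R.colEl_lower hab]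
      congr 2
      funext d
      rcases eq_or_ne d a with rfl | hd
      · simp [mv]
      · simp [mv, hd]
    push Not at hp
    have ha : w a.succ ≠ 0 := by
      obtain ⟨c, hc⟩ := hw
      rcases eq_or_ne c a with rfl | hca
      · exact hc
      · exact absurd (hp c hca) hc
    have hb := hp b hab.symm
    rw [mv_self t hb, R.sigma_eq ha, sig, smul_smul,
      R.mul' _ t (Fin.succ_ne_zero a).symm hij (Fin.succ_ne_zero b).symm, ← mul_assoc,
      (R.comm 0 b.succ 0 a.succ _ _ (Fin.succ_ne_zero _).symm (Fin.succ_ne_zero _)).eq, mul_assoc, mul_smul, mul_smul,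
      R.colEl_lower hab, hb, mul_zero, Pi.single_zero, add_zero, R.colEl_top _ hb]

/-- The equivariance of the section. -/
lemma equivariant [NeZero n] (hn : 2 ≤ n) {i j : Fin (n + 1)} (hij : i ≠ j) (t : K) {w : Fin (n + 1) → K}
    (hw : w ≠ 0) : x i j t • R.sigma w = R.sigma (mv i j t w) := by
  classical
  by_cases ht : ∃ c : Fin n, w c.succ ≠ 0
  · exact R.equiv_tail hn hij t ht
  push Not at ht
  have h0 : w 0 ≠ 0 := fun e => hw (funext fun i => Fin.cases e ht i)
  have htail : ∀ k : Fin n, ∃ c : Fin n, (w + Pi.single k.succ 1 : Fin (n + 1) → K) c.succ ≠ 0 := fun k =>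
    ⟨k, by simp [ht k]⟩
  rcases Fin.eq_zero_or_eq_succ i with rfl | ⟨a, rfl⟩ <;> rcases Fin.eq_zero_or_eq_succ j with rfl | ⟨b, rfl⟩
  · exact absurd rfl hij
  · obtain ⟨k, hk⟩ := exists_other hn b
    have hkb : k.succ ≠ b.succ := fun e => hk (Fin.succ_injective _ e)
    have hb0 : (w + Pi.single k.succ 1 : Fin (n + 1) → K) b.succ = 0 := by simp [ht b, hkb.symm]
    rw [mv_self t (ht b), ← R.sigma_aux (ht k) h0, smul_smul,
      R.mul' _ t (Fin.succ_ne_zero k) (Fin.succ_ne_zero b).symm hkb, ← mul_assoc,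
      (R.comm k.succ b.succ k.succ 0 _ _ (Fin.succ_ne_zero _) hkb.symm).eq, mul_assoc, mul_smul, mul_smul,
      R.equiv_tail hn (Fin.succ_ne_zero b).symm t (htail k), mv_self t hb0,
      R.equiv_tail hn hkb _ (htail k), mv_self _ hb0]
  · obtain ⟨k, hk⟩ := exists_other hn a
    have hks : k.succ ≠ a.succ := fun e => hk (Fin.succ_injective _ e)
    conv_lhs => rw [← R.sigma_aux (ht k) h0]
    rw [smul_smul, (R.comm a.succ 0 k.succ 0 t _ (Fin.succ_ne_zero _) (Fin.succ_ne_zero _).symm).eq, mul_smul,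
      R.equiv_tail hn (Fin.succ_ne_zero a) t (htail k)]
    have e : mv a.succ 0 t (w + Pi.single k.succ 1) = mv a.succ 0 t w + Pi.single k.succ 1 := by
      simp [mv, (Fin.succ_ne_zero k).symm]; abel
    have h0' : mv a.succ 0 t w 0 = w 0 := mv_of_ne t w (Fin.succ_ne_zero a).symm
    have hk' : mv a.succ 0 t w k.succ = 0 := by rw [mv_of_ne t w hks]; exact ht k
    rw [e, ← h0', R.sigma_aux hk' (by rwa [h0'])]
  · obtain ⟨k, hk⟩ := exists_other hn b
    have hkb : k.succ ≠ b.succ := fun e => hk (Fin.succ_injective _ e)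
    have hb0 : (w + Pi.single k.succ 1 : Fin (n + 1) → K) b.succ = 0 := by simp [ht b, hkb.symm]
    rw [mv_self t (ht b), ← R.sigma_aux (ht k) h0, smul_smul,
      (R.comm a.succ b.succ k.succ 0 t _ (Fin.succ_ne_zero _) hkb.symm).eq, mul_smul,
      R.equiv_tail hn hij t (htail k), mv_self t hb0]

section step

variable (φ : G →* Matrix.SpecialLinearGroup (Fin (n + 1)) K)
  (hφ : ∀ i j, i ≠ j → ∀ t, (φ (x i j t) : Matrix (Fin (n + 1)) (Fin (n + 1)) K) = Matrix.transvection i j t)

variable (x) in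
/-- The subgroup on the last `n` indices. -/
def lower : Subgroup G := Subgroup.closure {g | ∃ (a b : Fin n) (t : K), g = x a.succ b.succ t}

/-- Row and column zero of a unit vector. -/
def blockSub : Subgroup (Matrix.SpecialLinearGroup (Fin (n + 1)) K) where
  carrier := {g | ∀ a : Fin n, (g : Matrix (Fin (n + 1)) (Fin (n + 1)) K) a.succ 0 = 0 ∧
    (g : Matrix (Fin (n + 1)) (Fin (n + 1)) K) 0 a.succ = 0 ∧ (g : Matrix (Fin (n + 1)) (Fin (n + 1)) K) 0 0 = 1}
  one_mem' a := by
    simp [Fin.succ_ne_zero, (Fin.succ_ne_zero a).symm]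
  mul_mem' {g h} hg hh a := by
    simp only [Set.mem_ofPred_eq] at hg hh
    simp only [Matrix.SpecialLinearGroup.coe_mul, Matrix.mul_apply, Fin.sum_univ_succ, (hg a).1, (hh a).2.1,
      (hh a).2.2, (hg a).2.2, mul_zero, zero_mul, zero_add, mul_one]
    exact ⟨Finset.sum_eq_zero fun b _ => by rw [(hh b).1, mul_zero],
      Finset.sum_eq_zero fun b _ => by rw [(hg b).2.1, zero_mul],
      by rw [Finset.sum_eq_zero fun b _ => by rw [(hg b).2.1, zero_mul], add_zero]⟩
  inv_mem' {g} hg a := by
    have e : ((g * g⁻¹ : Matrix.SpecialLinearGroup (Fin (n + 1)) K) : Matrix (Fin (n + 1)) (Fin (n + 1)) K) = 1 := by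
      rw [mul_inv_cancel, Matrix.SpecialLinearGroup.coe_one]
    have e' : ((g⁻¹ * g : Matrix.SpecialLinearGroup (Fin (n + 1)) K) : Matrix (Fin (n + 1)) (Fin (n + 1)) K) = 1 := by
      rw [inv_mul_cancel, Matrix.SpecialLinearGroup.coe_one]
    rw [Matrix.SpecialLinearGroup.coe_mul] at e e'
    simp only [Set.mem_ofPred_eq] at hg
    have hrow : ∀ c, ((g⁻¹ : Matrix.SpecialLinearGroup (Fin (n + 1)) K) : Matrix (Fin (n + 1)) (Fin (n + 1)) K) 0 c =
        (1 : Matrix (Fin (n + 1)) (Fin (n + 1)) K) 0 c := fun c => by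
      rw [← e, Matrix.mul_apply, Fin.sum_univ_succ, (hg a).2.2, one_mul,
        Finset.sum_eq_zero fun b _ => by rw [(hg b).2.1, zero_mul], add_zero]
    have hcol : ∀ c, ((g⁻¹ : Matrix.SpecialLinearGroup (Fin (n + 1)) K) : Matrix (Fin (n + 1)) (Fin (n + 1)) K) c 0 =
        (1 : Matrix (Fin (n + 1)) (Fin (n + 1)) K) c 0 := fun c => by
      rw [← e', Matrix.mul_apply, Fin.sum_univ_succ, (hg a).2.2, mul_one,
        Finset.sum_eq_zero fun b _ => by rw [(hg b).1, mul_zero], add_zero]
    exact ⟨by rw [hcol]; simp, by rw [hrow]; simp [(Fin.succ_ne_zero a).symm], by rw [hrow]; simp⟩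

/-- The lower block. -/
def blockHom (hn : 0 < n) : blockSub (K := K) (n := n) →* Matrix.SpecialLinearGroup (Fin n) K where
  toFun g := ⟨(g.1 : Matrix (Fin (n + 1)) (Fin (n + 1)) K).submatrix Fin.succ Fin.succ, by
    have h := Matrix.det_succ_column_zero (g.1 : Matrix (Fin (n + 1)) (Fin (n + 1)) K)
    rw [g.1.2, Fin.sum_univ_succ, Finset.sum_eq_zero fun b _ => by rw [(g.2 b).1]; ring, add_zero,
      (g.2 ⟨0, hn⟩).2.2, Fin.succAbove_zero] at h
    simpa using h.symm⟩
  map_one' := Subtype.ext (by simp [Matrix.submatrix_one _ (Fin.succ_injective n)])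
  map_mul' g h := by
    refine Matrix.SpecialLinearGroup.ext _ _ fun a b => ?_
    show ((g.1 * h.1 : Matrix.SpecialLinearGroup (Fin (n + 1)) K) : Matrix (Fin (n + 1)) (Fin (n + 1)) K) a.succ b.succ =
      ((g.1 : Matrix (Fin (n + 1)) (Fin (n + 1)) K).submatrix Fin.succ Fin.succ *
        (h.1 : Matrix (Fin (n + 1)) (Fin (n + 1)) K).submatrix Fin.succ Fin.succ) a b
    rw [Matrix.SpecialLinearGroup.coe_mul, Matrix.mul_apply, Fin.sum_univ_succ, (g.2 a).1, zero_mul, zero_add,
      Matrix.mul_apply]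
    rfl

include R hφ

lemma map_lower {g : G} (hg : g ∈ lower x) : φ g ∈ blockSub (K := K) (n := n) := by
  induction hg using Subgroup.closure_induction with
  | mem g hg =>
    obtain ⟨a, b, t, rfl⟩ := hg
    rcases eq_or_ne a b with rfl | hab
    · rw [R.diag, map_one]; exact one_mem _
    · intro c
      rw [hφ _ _ (fun e => hab (Fin.succ_injective _ e))]
      simp [Matrix.transvection, Fin.succ_ne_zero, (Fin.succ_ne_zero c).symm]
  | one => rw [map_one]; exact one_mem _
  | mul g h _ _ hg hh => rw [map_mul]; exact mul_mem hg hh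
  | inv g _ hg => rw [map_inv]; exact inv_mem hg

lemma map_top_row {g : G} (hg : g ∈ Subgroup.closure {g | ∃ (j : Fin n) (t : K), g = x 0 j.succ t}) :
    ∃ c : Fin n → K, g = ((List.finRange n).map fun j => x 0 j.succ (c j)).prod ∧
      ∀ a : Fin n, (φ g : Matrix (Fin (n + 1)) (Fin (n + 1)) K) a.succ = (1 : Matrix (Fin (n + 1)) (Fin (n + 1)) K) a.succ ∧
        (∀ j, (φ g : Matrix (Fin (n + 1)) (Fin (n + 1)) K) 0 j.succ = c j) ∧
        (φ g : Matrix (Fin (n + 1)) (Fin (n + 1)) K) 0 0 = 1 := by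
  classical
  have hc : ∀ (j k : Fin n) t u, Commute (x 0 j.succ t) (x 0 k.succ u) := fun j k t u =>
    R.comm 0 j.succ 0 k.succ t u (Fin.succ_ne_zero k).symm (Fin.succ_ne_zero j)
  have hmul : ∀ (L : List (Fin n)) (c d : Fin n → K),
      (L.map fun j => x 0 j.succ ((c + d) j)).prod =
        (L.map fun j => x 0 j.succ (c j)).prod * (L.map fun j => x 0 j.succ (d j)).prod := by
    intro L c d
    induction L with
    | nil => simp
    | cons j L ih =>
      simp only [List.map_cons, List.prod_cons]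
      rw [ih, Pi.add_apply, ← R.add]
      have : Commute (x 0 j.succ (d j)) (L.map fun j => x 0 j.succ (c j)).prod :=
        Commute.list_prod_right _ _ fun z hz => by
          obtain ⟨k, -, rfl⟩ := List.mem_map.1 hz
          exact hc _ _ _ _
      calc _ = x 0 j.succ (c j) * (x 0 j.succ (d j) * (L.map fun j => x 0 j.succ (c j)).prod) *
            (L.map fun j => x 0 j.succ (d j)).prod := by group
        _ = _ := by rw [this.eq]; group
  have hsingle : ∀ (L : List (Fin n)), L.Nodup → ∀ (i : Fin n) (t : K),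
      (L.map fun j => x 0 j.succ ((Pi.single i t : Fin n → K) j)).prod = if i ∈ L then x 0 i.succ t else 1 := by
    intro L hL i t
    induction L with
    | nil => simp
    | cons j L ih =>
      rw [List.nodup_cons] at hL
      simp only [List.map_cons, List.prod_cons, ih hL.2, List.mem_cons]
      rcases eq_or_ne i j with rfl | hij
      · simp [hL.1]
      · simp [hij.symm, hij, R.zero]
  induction hg using Subgroup.closure_induction with
  | mem g hg =>
    obtain ⟨i, t, rfl⟩ := hg
    refine ⟨Pi.single i t, by rw [hsingle _ (List.nodup_finRange n)]; simp, fun a => ?_⟩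
    rw [hφ _ _ (Fin.succ_ne_zero i).symm]
    refine ⟨funext fun c => by simp [Matrix.transvection, Matrix.single_apply, (Fin.succ_ne_zero a).symm], fun j => ?_,
      by simp [Matrix.transvection, Fin.succ_ne_zero]⟩
    rcases eq_or_ne j i with rfl | hji
    · simp [Matrix.transvection, (Fin.succ_ne_zero j).symm]
    · simp [Matrix.transvection, (Fin.succ_ne_zero j).symm, hji, hji.symm]
  | one =>
    refine ⟨0, by simp [R.zero], fun a => ?_⟩
    simp [(Fin.succ_ne_zero _).symm]
  | mul g h _ _ hg hh =>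
    obtain ⟨c, hc1, hc2⟩ := hg
    obtain ⟨d, hd1, hd2⟩ := hh
    refine ⟨c + d, by rw [hmul, ← hc1, ← hd1], fun a => ?_⟩
    rw [map_mul, Matrix.SpecialLinearGroup.coe_mul]
    obtain ⟨g1, g2, g3⟩ := hc2 a
    obtain ⟨h1, h2, h3⟩ := hd2 a
    have hrow : ∀ b : Fin n, (φ h : Matrix (Fin (n + 1)) (Fin (n + 1)) K) b.succ =
        (1 : Matrix (Fin (n + 1)) (Fin (n + 1)) K) b.succ := fun b => (hd2 b).1
    refine ⟨funext fun z => ?_, fun j => ?_, ?_⟩
    · rw [Matrix.mul_apply, g1]
      simp only [Matrix.one_apply, ite_mul, one_mul, zero_mul, Finset.sum_ite_eq, Finset.mem_univ, if_true]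
      rw [h1]; simp [Matrix.one_apply]
    · rw [Matrix.mul_apply, Fin.sum_univ_succ, g3, one_mul, h2, Pi.add_apply, add_comm (c j)]
      congr 1
      rw [Finset.sum_eq_single j]
      · rw [g2, hrow]; simp
      · intro b _ hb; rw [hrow, Matrix.one_apply_ne (fun e => hb (Fin.succ_injective _ e)), mul_zero]
      · exact fun h => absurd (Finset.mem_univ _) h
    · rw [Matrix.mul_apply, Fin.sum_univ_succ, g3, one_mul, h3,
        Finset.sum_eq_zero fun b _ => by rw [hrow, Matrix.one_apply_ne (Fin.succ_ne_zero b), mul_zero], add_zero]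
  | inv g _ hg =>
    obtain ⟨c, hc1, hc2⟩ := hg
    refine ⟨-c, ?_, fun a => ?_⟩
    · refine inv_eq_of_mul_eq_one_right ?_
      rw [hc1, ← hmul]; simp [R.zero]
    have e : ((φ g * φ g⁻¹ : Matrix.SpecialLinearGroup (Fin (n + 1)) K) : Matrix (Fin (n + 1)) (Fin (n + 1)) K) = 1 := by
      rw [← map_mul, mul_inv_cancel, map_one, Matrix.SpecialLinearGroup.coe_one]
    rw [Matrix.SpecialLinearGroup.coe_mul] at e
    set B := (φ g⁻¹ : Matrix (Fin (n + 1)) (Fin (n + 1)) K)
    have hrow : ∀ b : Fin n, B b.succ = (1 : Matrix (Fin (n + 1)) (Fin (n + 1)) K) b.succ := fun b => by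
      funext z
      have h := congrFun (congrFun e b.succ) z
      rw [Matrix.mul_apply, (hc2 b).1] at h
      simpa [Matrix.one_apply] using h
    obtain ⟨g1, g2, g3⟩ := hc2 a
    refine ⟨hrow a, fun j => ?_, ?_⟩
    · have h := congrFun (congrFun e 0) j.succ
      rw [Matrix.mul_apply, Fin.sum_univ_succ, g3, one_mul, Finset.sum_eq_single j
        (fun b _ hb => by rw [hrow, Matrix.one_apply_ne (fun e => hb (Fin.succ_injective _ e)), mul_zero])
        (fun h => absurd (Finset.mem_univ _) h), g2, hrow, Matrix.one_apply_eq, mul_one,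
        Matrix.one_apply_ne (Fin.succ_ne_zero j).symm] at h
      rw [Pi.neg_apply]
      exact eq_neg_of_add_eq_zero_left h
    · have h := congrFun (congrFun e 0) 0
      rw [Matrix.mul_apply, Fin.sum_univ_succ, g3, one_mul,
        Finset.sum_eq_zero fun b _ => by rw [hrow, Matrix.one_apply_ne (Fin.succ_ne_zero b), mul_zero], add_zero,
        Matrix.one_apply_eq] at h
      exact h

/-- The inductive step. -/
theorem step (hn : 2 ≤ n)
    (hgen : Subgroup.closure {g | ∃ i j t, g = x i j t} = ⊤) (hlower : ∀ g ∈ lower x, φ g = 1 → g = 1) :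
    Function.Injective φ := by
  classical
  haveI : NeZero n := ⟨by omega⟩
  rw [← MonoidHom.ker_eq_bot_iff, eq_bot_iff]
  intro g hg
  rw [MonoidHom.mem_ker] at hg
  rw [Subgroup.mem_bot]
  -- equivariance
  have key : ∀ g : G, ∀ w : Fin (n + 1) → K, w ≠ 0 →
      g • R.sigma w = R.sigma ((φ g : Matrix (Fin (n + 1)) (Fin (n + 1)) K).mulVec w) ∧
        (φ g : Matrix (Fin (n + 1)) (Fin (n + 1)) K).mulVec w ≠ 0 := by
    have hone : ∀ (i j : Fin (n + 1)) (t : K) (w : Fin (n + 1) → K), w ≠ 0 →
        x i j t • R.sigma w = R.sigma ((φ (x i j t) : Matrix (Fin (n + 1)) (Fin (n + 1)) K).mulVec w) ∧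
          (φ (x i j t) : Matrix (Fin (n + 1)) (Fin (n + 1)) K).mulVec w ≠ 0 := by
      intro i j t w hw
      rcases eq_or_ne i j with rfl | hij
      · simp [R.diag, hw]
      · refine ⟨?_, fun h => hw ?_⟩
        · rw [R.equivariant hn hij t hw, hφ i j hij, Matrix.transvection, Matrix.add_mulVec, Matrix.one_mulVec,
            Matrix.single_mulVec, mv]
          congr 2
        · exact Matrix.mulVec_injective_iff_isUnit.2 ((Matrix.isUnit_iff_isUnit_det _).2
            (by rw [(φ (x i j t)).2]; exact isUnit_one)) (h.trans (Matrix.mulVec_zero _).symm)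
    intro g
    have hgm : g ∈ Subgroup.closure {g | ∃ i j t, g = x i j t} := by rw [hgen]; trivial
    induction hgm using Subgroup.closure_induction_left with
    | one => intro w hw; simp [hw]
    | mul_left a ha g _ ih =>
      obtain ⟨i, j, t, rfl⟩ := ha
      intro w hw
      obtain ⟨h1, h2⟩ := ih w hw
      rw [mul_smul, h1, map_mul, Matrix.SpecialLinearGroup.coe_mul, ← Matrix.mulVec_mulVec]
      exact hone i j t _ h2
    | inv_mul_cancel a ha g _ ih =>
      obtain ⟨i, j, t, rfl⟩ := ha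
      intro w hw
      obtain ⟨h1, h2⟩ := ih w hw
      rw [R.inv, mul_smul, h1, map_mul, Matrix.SpecialLinearGroup.coe_mul, ← Matrix.mulVec_mulVec]
      exact hone i j _ _ h2
  set e0 : Fin (n + 1) → K := Pi.single 0 1 with he0
  have hne : e0 ≠ 0 := fun h => one_ne_zero (α := K) (by simpa [he0] using congrFun h 0)
  have hbase : R.sigma e0 = ((1 : G) : G ⧸ stab x) := by
    rw [sigma, dif_neg (by simp [he0, Fin.succ_ne_zero]), sig]
    have e1 : (e0 + Pi.single (0 : Fin n).succ 1 : Fin (n + 1) → K) 0 - 1 = 0 := by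
      simp [he0, (Fin.succ_ne_zero (0 : Fin n)).symm, -Fin.succ_zero_eq_one']
    have e2 : (fun c : Fin n => (e0 + Pi.single (0 : Fin n).succ 1 : Fin (n + 1) → K) c.succ) = Pi.single 0 1 := by
      funext c
      rcases eq_or_ne c 0 with rfl | hc <;> simp [he0, Fin.succ_ne_zero, -Fin.succ_zero_eq_one', *]
    rw [e1, zero_div, R.zero, one_smul, e2, colC, R.colEl_single]
    show ((x (0 : Fin n).succ 0 (-(e0 0)⁻¹) * x (0 : Fin n).succ 0 1 : G) : G ⧸ stab x) = _
    rw [R.add, show -(e0 0)⁻¹ + 1 = (0 : K) by simp [he0], R.zero]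
  have hgQ : g ∈ stab x := by
    have := (key g e0 hne).1
    rw [hg, Matrix.SpecialLinearGroup.coe_one, Matrix.one_mulVec, hbase] at this
    have h2 : ((g : G) : G ⧸ stab x) = ((1 : G) : G ⧸ stab x) := by
      refine Eq.trans ?_ this
      show _ = ((g * 1 : G) : G ⧸ stab x)
      rw [mul_one]
    simpa [QuotientGroup.eq] using h2
  -- decomposition of the stabiliser
  set Row := Subgroup.closure {g | ∃ (j : Fin n) (t : K), g = x 0 j.succ t} with hRow
  have hdec : ∃ r ∈ Row, ∃ m ∈ lower x, g = r * m := by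
    have hlow : ∀ a b : Fin n, a ≠ b → ∀ t, ∀ r ∈ Row, x a.succ b.succ t * r * (x a.succ b.succ t)⁻¹ ∈ Row := by
      intro a b hab t r hr
      have hab' : a.succ ≠ b.succ := fun e => hab (Fin.succ_injective _ e)
      have hle : Row ≤ Row.comap (MulAut.conj (x a.succ b.succ t)).toMonoidHom := by
        refine (Subgroup.closure_le _).2 ?_
        rintro _ ⟨c, u, rfl⟩
        show x a.succ b.succ t * x 0 c.succ u * (x a.succ b.succ t)⁻¹ ∈ Row
        rcases eq_or_ne c a with rfl | hca
        · rw [R.mul' u t (Fin.succ_ne_zero c).symm hab' (Fin.succ_ne_zero b).symm, ← mul_assoc, mul_inv_cancel_right]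
          exact mul_mem (Subgroup.subset_closure ⟨_, _, rfl⟩) (Subgroup.subset_closure ⟨_, _, rfl⟩)
        · rw [(R.comm a.succ b.succ 0 c.succ t u (fun e => hca (Fin.succ_injective _ e).symm) (Fin.succ_ne_zero _)).eq,
            mul_inv_cancel_right]
          exact Subgroup.subset_closure ⟨_, _, rfl⟩
      exact hle hr
    have hmove : ∀ (i j : Fin (n + 1)) (t : K), j ≠ 0 → ∀ g, (∃ r ∈ Row, ∃ m ∈ lower x, g = r * m) →
        ∃ r ∈ Row, ∃ m ∈ lower x, x i j t * g = r * m := by
      rintro i j t hj g ⟨r, hr, m, hm, rfl⟩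
      obtain ⟨b, rfl⟩ := Fin.exists_succ_eq.2 hj
      rcases Fin.eq_zero_or_eq_succ i with rfl | ⟨a, rfl⟩
      · exact ⟨x 0 b.succ t * r, mul_mem (Subgroup.subset_closure ⟨b, t, rfl⟩) hr, m, hm, (mul_assoc _ _ _).symm⟩
      · rcases eq_or_ne a b with rfl | hab
        · exact ⟨r, hr, m, hm, by rw [R.diag, one_mul]⟩
        · exact ⟨_, hlow a b hab t r hr, x a.succ b.succ t * m,
            mul_mem (Subgroup.subset_closure ⟨a, b, t, rfl⟩) hm, by group⟩
    clear hg
    induction hgQ using Subgroup.closure_induction_left with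
    | one => exact ⟨1, one_mem _, 1, one_mem _, (one_mul 1).symm⟩
    | mul_left a ha g _ ih =>
      obtain ⟨i, j, t, hj, rfl⟩ := ha
      exact hmove i j t hj g ih
    | inv_mul_cancel a ha g _ ih =>
      obtain ⟨i, j, t, hj, rfl⟩ := ha
      rw [R.inv]
      exact hmove i j _ hj g ih
  obtain ⟨r, hr, m, hm, rfl⟩ := hdec
  obtain ⟨c, hc1, hc2⟩ := R.map_top_row φ hφ hr
  have hblk := R.map_lower φ hφ hm
  have hm1 : φ m = 1 := by
    refine Matrix.SpecialLinearGroup.ext _ _ fun a b => ?_
    rw [Matrix.SpecialLinearGroup.coe_one]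
    rcases Fin.eq_zero_or_eq_succ a with rfl | ⟨a, rfl⟩
    · rcases Fin.eq_zero_or_eq_succ b with rfl | ⟨b, rfl⟩
      · rw [(hblk 0).2.2, Matrix.one_apply_eq]
      · rw [(hblk b).2.1, Matrix.one_apply_ne (Fin.succ_ne_zero b).symm]
    · have := congrArg (fun M : Matrix.SpecialLinearGroup (Fin (n + 1)) K =>
        (M : Matrix (Fin (n + 1)) (Fin (n + 1)) K) a.succ b) hg
      simp only [map_mul, Matrix.SpecialLinearGroup.coe_mul, Matrix.SpecialLinearGroup.coe_one, Matrix.mul_apply,
        (hc2 a).1] at this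
      simpa [Matrix.one_apply] using this
  rw [map_mul, hm1, mul_one] at hg
  rw [hlower m hm hm1, mul_one, hc1]
  have hc0 : c = 0 := funext fun j => by
    rw [← (hc2 0).2.1 j, hg, Matrix.SpecialLinearGroup.coe_one, Matrix.one_apply_ne (Fin.succ_ne_zero j).symm, Pi.zero_apply]
  simp [hc0, R.zero]

end step

end StRels

section lowerData

variable {n : ℕ} {x : Fin (n + 1) → Fin (n + 1) → K → G} (R : StRels x)
  (φ : G →* Matrix.SpecialLinearGroup (Fin (n + 1)) K)
  (hφ : ∀ i j, i ≠ j → ∀ t, (φ (x i j t) : Matrix (Fin (n + 1)) (Fin (n + 1)) K) = Matrix.transvection i j t)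

/-- The data of the lower block. -/
noncomputable def lowerData (hn : 0 < n) :
    (Fin n → Fin n → K → ↥(StRels.lower x)) × (↥(StRels.lower x) →* Matrix.SpecialLinearGroup (Fin n) K) :=
  (fun a b t => ⟨x a.succ b.succ t, Subgroup.subset_closure ⟨a, b, t, rfl⟩⟩,
    (StRels.blockHom hn).comp ((φ.comp (StRels.lower x).subtype).codRestrict _ fun g => R.map_lower φ hφ g.2))

include R hφ

lemma lowerData_rels (hn : 0 < n) : StRels (lowerData R φ hφ hn).1 :=
  { diag := fun i t => Subtype.ext (R.diag _ t)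
    add := fun i j t u => Subtype.ext (R.add _ _ t u)
    comm := fun i j k l t u h1 h2 => Subtype.ext
      (R.comm _ _ _ _ t u (fun e => h1 (Fin.succ_injective _ e)) (fun e => h2 (Fin.succ_injective _ e))).eq
    mul := fun i j l t u h1 h2 h3 => Subtype.ext (R.mul _ _ _ t u (fun e => h1 (Fin.succ_injective _ e))
      (fun e => h2 (Fin.succ_injective _ e)) (fun e => h3 (Fin.succ_injective _ e))) }

lemma lowerData_gen (hn : 0 < n) :
    Subgroup.closure {g | ∃ a b t, g = (lowerData R φ hφ hn).1 a b t} = ⊤ := by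
  refine Eq.trans ?_ (Subgroup.closure_closure_coe_preimage (k := {g | ∃ (a b : Fin n) (t : K), g = x a.succ b.succ t}))
  congr 1
  ext g
  constructor
  · rintro ⟨a, b, t, rfl⟩; exact ⟨a, b, t, rfl⟩
  · rintro ⟨a, b, t, h⟩; exact ⟨a, b, t, Subtype.ext h⟩

lemma lowerData_map (hn : 0 < n) (i j : Fin n) (hij : i ≠ j) (t : K) :
    ((lowerData R φ hφ hn).2 ((lowerData R φ hφ hn).1 i j t) : Matrix (Fin n) (Fin n) K) =
      Matrix.transvection i j t := by
  show (φ (x i.succ j.succ t) : Matrix (Fin (n + 1)) (Fin (n + 1)) K).submatrix Fin.succ Fin.succ = _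
  rw [hφ _ _ (fun e => hij (Fin.succ_injective _ e))]
  ext a b
  simp [Matrix.transvection, Matrix.one_apply, Matrix.single_apply]

lemma lowerData_ker (hn : 0 < n) (g : ↥(StRels.lower x)) (h : φ g = 1) : (lowerData R φ hφ hn).2 g = 1 := by
  show StRels.blockHom hn _ = 1
  rw [show ((φ.comp (StRels.lower x).subtype).codRestrict _ fun g => R.map_lower φ hφ g.2) g = 1 from Subtype.ext h,
    map_one]

end lowerData

/-- The Steinberg relations present `SL_n`, `n ≥ 3`. -/
theorem StRels.injective [Finite K] : ∀ (n : ℕ), 3 ≤ n → ∀ {G : Type v} [Group G] {x : Fin n → Fin n → K → G},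
    StRels x → Subgroup.closure {g | ∃ i j t, g = x i j t} = ⊤ →
    ∀ φ : G →* Matrix.SpecialLinearGroup (Fin n) K,
      (∀ i j, i ≠ j → ∀ t, (φ (x i j t) : Matrix (Fin n) (Fin n) K) = Matrix.transvection i j t) →
      Function.Injective φ := by
  intro n hn
  induction n, hn using Nat.le_induction with
  | base =>
    intro G _ x R hgen φ hφ
    refine R.step φ hφ (le_refl 2) hgen fun g hg h1 => ?_
    let L := lowerData R φ hφ (by norm_num)
    have R2 : SL2Rels (fun t => L.1 0 1 t) (fun t => L.1 1 0 t) := by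
      have h := R.sl2Rels (p := (0 : Fin 2).succ) (q := (1 : Fin 2).succ) (k := 0)
        (by decide) (by decide) (by decide)
      exact ⟨fun t u => Subtype.ext (h.x_add t u), fun t u => Subtype.ext (h.y_add t u),
        fun t u ht => Subtype.ext (h.w_conj t u ht)⟩
    have hgen' : Subgroup.closure (Set.range (fun t => L.1 0 1 t) ∪ Set.range (fun t => L.1 1 0 t)) = ⊤ := by
      rw [eq_top_iff, ← lowerData_gen R φ hφ (by norm_num), Subgroup.closure_le]
      rintro _ ⟨a, b, t, rfl⟩
      fin_cases a <;> fin_cases b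
      · simp only [SetLike.mem_coe]
        exact (show (L.1 _ _ t) = 1 from Subtype.ext (R.diag _ t)) ▸ one_mem _
      · exact Subgroup.subset_closure (Or.inl ⟨t, rfl⟩)
      · exact Subgroup.subset_closure (Or.inr ⟨t, rfl⟩)
      · simp only [SetLike.mem_coe]
        exact (show (L.1 _ _ t) = 1 from Subtype.ext (R.diag _ t)) ▸ one_mem _
    have := R2.injective L.2
      (fun t => by rw [lowerData_map R φ hφ (by norm_num) 0 1 (by decide) t]; ext a b; fin_cases a <;> fin_cases b <;> simp [Matrix.transvection])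
      (fun t => by rw [lowerData_map R φ hφ (by norm_num) 1 0 (by decide) t]; ext a b; fin_cases a <;> fin_cases b <;> simp [Matrix.transvection])
      hgen'
    exact congrArg Subtype.val (@this ⟨g, hg⟩ 1 ((lowerData_ker R φ hφ (by norm_num) ⟨g, hg⟩ h1).trans (map_one _).symm))
  | succ n hn ih =>
    intro G _ x R hgen φ hφ
    refine R.step φ hφ (by omega) hgen fun g hg h1 => ?_
    have := ih (lowerData_rels R φ hφ (by omega)) (lowerData_gen R φ hφ (by omega)) (lowerData R φ hφ (by omega)).2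
      (fun i j hij t => lowerData_map R φ hφ (by omega) i j hij t)
    exact congrArg Subtype.val (@this ⟨g, hg⟩ 1 ((lowerData_ker R φ hφ (by omega) ⟨g, hg⟩ h1).trans (map_one _).symm))

end Cfsg.Agent.H54.Presentation
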