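import Cfsg.Agent.H54.G2Invol

/-!
The centraliser of an involution in G₂ of odd characteristic.
-/

set_option autoImplicit false

namespace Cfsg.Agent.H54.G2

open Cfsg.Lie
open scoped MatrixGroups

variable {F : Type*} [Field F]

theorem L_eq_sup : L F = (phiA F).range ⊔ (phiB F).range :=
  (MonoidHom.noncommCoprod_range (phiA F) (phiB F) phi_comm)

theorem inf_range : (phiA F).range ⊓ (phiB F).range = Subgroup.zpowers (z F) := by
  refine le_antisymm ?_ ((Subgroup.zpowers_le).2 ⟨⟨-1, rfl⟩, ⟨-1, phiB_neg_one⟩⟩)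
  rintro _ ⟨⟨A, rfl⟩, ⟨B, hB⟩⟩
  have h : phiL F (A, B⁻¹) = 1 := by rw [phiL_apply, map_inv, hB, mul_inv_cancel]
  obtain ⟨-, rfl | rfl⟩ := phiL_eq_one.1 h
  · rw [map_one]; exact one_mem _
  · exact Subgroup.mem_zpowers _

variable [Fintype F]

theorem centralizer_structure (hF : Odd (Fintype.card F)) {t : G F} (ht : orderOf t = 2) :
    Nat.card (Subgroup.centralizer ({t} : Set (G F))) = Fintype.card F ^ 2 * (Fintype.card F ^ 2 - 1) ^ 2 ∧
      ∃ L₁ L₂ : Subgroup (G F), Nonempty (L₁ ≃* SL(2, F)) ∧ Nonempty (L₂ ≃* SL(2, F)) ∧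
        (∀ x ∈ L₁, ∀ y ∈ L₂, x * y = y * x) ∧ L₁ ⊓ L₂ = Subgroup.zpowers t ∧
        L₁ ⊔ L₂ ≤ Subgroup.centralizer ({t} : Set (G F)) ∧
        (L₁ ⊔ L₂).relIndex (Subgroup.centralizer ({t} : Set (G F))) = 2 := by
  have h2 : (2 : F) ≠ 0 := by
    refine Ring.two_ne_zero fun h => ?_
    exact Nat.not_odd_iff_even.2 (Nat.even_iff.2 (FiniteField.even_card_iff_char_two.1 h)) hF
  obtain ⟨g, hg⟩ := isConj_iff.1 (isConj_z hF ht).symm
  set φ := (MulAut.conj g).toMonoidHom with hφ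
  have hinj : Function.Injective φ := (MulAut.conj g).injective
  have hφz : φ (z F) = t := hg
  have hC : Subgroup.centralizer ({t} : Set (G F)) = (K F).map φ := by
    ext x
    rw [Subgroup.mem_centralizer_singleton_iff]
    constructor
    · intro hx
      refine ⟨g⁻¹ * x * g, mem_K.2 (hinj ?_), by simp [hφ, mul_assoc]⟩
      rw [map_mul φ (z F) (g⁻¹ * x * g), map_mul φ (g⁻¹ * x * g) (z F), hφz, show φ (g⁻¹ * x * g) = x by simp [hφ, mul_assoc]]
      exact hx.symm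
    · rintro ⟨y, hy, rfl⟩
      rw [← hφz, ← map_mul, ← map_mul, (mem_K.1 hy).eq]
  refine ⟨?_, (phiA F).range.map φ, (phiB F).range.map φ,
    ⟨((MonoidHom.ofInjective phiA_injective).trans (Subgroup.equivMapOfInjective _ φ hinj)).symm⟩,
    ⟨((MonoidHom.ofInjective phiB_injective).trans (Subgroup.equivMapOfInjective _ φ hinj)).symm⟩,
    ?_, ?_, ?_, ?_⟩
  · rw [hC, ← card_K h2]
    exact (Nat.card_congr (Subgroup.equivMapOfInjective _ φ hinj).toEquiv).symm
  · rintro _ ⟨_, ⟨A, rfl⟩, rfl⟩ _ ⟨_, ⟨B, rfl⟩, rfl⟩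
    rw [← map_mul, ← map_mul, (phi_comm A B).eq]
  · rw [← Subgroup.map_inf _ _ _ hinj, inf_range, MonoidHom.map_zpowers, hφz]
  · rw [← Subgroup.map_sup, ← L_eq_sup, hC]
    exact Subgroup.map_mono L_le_K
  · rw [← Subgroup.map_sup, ← L_eq_sup, hC, Subgroup.relIndex_map_map_of_injective _ _ hinj]
    exact relIndex_L h2

end Cfsg.Agent.H54.G2
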