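import Cfsg.Agent.BlockBasic.Basic
import Cfsg.Agent.BlockBasic.Residue
import Cfsg.Agent.CharBasic.Integral
import Cfsg.Agent.H35.BrauerHom
import Cfsg.Agent.H35.Defect
import Cfsg.Agent.H82.BrauerMap
import Cfsg.Agent.Cores.PCore
import Cfsg.Agent.S0955
import Mathlib.LinearAlgebra.Dual.Lemmas
import Mathlib.FieldTheory.Finiteness

/-!
Groups in which `p`-regular elements centralising radical non-trivial `p`-subgroups are central: the blocks of
positive defect have full defect and correspond to the characters of the centre.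
-/

set_option autoImplicit false
set_option linter.unusedSectionVars false
set_option linter.style.haveILetI false

open scoped ComplexConjugate

namespace Cfsg.Agent.H54.CB

open BlockBasic CharBasic

universe u

/-- Regular elements centralising radical subgroups are central. -/
def CentralLocal (p : ℕ) (G : Type u) [Group G] : Prop :=
  ∀ D : Subgroup G, D ≠ ⊥ → IsPGroup p D →
    (Cfsg.pCore p (Subgroup.normalizer (D : Set G))).map (Subgroup.normalizer (D : Set G)).subtype = D →
    ∀ g : G, ¬ p ∣ orderOf g → g ∈ Subgroup.centralizer (D : Set G) → g ∈ Subgroup.center G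

variable {G : Type u} [Group G] [Finite G] {p : ℕ} [Fact p.Prime] {M : Ideal AlgInt}

theorem defectClass_mem_center (hH : CentralLocal p G) (hM : IsPModular p M) {B : Set (IrrCharacter G)}
    (hB : IsPBlock M B) {g : G} (hg : IsDefectClass M B g) (hd : blockDefect p B ≠ 0) :
    g ∈ Subgroup.center G := by
  let P : Sylow p (Subgroup.centralizer ({g} : Set G)) := default
  have hD : IsDefectGroup p M B (H35.sylImage P) := ⟨g, hg, P, rfl⟩
  refine hH (H35.sylImage P) ?_ (H35.sylImage_isPGroup P) (S0955.result p M hM B hB _ hD) g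
    (H35.not_dvd_orderOf_of_isDefectClass hM hB hg) ?_
  · intro h
    have h1 := H35.card_defectGroup hM hB hD
    rw [h, Subgroup.card_bot] at h1
    exact hd ((Nat.pow_eq_one.1 h1.symm).resolve_left (Fact.out : p.Prime).ne_one)
  · rw [Subgroup.mem_centralizer_iff]
    exact fun q hq => Subgroup.mem_centralizer_singleton_iff.1 (H35.sylImage_le P hq)

theorem centralizer_eq_top {z : G} (hz : z ∈ Subgroup.center G) :
    Subgroup.centralizer ({z} : Set G) = ⊤ :=
  Subgroup.centralizer_eq_top_iff_subset.2 (Set.singleton_subset_iff.2 hz)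

theorem blockDefect_eq_full (hH : CentralLocal p G) (hM : IsPModular p M) {B : Set (IrrCharacter G)}
    (hB : IsPBlock M B) (hd : blockDefect p B ≠ 0) :
    blockDefect p B = (Nat.card G).factorization p := by
  obtain ⟨g, hg⟩ := exists_isDefectClass hM hB
  rw [H35.blockDefect_eq hM hB hg, centralizer_eq_top (defectClass_mem_center hH hM hB hg hd),
    Subgroup.card_top]

/-- In positive defect every Sylow subgroup is a defect group. -/
theorem isDefectGroup_sylow (hH : CentralLocal p G) (hM : IsPModular p M) {B : Set (IrrCharacter G)}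
    (hB : IsPBlock M B) (hd : blockDefect p B ≠ 0) (P : Sylow p G) :
    IsDefectGroup p M B (P : Subgroup G) := by
  obtain ⟨g, hg⟩ := exists_isDefectClass hM hB
  have hle : (P : Subgroup G) ≤ Subgroup.centralizer ({g} : Set G) :=
    (centralizer_eq_top (defectClass_mem_center hH hM hB hg hd)).symm ▸ le_top
  refine ⟨g, hg, P.subtype hle, ?_⟩
  rw [Sylow.coe_subtype, Subgroup.map_subgroupOf_eq_of_le hle]

theorem blockDefect_eq_zero_iff (hM : IsPModular p M) {B : Set (IrrCharacter G)} (hB : IsPBlock M B) :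
    blockDefect p B = 0 ↔
      ∃ χ : IrrCharacter G, B = {χ} ∧ ¬ p ∣ Nat.card G / charDegree (χ : G → ℂ) := by
  have hle : ∀ χ : IrrCharacter G,
      (charDegree (χ : G → ℂ)).factorization p ≤ (Nat.card G).factorization p := fun χ =>
    Nat.factorization_le_iff_dvd (charDegree_pos χ).ne' Nat.card_pos.ne' |>.2 (charDegree_dvd χ) p
  have hdiv : ∀ χ : IrrCharacter G, (Nat.card G / charDegree (χ : G → ℂ)).factorization p =
      (Nat.card G).factorization p - (charDegree (χ : G → ℂ)).factorization p := fun χ => by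
    rw [Nat.factorization_div (charDegree_dvd χ), Finsupp.tsub_apply]
  constructor
  · intro h
    obtain ⟨χ, hχ⟩ := isPBlock_nonempty hM hB
    have h1 : (Nat.card G).factorization p ≤ (charDegree (χ : G → ℂ)).factorization p :=
      (Nat.sub_eq_zero_iff_le.1 h).trans (Nat.sInf_le ⟨χ, hχ, rfl⟩)
    have h2 : ¬ p ∣ Nat.card G / charDegree (χ : G → ℂ) := fun hp => by
      have h3 := (Fact.out : p.Prime).factorization_pos_of_dvd
        (Nat.div_pos (Nat.le_of_dvd Nat.card_pos (charDegree_dvd χ)) (charDegree_pos χ)).ne' hp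
      rw [hdiv] at h3
      omega
    exact ⟨χ, (isPBlock_eq_blockOf hM hB hχ).trans ((blockOf_eq_singleton_iff hM χ).2 h2), h2⟩
  · rintro ⟨χ, rfl, h2⟩
    have h3 := Nat.factorization_eq_zero_of_not_dvd h2
    rw [hdiv] at h3
    rw [blockDefect, Set.image_singleton, csInf_singleton]
    exact h3

theorem singleton_of_degree (hM : IsPModular p M) {χ : IrrCharacter G}
    (h : ¬ p ∣ Nat.card G / charDegree (χ : G → ℂ)) :
    IsPBlock M ({χ} : Set (IrrCharacter G)) ∧ blockDefect p ({χ} : Set (IrrCharacter G)) = 0 := by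
  have hB : IsPBlock M ({χ} : Set (IrrCharacter G)) := ⟨χ, ((blockOf_eq_singleton_iff hM χ).2 h).symm⟩
  exact ⟨hB, (blockDefect_eq_zero_iff hM hB).2 ⟨χ, rfl, h⟩⟩

/-! ### Central characters on the centre -/

theorem centralChar_of_mem_center (χ : G → ℂ) {z : G} (hz : z ∈ Subgroup.center G) :
    centralChar χ z = χ z / χ 1 := by
  rw [centralChar, centralizer_eq_top hz, Subgroup.index_top, Nat.cast_one, one_mul]

theorem apply_one_ne_zero (χ : IrrCharacter G) : (χ : G → ℂ) 1 ≠ 0 := by
  cases nonempty_fintype G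
  exact irr_one_ne_zero χ.2

theorem apply_mul_center (χ : IrrCharacter G) {z : G} (hz : z ∈ Subgroup.center G) (g : G) :
    (χ : G → ℂ) (g * z) = centralChar (χ : G → ℂ) z * (χ : G → ℂ) g := by
  obtain ⟨n, ρ, hirr, hρ⟩ := χ.2
  haveI := hirr
  obtain ⟨ω, -, -, hω⟩ := exists_central_scalar ρ hz
  have h1 := hω 1
  rw [one_mul] at h1
  rw [centralChar_of_mem_center _ hz, ← hρ, h1, mul_div_assoc, div_self, mul_one]
  · exact hω g
  · rw [hρ]; exact apply_one_ne_zero χ

theorem centralChar_center_mul (χ : IrrCharacter G) {z w : G} (hz : z ∈ Subgroup.center G)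
    (hw : w ∈ Subgroup.center G) :
    centralChar (χ : G → ℂ) (z * w) = centralChar (χ : G → ℂ) z * centralChar (χ : G → ℂ) w := by
  rw [centralChar_of_mem_center _ (mul_mem hz hw), apply_mul_center χ hw, mul_div_assoc,
    ← centralChar_of_mem_center _ hz, mul_comm]

theorem centralChar_one (χ : IrrCharacter G) : centralChar (χ : G → ℂ) 1 = 1 := by
  rw [centralChar_of_mem_center _ (one_mem _), div_self (apply_one_ne_zero χ)]

theorem centralChar_pow (χ : IrrCharacter G) {z : G} (hz : z ∈ Subgroup.center G) (n : ℕ) :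
    centralChar (χ : G → ℂ) (z ^ n) = centralChar (χ : G → ℂ) z ^ n := by
  induction n with
  | zero => rw [pow_zero, pow_zero, centralChar_one]
  | succ n ih => rw [pow_succ, pow_succ, centralChar_center_mul χ (pow_mem hz n) hz, ih]

theorem eq_of_pow_eq_one (hM : IsPModular p M) {a b : ℂ} {n : ℕ} (hn : ¬ p ∣ n) (ha : a ^ n = 1)
    (hb : b ^ n = 1) (hai : MemLocalRing M a) (hbi : MemLocalRing M b) (h : MemLocalIdeal M (a - b)) :
    a = b := by
  have hn0 : n ≠ 0 := fun e => hn (e ▸ dvd_zero p)
  set w := a * b ^ (n - 1) with hwdef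
  have hbb : b * b ^ (n - 1) = 1 := by rw [← pow_succ', Nat.sub_add_cancel (Nat.pos_of_ne_zero hn0), hb]
  have hw : MemLocalRing M w := (locRing hM).mul_mem hai ((locRing hM).pow_mem hbi _)
  have hw1 : MemLocalIdeal M (w - 1) := by
    rw [hwdef, ← hbb, ← sub_mul, mul_comm]
    exact memLocalIdeal_mul hM ((locRing hM).pow_mem hbi _) h
  have hwn : w ^ n = 1 := by
    rw [mul_pow, ha, one_mul, ← pow_mul, mul_comm (n - 1), pow_mul, hb, one_pow]
  have hw' : w = 1 := by
    by_contra hne
    refine hn ((memLocalIdeal_natCast_iff hM n).1 ?_)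
    have h1 : ∀ i : ℕ, MemLocalIdeal M (w ^ i - 1) := fun i => by
      rw [← geom_sum_mul]
      exact memLocalIdeal_mul hM ((locRing hM).sum_mem fun j _ => (locRing hM).pow_mem hw j) hw1
    have h2 := memLocalIdeal_neg (memLocalIdeal_sum hM (Finset.range n) _ fun i _ => h1 i)
    rw [Finset.sum_sub_distrib, geom_sum_eq hne, hwn, sub_self, zero_div, zero_sub, neg_neg,
      Finset.sum_const, Finset.card_range, nsmul_one] at h2
    exact h2
  calc a = a * (b * b ^ (n - 1)) := by rw [hbb, mul_one]
    _ = w * b := by rw [hwdef]; ring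
    _ = b := by rw [hw', one_mul]

theorem memLocalRing_centralChar' (hM : IsPModular p M) (χ : IrrCharacter G) (g : G) :
    MemLocalRing M (centralChar (χ : G → ℂ) g) := by
  cases nonempty_fintype G
  exact memLocalRing_centralChar hM χ.2 g

theorem centralChar_eq_of_mem (hM : IsPModular p M) (hZ : ¬ p ∣ Nat.card (Subgroup.center G))
    {B : Set (IrrCharacter G)} (hB : IsPBlock M B) {χ ψ : IrrCharacter G} (hχ : χ ∈ B) (hψ : ψ ∈ B)
    {z : G} (hz : z ∈ Subgroup.center G) :
    centralChar (χ : G → ℂ) z = centralChar (ψ : G → ℂ) z := by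
  have hn : ¬ p ∣ orderOf z := fun h => hZ (h.trans (Subgroup.orderOf_dvd_natCard _ hz))
  refine eq_of_pow_eq_one hM hn ?_ ?_ (memLocalRing_centralChar' hM χ z) (memLocalRing_centralChar' hM ψ z)
    (isPBlock_sameBlock hM hB hχ hψ z)
  · rw [← centralChar_pow χ hz, pow_orderOf_eq_one, centralChar_one]
  · rw [← centralChar_pow ψ hz, pow_orderOf_eq_one, centralChar_one]

theorem blockCoeff_center (hM : IsPModular p M) (hZ : ¬ p ∣ Nat.card (Subgroup.center G))
    {B : Set (IrrCharacter G)} (hB : IsPBlock M B) {χ : IrrCharacter G} (hχ : χ ∈ B)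
    {z : G} (hz : z ∈ Subgroup.center G) :
    blockCoeff B z = centralChar (χ : G → ℂ) z⁻¹ * blockCoeff B 1 := by
  classical
  rw [blockCoeff, blockCoeff, finsum_mem_eq_sum_ite, finsum_mem_eq_sum_ite, mul_left_comm,
    Finset.mul_sum _ _ (centralChar (χ : G → ℂ) z⁻¹)]
  congr 1
  refine Finset.sum_congr rfl fun ψ _ => ?_
  split_ifs with hψ
  · rw [conj_apply_eq_inv, conj_apply_eq_inv, inv_one, centralChar_eq_of_mem hM hZ hB hχ hψ (inv_mem hz)]
    have h1 := apply_mul_center ψ (inv_mem hz) 1
    rw [one_mul] at h1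
    rw [h1]
    ring
  · rw [mul_zero]

/-! ### Positive blocks -/

theorem memLocalRing_blockCoeff_block (hM : IsPModular p M) {B : Set (IrrCharacter G)} (hB : IsPBlock M B)
    (g : G) : MemLocalRing M (blockCoeff B g) :=
  BlockBasic.memLocalRing_blockCoeff hM hB g

theorem blockCoeff_one_unit (hH : CentralLocal p G) (hM : IsPModular p M)
    (hZ : ¬ p ∣ Nat.card (Subgroup.center G)) {B : Set (IrrCharacter G)} (hB : IsPBlock M B)
    (hd : blockDefect p B ≠ 0) : ¬ MemLocalIdeal M (blockCoeff B 1) := by
  obtain ⟨g, hg⟩ := exists_isDefectClass hM hB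
  obtain ⟨χ, hχ⟩ := isPBlock_nonempty hM hB
  intro h
  refine hg.2.1 ?_
  rw [blockCoeff_center hM hZ hB hχ (defectClass_mem_center hH hM hB hg hd)]
  exact memLocalIdeal_mul hM (memLocalRing_centralChar' hM χ _) h

/-- Two blocks of positive defect with the same character on the centre are equal. -/
theorem eq_of_centralChar_eq (hH : CentralLocal p G) (hM : IsPModular p M)
    (hZ : ¬ p ∣ Nat.card (Subgroup.center G)) {B B' : Set (IrrCharacter G)} (hB : IsPBlock M B)
    (hB' : IsPBlock M B') (hd : blockDefect p B ≠ 0) (hd' : blockDefect p B' ≠ 0)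
    {χ χ' : IrrCharacter G} (hχ : χ ∈ B) (hχ' : χ' ∈ B')
    (h : ∀ z ∈ Subgroup.center G, centralChar (χ : G → ℂ) z = centralChar (χ' : G → ℂ) z) : B = B' := by
  classical
  cases nonempty_fintype G
  by_contra hne
  obtain ⟨g, hg⟩ := exists_isDefectClass hM hB
  let P : Sylow p (Subgroup.centralizer ({g} : Set G)) := default
  set U := H35.sylImage P with hUdef
  have hUD : IsDefectGroup p M B U := ⟨g, hg, P, rfl⟩
  have hUne : U ≠ ⊥ := by
    intro hbot
    have h1 := H35.card_defectGroup hM hB hUD
    rw [hbot, Subgroup.card_bot] at h1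
    exact hd ((Nat.pow_eq_one.1 h1.symm).resolve_left (Fact.out : p.Prime).ne_one)
  set f : G → ℂ := fun x => blockCoeff B x * blockCoeff B' x⁻¹ with hf
  have h0 : ∑ x, f x = 0 := by
    have h1 := H35.coeff_mul_sum (blockElem B) (blockElem B') (1 : G)
    have hdisj : B ∩ B' = (∅ : Set (IrrCharacter G)) :=
      Set.eq_empty_iff_forall_notMem.2 fun ψ hψ => hne (isPBlock_eq_of_mem hM hB hB' hψ.1 hψ.2)
    rw [blockElem_mul, hdisj, coeff_blockElem] at h1
    simpa [coeff_blockElem, blockCoeff, hf] using h1.symm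
  haveI : Fintype (Subgroup.centralizer (U : Set G)) := Fintype.ofFinite _
  haveI : Fintype (Subgroup.center G) := Fintype.ofFinite _
  have hUp : IsPGroup p U := H35.sylImage_isPGroup P
  have h1 : MemLocalIdeal M (∑ x, f x - ∑ c : Subgroup.centralizer (U : Set G), f c) :=
    H82.memLocalIdeal_sum_sub_sum_centralizer hM hUp
      (fun x => memLocalRing_mul hM (memLocalRing_blockCoeff_block hM hB _) (memLocalRing_blockCoeff_block hM hB' _))
      (fun q _ x => by
        simp only [hf, mul_inv_rev, inv_inv, ← mul_assoc]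
        rw [isClassFunction_blockCoeff B x q, isClassFunction_blockCoeff B' x⁻¹ q])
  have h2 : ∑ c : Subgroup.centralizer (U : Set G), f c = ∑ z : Subgroup.center G, f z := by
    rw [← Finset.sum_subtype (Finset.univ.filter fun x => x ∈ Subgroup.centralizer (U : Set G)) (by simp) f,
      ← Finset.sum_subtype (Finset.univ.filter fun x => x ∈ Subgroup.center G) (by simp) f]
    refine (Finset.sum_subset (fun x hx => ?_) fun x hx hxz => ?_).symm
    · simp only [Finset.mem_filter, Finset.mem_univ, true_and] at hx ⊢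
      exact Subgroup.center_le_centralizer _ hx
    · simp only [Finset.mem_filter, Finset.mem_univ, true_and] at hx hxz
      have hs : p ∣ orderOf x := by
        by_contra hreg
        exact hxz (hH U hUne hUp (S0955.result p M hM B hB U hUD) x hreg hx)
      simp only [hf]
      rw [blockCoeff_eq_zero_of_singular hM hB hs, zero_mul]
  have h3 : ∀ z : Subgroup.center G, f z = blockCoeff B 1 * blockCoeff B' 1 := fun z => by
    simp only [hf]
    rw [blockCoeff_center hM hZ hB hχ z.2, blockCoeff_center hM hZ hB' hχ' (inv_mem z.2), inv_inv,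
      ← h z z.2]
    have h4 : centralChar (χ : G → ℂ) (z : G)⁻¹ * centralChar (χ : G → ℂ) z = 1 := by
      rw [← centralChar_center_mul χ (inv_mem z.2) z.2, inv_mul_cancel, centralChar_one]
    linear_combination (blockCoeff B 1 * blockCoeff B' 1) * h4
  rw [h0, h2, Finset.sum_congr rfl fun z _ => h3 z, Finset.sum_const, Finset.card_univ, nsmul_eq_mul,
    zero_sub, ← Nat.card_eq_fintype_card] at h1
  have h5 := memLocalIdeal_neg h1
  rw [neg_neg, memLocalIdeal_mul_iff hM (memLocalRing_natCast hM _)
    (memLocalRing_mul hM (memLocalRing_blockCoeff_block hM hB _) (memLocalRing_blockCoeff_block hM hB' _)),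
    memLocalIdeal_natCast_iff hM, memLocalIdeal_mul_iff hM (memLocalRing_blockCoeff_block hM hB _)
    (memLocalRing_blockCoeff_block hM hB' _)] at h5
  rcases h5 with h5 | h5 | h5
  · exact hZ h5
  · exact blockCoeff_one_unit hH hM hZ hB hd h5
  · exact blockCoeff_one_unit hH hM hZ hB' hd' h5

/-- Blocks of defect zero vanish on the centre modulo `M`. -/
theorem blockCoeff_center_mem (hM : IsPModular p M) (hpG : p ∣ Nat.card G) {B : Set (IrrCharacter G)}
    (hB : IsPBlock M B) (hd : blockDefect p B = 0) {z : G} (hz : z ∈ Subgroup.center G) :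
    MemLocalIdeal M (blockCoeff B z) := by
  obtain ⟨χ, rfl, hq⟩ := (blockDefect_eq_zero_iff hM hB).1 hd
  obtain ⟨q, hq'⟩ := charDegree_dvd χ
  have hqd : Nat.card G / charDegree (χ : G → ℂ) = q := by
    rw [hq', Nat.mul_div_cancel_left _ (charDegree_pos χ)]
  rw [hqd] at hq
  have hpd : p ∣ charDegree (χ : G → ℂ) :=
    ((Fact.out : p.Prime).dvd_mul.1 (hq' ▸ hpG)).resolve_right hq
  have hd0 : (charDegree (χ : G → ℂ) : ℂ) ≠ 0 := Nat.cast_ne_zero.2 (charDegree_pos χ).ne'
  have hval : (χ : G → ℂ) z⁻¹ = centralChar (χ : G → ℂ) z⁻¹ * (charDegree (χ : G → ℂ) : ℂ) := by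
    rw [centralChar_of_mem_center _ (inv_mem hz), ← apply_one_eq_charDegree,
      div_mul_cancel₀ _ (apply_one_ne_zero χ)]
  rw [blockCoeff, finsum_mem_singleton, conj_apply_eq_inv, hval, apply_one_eq_charDegree, hq', Nat.cast_mul,
    show ((charDegree (χ : G → ℂ) : ℂ) * (q : ℂ))⁻¹ * ((charDegree (χ : G → ℂ) : ℂ) *
        (centralChar (χ : G → ℂ) z⁻¹ * (charDegree (χ : G → ℂ) : ℂ))) =
      ((q : ℂ)⁻¹ * centralChar (χ : G → ℂ) z⁻¹) * (charDegree (χ : G → ℂ) : ℂ) by field_simp]
  exact memLocalIdeal_mul hM (memLocalRing_mul hM (memLocalRing_natCast_inv hM hq)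
    (memLocalRing_centralChar' hM χ _)) ((memLocalIdeal_natCast_iff hM _).2 hpd)

theorem sum_blockCoeff_blocks (hM : IsPModular p M) [Fintype {B : Set (IrrCharacter G) // IsPBlock M B}]
    [DecidableEq G] (g : G) :
    ∑ B : {B : Set (IrrCharacter G) // IsPBlock M B}, blockCoeff B.1 g = if g = 1 then 1 else 0 := by
  classical
  cases nonempty_fintype G
  have h : blockCoeff (Set.univ : Set (IrrCharacter G)) g = if g = 1 then 1 else 0 := by
    rw [← coeff_blockElem, blockElem_univ, MonoidAlgebra.one_def, MonoidAlgebra.coeff_single,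
      Finsupp.single_apply]
    exact if_congr eq_comm rfl rfl
  rw [← h]
  simp only [blockCoeff, finsum_mem_eq_sum_ite, ← Finset.mul_sum]
  simp only [Set.mem_univ, if_true]
  rw [Finset.sum_comm]
  congr 1
  refine Finset.sum_congr rfl fun χ _ => ?_
  rw [Finset.sum_eq_single (⟨blockOf M (χ : G → ℂ), isPBlock_blockOf M χ⟩ : {B : Set (IrrCharacter G) // IsPBlock M B})]
  · rw [if_pos (self_mem_blockOf hM χ)]
  · intro B _ hne
    rw [if_neg fun hχ => hne (Subtype.ext (isPBlock_eq_blockOf hM B.2 hχ))]
  · simp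

/-- The positive blocks are as many as the elements of the centre. -/
theorem card_positive (hH : CentralLocal p G) (hM : IsPModular p M)
    (hZ : ¬ p ∣ Nat.card (Subgroup.center G)) (hpG : p ∣ Nat.card G) :
    Nat.card {B : Set (IrrCharacter G) // IsPBlock M B ∧ blockDefect p B ≠ 0} =
      Nat.card (Subgroup.center G) := by
  classical
  cases nonempty_fintype G
  haveI := locMax_isMaximal hM
  letI : Field (Residue hM) := Ideal.Quotient.field _
  haveI : Fintype {B : Set (IrrCharacter G) // IsPBlock M B} := Fintype.ofFinite _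
  haveI : Fintype {B : Set (IrrCharacter G) // IsPBlock M B ∧ blockDefect p B ≠ 0} := Fintype.ofFinite _
  haveI : Fintype (Subgroup.center G) := Fintype.ofFinite _
  set P := {B : Set (IrrCharacter G) // IsPBlock M B ∧ blockDefect p B ≠ 0}
  choose c hc using fun B : P => isPBlock_nonempty hM B.2.1
  have hloc : ∀ (B : P) (z : G), MemLocalRing M (centralChar (c B : G → ℂ) z) :=
    fun B z => memLocalRing_centralChar' hM _ _
  let ψ : P → (Subgroup.center G →* Residue hM) := fun B =>
    { toFun := fun z => res hM (centralChar (c B : G → ℂ) ((z⁻¹ : Subgroup.center G) : G))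
      map_one' := by rw [inv_one, OneMemClass.coe_one, centralChar_one, res_one]
      map_mul' := fun z w => by
        rw [_root_.mul_inv_rev, Subgroup.coe_mul,
          centralChar_center_mul _ (w⁻¹).2 (z⁻¹).2, res_mul hM (hloc B _) (hloc B _), mul_comm] }
  have hinj : Function.Injective ψ := by
    intro B B' h
    refine Subtype.ext (eq_of_centralChar_eq hH hM hZ B.2.1 B'.2.1 B.2.2 B'.2.2 (hc B) (hc B') fun z hz => ?_)
    have hn : ¬ p ∣ orderOf z := fun h => hZ (h.trans (Subgroup.orderOf_dvd_natCard _ hz))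
    have h1 : res hM (centralChar (c B : G → ℂ) z) = res hM (centralChar (c B' : G → ℂ) z) := by
      simpa [ψ] using DFunLike.congr_fun h (⟨z, hz⟩⁻¹ : Subgroup.center G)
    refine eq_of_pow_eq_one hM hn ?_ ?_ (hloc B z) (hloc B' z) ?_
    · rw [← centralChar_pow _ hz, pow_orderOf_eq_one, centralChar_one]
    · rw [← centralChar_pow _ hz, pow_orderOf_eq_one, centralChar_one]
    · have hl : MemLocalRing M (centralChar (c B : G → ℂ) z - centralChar (c B' : G → ℂ) z) :=
        (locRing hM).sub_mem (hloc B z) (hloc B' z)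
      rw [← res_eq_zero_iff hM hl]
      have h2 := res_add hM hl (hloc B' z)
      rw [sub_add_cancel, h1] at h2
      simpa using h2
  let L : (P → Residue hM) →ₗ[Residue hM] (Subgroup.center G → Residue hM) :=
    Fintype.linearCombination (Residue hM) fun B z => ψ B z
  have hLinj : Function.Injective L :=
    ((linearIndependent_monoidHom (Subgroup.center G) (Residue hM)).comp ψ hinj).fintypeLinearCombination_injective
  have hδ : ∀ z : Subgroup.center G,
      ∑ B : P, res hM (blockCoeff B.1 1) * ψ B z = if z = 1 then 1 else 0 := by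
    intro z
    have h1 := congrArg (res hM) (sum_blockCoeff_blocks (M := M) hM (z : G))
    rw [res_sum hM _ fun B _ => memLocalRing_blockCoeff_block hM B.2 _] at h1
    have h2 : ∑ B : {B : Set (IrrCharacter G) // IsPBlock M B}, res hM (blockCoeff B.1 z) =
        ∑ B : P, res hM (blockCoeff B.1 z) := by
      refine (Fintype.sum_of_injective (fun B : P => (⟨B.1, B.2.1⟩ : {B // IsPBlock M B}))
        (fun a b h => Subtype.ext (congrArg (fun x => x.1) h)) _ _ (fun B hB => ?_) fun B => rfl).symm
      rw [res_eq_zero_iff hM (memLocalRing_blockCoeff_block hM B.2 _)]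
      refine blockCoeff_center_mem hM hpG B.2 ?_ z.2
      by_contra hd
      exact hB ⟨⟨B.1, B.2, hd⟩, rfl⟩
    rw [h2] at h1
    refine Eq.trans (Finset.sum_congr rfl fun B _ => ?_) (h1.trans ?_)
    · rw [blockCoeff_center hM hZ B.2.1 (hc B) z.2, res_mul hM (hloc B _) (memLocalRing_blockCoeff_block hM B.2.1 _),
        mul_comm]
      rfl
    · split_ifs with ha hb hb
      · exact res_one hM
      · exact absurd (Subtype.ext ha) hb
      · exact absurd (congrArg Subtype.val hb) ha
      · exact res_zero hM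
  have hLsurj : Function.Surjective L := by
    intro v
    refine ⟨fun B => ∑ w, v w * (res hM (blockCoeff B.1 1) * ψ B w⁻¹), funext fun z => ?_⟩
    simp only [L, Fintype.linearCombination_apply, Finset.sum_apply, Pi.smul_apply, smul_eq_mul,
      Finset.sum_mul]
    rw [Finset.sum_comm, Finset.sum_eq_single z]
    · simp only [mul_assoc, ← map_mul, inv_mul_cancel, map_one, mul_one, ← Finset.mul_sum]
      have h := hδ 1
      simp only [map_one, mul_one, if_true] at h
      rw [h, mul_one]
    · intro w _ hw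
      simp only [mul_assoc, ← map_mul, ← Finset.mul_sum, hδ]
      rw [if_neg (fun h => hw (inv_mul_eq_one.1 h)), mul_zero]
    · simp
  have h := (LinearEquiv.ofBijective L ⟨hLinj, hLsurj⟩).finrank_eq
  rw [Module.finrank_pi, Module.finrank_pi] at h
  rwa [Nat.card_eq_fintype_card, Nat.card_eq_fintype_card]

/-- The number of all blocks. -/
theorem card_blocks (hH : CentralLocal p G) (hM : IsPModular p M)
    (hZ : ¬ p ∣ Nat.card (Subgroup.center G)) (hpG : p ∣ Nat.card G) :
    Nat.card {B : Set (IrrCharacter G) // IsPBlock M B} =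
      Nat.card (Subgroup.center G) +
        Nat.card {B : Set (IrrCharacter G) // IsPBlock M B ∧ blockDefect p B = 0} := by
  classical
  rw [← card_positive hH hM hZ hpG, ← Nat.card_sum]
  refine Nat.card_congr ?_
  refine (Equiv.sumCompl fun B : {B : Set (IrrCharacter G) // IsPBlock M B} =>
    blockDefect p B.1 ≠ 0).symm.trans (Equiv.sumCongr (Equiv.subtypeSubtypeEquivSubtypeInter _
      fun B => blockDefect p B ≠ 0) ?_)
  exact ((Equiv.subtypeSubtypeEquivSubtypeInter (fun B : Set (IrrCharacter G) => IsPBlock M B)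
    fun B => ¬ blockDefect p B ≠ 0)).trans (Equiv.subtypeEquivRight fun B => by rw [not_not])

/-! ### Reductions of defect zero idempotents -/

variable [Fintype G]

theorem dz_conj (hM : IsPModular p M) (B : Set (IrrCharacter G)) (g h : G) :
    res hM (blockCoeff B (h * g * h⁻¹)) = res hM (blockCoeff B g) := by
  rw [isClassFunction_blockCoeff B g h]

theorem dz_conv (hM : IsPModular p M) {B B' : Set (IrrCharacter G)} (hB : IsPBlock M B) (hB' : IsPBlock M B')
    (y : G) :
    ∑ x, res hM (blockCoeff B x) * res hM (blockCoeff B' (x⁻¹ * y)) = res hM (blockCoeff (B ∩ B') y) := by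
  have h1 := H35.coeff_mul_sum (blockElem B) (blockElem B') y
  rw [blockElem_mul, coeff_blockElem] at h1
  rw [h1, res_sum hM _ fun x _ => by
    rw [coeff_blockElem, coeff_blockElem]
    exact memLocalRing_mul hM (memLocalRing_blockCoeff_block hM hB _) (memLocalRing_blockCoeff_block hM hB' _)]
  refine Finset.sum_congr rfl fun x _ => ?_
  rw [coeff_blockElem, coeff_blockElem,
    res_mul hM (memLocalRing_blockCoeff_block hM hB _) (memLocalRing_blockCoeff_block hM hB' _)]

theorem dz_ne (hM : IsPModular p M) {B : Set (IrrCharacter G)} (hB : IsPBlock M B) :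
    ∃ g, res hM (blockCoeff B g) ≠ 0 := by
  obtain ⟨g, hg⟩ := exists_isDefectClass hM hB
  exact ⟨g, fun h => hg.2.1 ((res_eq_zero_iff hM hg.1).1 h)⟩

theorem dz_van (hM : IsPModular p M) {χ : IrrCharacter G}
    (hq : ¬ p ∣ Nat.card G / charDegree (χ : G → ℂ)) {g : G}
    (hg : p ∣ Nat.card (Subgroup.centralizer ({g} : Set G))) :
    res hM (blockCoeff ({χ} : Set (IrrCharacter G)) g) = 0 := by
  obtain ⟨q, hq'⟩ := charDegree_dvd χ
  have hqd : Nat.card G / charDegree (χ : G → ℂ) = q := by
    rw [hq', Nat.mul_div_cancel_left _ (charDegree_pos χ)]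
  rw [hqd] at hq
  have hd0 : (charDegree (χ : G → ℂ) : ℂ) ≠ 0 := Nat.cast_ne_zero.2 (charDegree_pos χ).ne'
  rw [res_eq_zero_iff hM (memLocalRing_blockCoeff_block hM (singleton_of_degree hM (hqd.symm ▸ hq)).1 g),
    blockCoeff, finsum_mem_singleton, conj_apply_eq_inv, apply_one_eq_charDegree, hq', Nat.cast_mul,
    mul_inv_rev, mul_assoc, inv_mul_cancel_left₀ hd0]
  refine memLocalIdeal_mul hM (memLocalRing_natCast_inv hM hq) ?_
  by_contra hu
  have h1 := H35.degree_le_index hM χ hu
  have hcard : Subgroup.centralizer ({g⁻¹} : Set G) = Subgroup.centralizer ({g} : Set G) := by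
    ext x
    simp only [Subgroup.mem_centralizer_singleton_iff]
    exact ⟨fun h => (Commute.inv_right_iff.mp (show Commute x g⁻¹ from h)).eq,
      fun h => (show Commute x g from h).inv_right.eq⟩
  rw [hcard] at h1
  have h2 := H35.factorization_index_add (p := p) g
  have hC := (Fact.out : p.Prime).factorization_pos_of_dvd Nat.card_pos.ne' hg
  have h4 : (Nat.card G).factorization p = (charDegree (χ : G → ℂ)).factorization p := by
    rw [hq', Nat.factorization_mul (charDegree_pos χ).ne' (fun h => hq (by rw [h]; exact dvd_zero p)), Finsupp.add_apply,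
      Nat.factorization_eq_zero_of_not_dvd hq, add_zero]
  omega

end Cfsg.Agent.H54.CB
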