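import Mathlib
import Cfsg.Prelude.Def_Characters
import Cfsg.Prelude.Def_ParabolicCharacters
import Cfsg.Agent.CharInduce.Function
import Cfsg.Agent.Linear.TwoSL

/-!
The upper triangular subgroup of `SL_2`: classes, principal series characters.
-/

set_option autoImplicit false

namespace Cfsg.Agent.H54.Borel

open Matrix Finset
open scoped ComplexConjugate

universe u

variable {F : Type u} [Field F]

local notation "S2" => Matrix.SpecialLinearGroup (Fin 2) F
local notation "M2" => Matrix (Fin 2) (Fin 2) F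

/-- The upper triangular subgroup of `SL_2`. -/
abbrev borel (F : Type u) [Field F] : Subgroup (Matrix.SpecialLinearGroup (Fin 2) F) :=
  (Cfsg.upperTriangularGL 2 F).comap Matrix.SpecialLinearGroup.toGL

lemma mem_borel {g : S2} : g ∈ borel F ↔ (g : M2) 1 0 = 0 := by
  show (g : M2).BlockTriangular id ↔ _
  constructor
  · exact fun h => h (by decide)
  · intro h i j hij
    fin_cases i <;> fin_cases j <;> simp_all

lemma borel_apply (b : borel F) : ((b : S2) : M2) 1 0 = 0 := mem_borel.1 b.2

lemma borel_det (b : borel F) : ((b : S2) : M2) 0 0 * ((b : S2) : M2) 1 1 = 1 := by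
  have h := Cfsg.Agent.Linear.SL_det_two (b : S2)
  rw [borel_apply, mul_zero, sub_zero] at h
  exact h

lemma borel_ne_zero (b : borel F) : ((b : S2) : M2) 0 0 ≠ 0 := fun h => by
  simpa [h] using borel_det b

lemma borel_11 (b : borel F) : ((b : S2) : M2) 1 1 = (((b : S2) : M2) 0 0)⁻¹ :=
  eq_inv_of_mul_eq_one_right (borel_det b)

/-- The element `(a, b)` of the Borel subgroup. -/
noncomputable def mkB (a : Fˣ) (b : F) : borel F :=
  ⟨⟨!![(a : F), b; 0, (a : F)⁻¹], by simp [Matrix.det_fin_two_of]⟩, mem_borel.2 (by simp)⟩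

@[simp] lemma mkB_00 (a : Fˣ) (b : F) : ((mkB a b : S2) : M2) 0 0 = a := rfl
@[simp] lemma mkB_01 (a : Fˣ) (b : F) : ((mkB a b : S2) : M2) 0 1 = b := rfl
@[simp] lemma mkB_11 (a : Fˣ) (b : F) : ((mkB a b : S2) : M2) 1 1 = (a : F)⁻¹ := rfl

lemma borel_ext {x y : borel F} (h0 : ((x : S2) : M2) 0 0 = ((y : S2) : M2) 0 0)
    (h1 : ((x : S2) : M2) 0 1 = ((y : S2) : M2) 0 1) : x = y := by
  apply Subtype.ext
  refine Cfsg.Agent.Linear.SL_ext_two h0 h1 (by rw [borel_apply, borel_apply]) ?_
  rw [borel_11, borel_11, h0]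

/-- Coordinates on the Borel subgroup. -/
noncomputable def coord : Fˣ × F ≃ borel F :=
  Equiv.ofBijective (fun p => mkB p.1 p.2) ⟨fun p q h => by
      have h0 := congrArg (fun b : borel F => ((b : S2) : M2) 0 0) h
      have h1 := congrArg (fun b : borel F => ((b : S2) : M2) 0 1) h
      exact Prod.ext (Units.ext (by simpa using h0)) (by simpa using h1),
    fun b => ⟨(Units.mk0 _ (borel_ne_zero b), ((b : S2) : M2) 0 1), borel_ext rfl rfl⟩⟩

lemma borel_mul_00 (x y : borel F) :
    (((x * y : borel F) : S2) : M2) 0 0 = ((x : S2) : M2) 0 0 * ((y : S2) : M2) 0 0 := by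
  rw [Subgroup.coe_mul, Cfsg.Agent.Linear.SL_mul_entries, borel_apply y, mul_zero, add_zero]

lemma borel_mul_01 (x y : borel F) :
    (((x * y : borel F) : S2) : M2) 0 1 =
      ((x : S2) : M2) 0 0 * ((y : S2) : M2) 0 1 + ((x : S2) : M2) 0 1 * (((y : S2) : M2) 0 0)⁻¹ := by
  rw [Subgroup.coe_mul, Cfsg.Agent.Linear.SL_mul_entries, borel_11 y]

/-! ### Conjugacy classes -/

lemma conj_relation {x y : borel F} (h : IsConj x y) :
    ((x : S2) : M2) 0 0 = ((y : S2) : M2) 0 0 ∧ (((x : S2) : M2) 0 0 ^ 2 = 1 →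
      ∃ α : F, α ≠ 0 ∧ ((y : S2) : M2) 0 1 = α ^ 2 * ((x : S2) : M2) 0 1) := by
  obtain ⟨c, hc⟩ := isConj_iff.1 h
  have e : c * x = y * c := by rw [← hc, inv_mul_cancel_right]
  have h0 := congrArg (fun b : borel F => ((b : S2) : M2) 0 0) e
  have h1 := congrArg (fun b : borel F => ((b : S2) : M2) 0 1) e
  simp only [borel_mul_00, borel_mul_01] at h0 h1
  have hxy : ((x : S2) : M2) 0 0 = ((y : S2) : M2) 0 0 :=
    mul_left_cancel₀ (borel_ne_zero c) (h0.trans (mul_comm _ _))
  refine ⟨hxy, fun hsq => ⟨_, borel_ne_zero c, ?_⟩⟩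
  have hinv : (((x : S2) : M2) 0 0)⁻¹ = ((x : S2) : M2) 0 0 := inv_eq_of_mul_eq_one_right (by rw [← sq, hsq])
  rw [hinv, ← hxy] at h1
  have hc0 := borel_ne_zero c
  field_simp at h1
  linear_combination -h1

lemma isConj_of_sq_ne_one {x y : borel F} (h : ((x : S2) : M2) 0 0 = ((y : S2) : M2) 0 0)
    (hsq : ((x : S2) : M2) 0 0 ^ 2 ≠ 1) : IsConj x y := by
  have ha := borel_ne_zero x
  set a := ((x : S2) : M2) 0 0 with hadef
  have hd : a⁻¹ - a ≠ 0 := by
    rw [sub_ne_zero]; intro e; apply hsq; rw [sq]; nth_rw 1 [← e]; exact inv_mul_cancel₀ ha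
  refine isConj_iff.2 ⟨mkB 1 ((((y : S2) : M2) 0 1 - ((x : S2) : M2) 0 1) / (a⁻¹ - a)), ?_⟩
  rw [mul_inv_eq_iff_eq_mul]
  refine borel_ext ?_ ?_
  · rw [borel_mul_00, borel_mul_00, ← hadef, ← h]; simp
  · rw [borel_mul_01, borel_mul_01, ← hadef, ← h, mkB_00, mkB_01]
    simp only [Units.val_one, one_mul, inv_one, mul_one]
    field_simp
    ring

lemma isConj_of_sq_eq_one {x y : borel F} (h : ((x : S2) : M2) 0 0 = ((y : S2) : M2) 0 0)
    (hsq : ((x : S2) : M2) 0 0 ^ 2 = 1) (α : Fˣ) (hα : ((y : S2) : M2) 0 1 = α ^ 2 * ((x : S2) : M2) 0 1) :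
    IsConj x y := by
  set a := ((x : S2) : M2) 0 0 with hadef
  refine isConj_iff.2 ⟨mkB α 0, ?_⟩
  rw [mul_inv_eq_iff_eq_mul]
  refine borel_ext ?_ ?_
  · rw [borel_mul_00, borel_mul_00, ← hadef, ← h, mkB_00, mul_comm]
  · rw [borel_mul_01, borel_mul_01, mkB_00, mkB_01, hα]
    field_simp
    ring

theorem card_conjClasses [Fintype F] (hodd : Odd (Fintype.card F)) :
    Nat.card (ConjClasses (borel F)) = Fintype.card F + 3 := by
  classical
  have h2 := Cfsg.Agent.Linear.two_ne_zero_of_odd_card hodd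
  obtain ⟨ε, hε⟩ := FiniteField.exists_nonsquare (F := F) (fun h => h2 (by
    have := ringChar.charP F
    rw [h] at this
    exact CharTwo.two_eq_zero))
  have hε0 : ε ≠ 0 := fun h => hε (h ▸ IsSquare.zero)
  let r : Fin 3 → F := ![0, 1, ε]
  let f : {a : Fˣ // ¬ a ^ 2 = 1} ⊕ ({a : Fˣ // a ^ 2 = 1} × Fin 3) → ConjClasses (borel F) :=
    Sum.elim (fun a => ConjClasses.mk (mkB a.1 0)) (fun p => ConjClasses.mk (mkB p.1.1 (r p.2)))
  have hf : Function.Bijective f := by
    constructor
    · rintro (a | ⟨a, i⟩) (b | ⟨b, j⟩) h <;>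
        simp only [f, Sum.elim_inl, Sum.elim_inr, ConjClasses.mk_eq_mk_iff_isConj] at h <;>
        obtain ⟨h0, h1⟩ := conj_relation h <;> simp only [mkB_00, mkB_01] at h0 h1
      · exact congrArg Sum.inl (Subtype.ext (Units.ext h0))
      · exact absurd (show a.1 ^ 2 = 1 by rw [show a.1 = b.1 from Units.ext h0]; exact b.2) a.2
      · exact absurd (show b.1 ^ 2 = 1 by rw [← show a.1 = b.1 from Units.ext h0]; exact a.2) b.2
      · have hab : a = b := Subtype.ext (Units.ext h0)
        subst hab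
        obtain ⟨α, hα, hr⟩ := h1 (by rw [← Units.val_pow_eq_pow_val, a.2, Units.val_one])
        have hij : i = j := by
          fin_cases i <;> fin_cases j <;> simp [r] at hr ⊢ <;>
            first
              | exact absurd hr (pow_ne_zero 2 hα).symm
              | exact absurd hr hε0
              | exact absurd hr (mul_ne_zero (pow_ne_zero 2 hα) hε0).symm
              | exact absurd ⟨α, by rw [hr, sq]⟩ hε
              | exact absurd ⟨α⁻¹, by field_simp; linear_combination -hr⟩ hε
              | exact hε0 hr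
              | simp_all
        rw [hij]
    · intro c
      obtain ⟨x, rfl⟩ := ConjClasses.exists_rep c
      set a : Fˣ := Units.mk0 _ (borel_ne_zero x) with ha
      by_cases hsq : a ^ 2 = 1
      · have hsq' : ((x : S2) : M2) 0 0 ^ 2 = 1 := by simpa [ha, Units.ext_iff] using hsq
        set b := ((x : S2) : M2) 0 1 with hb
        obtain ⟨i, α, hi⟩ : ∃ (i : Fin 3) (α : Fˣ), b = α ^ 2 * r i := by
          rcases eq_or_ne b 0 with h | h
          · exact ⟨0, 1, by simp [r, h]⟩
          by_cases hs : IsSquare b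
          · obtain ⟨c, hc⟩ := hs
            have hc0 : c ≠ 0 := fun e => h (by rw [hc, e, mul_zero])
            exact ⟨1, Units.mk0 c hc0, by simp [r, hc, sq]⟩
          · obtain ⟨c, hc⟩ : IsSquare (b * ε) := by
              rw [← quadraticChar_one_iff_isSquare (mul_ne_zero h hε0), map_mul,
                quadraticChar_neg_one_iff_not_isSquare.mpr hs, quadraticChar_neg_one_iff_not_isSquare.mpr hε]
              norm_num
            have hc0 : c ≠ 0 := fun e => mul_ne_zero h hε0 (by rw [hc, e, mul_zero])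
            refine ⟨2, Units.mk0 (c / ε) (div_ne_zero hc0 hε0), ?_⟩
            simp [r]
            field_simp
            linear_combination hc
        refine ⟨Sum.inr (⟨a, hsq⟩, i), ?_⟩
        simp only [f, Sum.elim_inr]
        exact ConjClasses.mk_eq_mk_iff_isConj.2 (isConj_of_sq_eq_one rfl hsq' α hi)
      · refine ⟨Sum.inl ⟨a, hsq⟩, ?_⟩
        simp only [f, Sum.elim_inl]
        refine ConjClasses.mk_eq_mk_iff_isConj.2 (isConj_of_sq_ne_one rfl fun e => hsq (Units.ext ?_))
        simpa using e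
  rw [← Nat.card_congr (Equiv.ofBijective f hf), Nat.card_sum, Nat.card_prod, Nat.card_fin]
  have htwo : Nat.card {a : Fˣ // a ^ 2 = 1} = 2 := by
    rw [Nat.card_eq_two_iff]
    refine ⟨⟨1, one_pow 2⟩, ⟨-1, by simp⟩, ?_, ?_⟩
    · intro e
      have := congrArg (fun a : {a : Fˣ // a ^ 2 = 1} => (a.1 : F)) e
      simp at this
      exact h2 (by linear_combination this)
    · refine Set.eq_univ_of_forall fun ⟨a, ha⟩ => ?_
      rcases sq_eq_one_iff.1 (show (a : F) ^ 2 = 1 by rw [← Units.val_pow_eq_pow_val, ha, Units.val_one]) with e | e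
      · left; exact Subtype.ext (Units.ext e)
      · right; exact Subtype.ext (Units.ext (by simpa using e))
  have hsum : Nat.card {a : Fˣ // a ^ 2 = 1} + Nat.card {a : Fˣ // ¬ a ^ 2 = 1} = Fintype.card F - 1 := by
    rw [← Nat.card_sum, Nat.card_congr (Equiv.sumCompl _), Nat.card_eq_fintype_card, Fintype.card_units]
  rw [htwo] at hsum ⊢
  have := Fintype.one_lt_card (α := F)
  omega

/-! ### Induced characters -/

/-- The representatives of the cosets of the Borel subgroup. -/
def rep : Option F → S2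
  | none => 1
  | some t => ⟨!![t, -1; 1, 0], by simp [Matrix.det_fin_two_of]⟩

lemma rep_conj (g : S2) (t : F) :
    (((rep (some t))⁻¹ * g * rep (some t) : S2) : M2) 1 0 =
        (g : M2) 1 0 * t ^ 2 + ((g : M2) 1 1 - (g : M2) 0 0) * t - (g : M2) 0 1 ∧
      (((rep (some t))⁻¹ * g * rep (some t) : S2) : M2) 0 0 = (g : M2) 1 0 * t + (g : M2) 1 1 := by
  obtain ⟨i00, i01, i10, i11⟩ := Cfsg.Agent.Linear.SL_inv_entries (rep (some t))
  simp only [Cfsg.Agent.Linear.SL_mul_entries, i00, i01, i10, i11]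
  simp [rep]
  ring

/-- `G` is the disjoint union of the cosets. -/
noncomputable def decomp : Option F × borel F ≃ S2 :=
  Equiv.ofBijective (fun p => rep p.1 * (p.2 : S2)) ⟨by
    rintro ⟨s, b⟩ ⟨t, c⟩ h
    have e0 := congrArg (fun x : S2 => (x : M2) 0 0) h
    have e1 := congrArg (fun x : S2 => (x : M2) 1 0) h
    simp only [Cfsg.Agent.Linear.SL_mul_entries, borel_apply] at e0 e1
    have hst : s = t := by
      rcases s with _ | s <;> rcases t with _ | t <;> simp [rep] at e0 e1
      · rfl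
      · exact absurd e1.symm (borel_ne_zero c)
      · exact absurd e1 (borel_ne_zero b)
      · rw [e1] at e0
        rw [mul_right_cancel₀ (borel_ne_zero c) e0]
    subst hst
    exact Prod.ext rfl (Subtype.ext (mul_left_cancel h)), by
    intro x
    by_cases hx : (x : M2) 1 0 = 0
    · exact ⟨(none, ⟨x, mem_borel.2 hx⟩), by simp [rep]⟩
    · refine ⟨(some ((x : M2) 0 0 / (x : M2) 1 0), ⟨(rep (some ((x : M2) 0 0 / (x : M2) 1 0)))⁻¹ * x, ?_⟩), ?_⟩
      · rw [mem_borel]
        obtain ⟨i00, i01, i10, i11⟩ := Cfsg.Agent.Linear.SL_inv_entries (rep (some ((x : M2) 0 0 / (x : M2) 1 0)))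
        simp only [Cfsg.Agent.Linear.SL_mul_entries, i00, i01, i10, i11]
        simp [rep]
        field_simp
        ring
      · exact mul_inv_cancel_left _ _⟩

variable [Fintype F] [DecidableEq F]

/-- The linear character of the Borel subgroup. -/
noncomputable def lin (α : MulChar F ℂ) : borel F → ℂ := fun b => α (((b : S2) : M2) 0 0)

lemma lin_isClassFunction (α : MulChar F ℂ) : IsClassFunction (borel F) (lin α) := by
  intro x y
  unfold lin
  congr 1
  exact ((conj_relation (isConj_iff.2 ⟨y, rfl⟩ : IsConj x (y * x * y⁻¹))).1).symm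

open scoped Classical in
/-- The value of an induced character. -/
theorem indFun_lin (α : MulChar F ℂ) (g : S2) :
    Cfsg.indFun (borel F) (lin α) g = (if (g : M2) 1 0 = 0 then α ((g : M2) 0 0) else 0) +
      ∑ t : F, if (g : M2) 1 0 * t ^ 2 + ((g : M2) 1 1 - (g : M2) 0 0) * t - (g : M2) 0 1 = 0
        then α ((g : M2) 1 0 * t + (g : M2) 1 1) else 0 := by
  haveI : Fintype (borel F) := Fintype.ofFinite _
  have hval : ∀ x : S2, extendByZero (borel F) (lin α) x = if (x : M2) 1 0 = 0 then α ((x : M2) 0 0) else 0 := by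
    intro x
    split_ifs with h
    · rw [CharInduce.extendByZero_of_mem _ (mem_borel.2 h)]; rfl
    · rw [CharInduce.extendByZero_of_not_mem _ (fun e => h (mem_borel.1 e))]
  rw [CharInduce.indFun_apply, ← decomp.sum_comp, Fintype.sum_prod_type]
  have hs : ∀ (s : Option F) (b : borel F), extendByZero (borel F) (lin α) ((decomp (s, b))⁻¹ * g * decomp (s, b)) =
      extendByZero (borel F) (lin α) ((rep s)⁻¹ * g * rep s) := by
    intro s b
    have e : (decomp (s, b))⁻¹ * g * decomp (s, b) =
        ((b : S2))⁻¹ * ((rep s)⁻¹ * g * rep s) * ((b : S2)⁻¹)⁻¹ := by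
      show (rep s * (b : S2))⁻¹ * g * (rep s * (b : S2)) = _
      group
    rw [e, CharInduce.extendByZero_conj (lin_isClassFunction α) (Subgroup.inv_mem _ b.2)]
  simp only [hs, Finset.sum_const, Finset.card_univ, nsmul_eq_mul, ← Nat.card_eq_fintype_card, ← Finset.mul_sum]
  rw [← mul_assoc, inv_mul_cancel₀ (CharInduce.card_ne_zero_complex _), one_mul, Fintype.sum_option]
  simp only [hval, (rep_conj g _).1, (rep_conj g _).2]
  simp [rep]

lemma sum_mul_conj (α β : MulChar F ℂ) [Decidable (α = β)] :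
    ∑ a : F, α a * conj (β a) = if α = β then ((Fintype.card F : ℂ) - 1) else 0 := by
  have e : ∀ a : F, α a * conj (β a) = (α * β⁻¹) a := fun a => by
    rw [MulChar.mul_apply, ← MulChar.star_apply' β a]; rfl
  rw [Finset.sum_congr rfl fun a _ => e a]
  split_ifs with h
  · subst h
    rw [mul_inv_cancel, MulChar.sum_one_eq_card_units, Fintype.card_units, Nat.cast_sub Fintype.card_pos]
    norm_num
  · exact MulChar.sum_eq_zero_of_ne_one fun e => h (mul_inv_eq_one.1 e)

theorem classInner_indFun (α β : MulChar F ℂ) [Decidable (α = β)] [Decidable (α = β⁻¹)] :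
    Cfsg.classInner (Cfsg.indFun (borel F) (lin α)) (Cfsg.indFun (borel F) (lin β)) =
      (if α = β then 1 else 0) + (if α = β⁻¹ then 1 else 0) := by
  classical
  haveI : Fintype (borel F) := Fintype.ofFinite _
  rw [CharInduce.classInner_indFun_left _ _ _ (CharInduce.isClassFunction_indFun _ _)]
  unfold Cfsg.classInner
  rw [← coord.sum_comp, Fintype.sum_prod_type, ← Nat.card_congr coord, Nat.card_prod,
    Nat.card_eq_fintype_card, Nat.card_eq_fintype_card, Fintype.card_units]
  have hinner : ∀ a : Fˣ, (∑ b : F, lin α (coord (a, b)) *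
      conj (Cfsg.indFun (borel F) (lin β) ((coord (a, b) : borel F) : S2))) =
      (Fintype.card F : ℂ) * (α a * conj (β a) + α a * conj (β⁻¹ (a : F))) := by
    intro a
    have e : ∀ b : F, ((coord (a, b) : borel F) : S2) = (mkB a b : S2) := fun b => rfl
    simp only [lin, e, indFun_lin, borel_apply, mkB_00, mkB_01, mkB_11, if_true, zero_mul, zero_add,
      map_add, map_sum, mul_add, Finset.sum_add_distrib, Finset.mul_sum]
    congr 1
    · simp [Finset.mul_sum]
    · rw [Finset.sum_comm]
      have : ∀ t : F, (∑ b : F, α (a : F) * conj (if ((a : F)⁻¹ - (a : F)) * t - b = 0 then β (a : F)⁻¹ else 0)) =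
          α (a : F) * conj (β (a : F)⁻¹) := by
        intro t
        rw [Finset.sum_eq_single (((a : F)⁻¹ - (a : F)) * t)]
        · rw [if_pos (sub_self _)]
        · intro b _ hb
          rw [if_neg (fun h => hb (sub_eq_zero.1 h).symm), map_zero, mul_zero]
        · exact fun h => absurd (Finset.mem_univ _) h
      simp [this, MulChar.inv_apply']
  have hunits : ∀ χ : MulChar F ℂ, (∑ a : Fˣ, α a * conj (χ a)) = ∑ a : F, α a * conj (χ a) := by
    intro χ
    refine Fintype.sum_of_injective (fun a : Fˣ => (a : F)) Units.val_injective _ (fun a : F => α a * conj (χ a)) ?_ (fun _ => rfl)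
    intro x hx
    have : x = 0 := by_contra fun h => hx ⟨Units.mk0 x h, rfl⟩
    subst this
    simp [MulChar.map_zero]
  simp only [hinner, ← Finset.mul_sum, Finset.sum_add_distrib, hunits, sum_mul_conj]
  have hq := Fintype.one_lt_card (α := F)
  have h1 : (Fintype.card F : ℂ) - 1 ≠ 0 := by
    rw [sub_ne_zero]; exact_mod_cast hq.ne'
  have h0 : (Fintype.card F : ℂ) ≠ 0 := Nat.cast_ne_zero.2 Fintype.card_ne_zero
  rw [Nat.cast_mul, Nat.cast_sub hq.le, Nat.cast_one]
  split_ifs <;> field_simp <;> ring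

end Cfsg.Agent.H54.Borel
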