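import Mathlib
import Cfsg.Agent.H27.QuaternionSylow
import Cfsg.Agent.Linear.TwoTorus
import Cfsg.Agent.Linear.TwoClasses

/-!
Centraliser and normaliser of a Sylow 2-subgroup of `SL_2(q)`, `q` odd.
-/

set_option autoImplicit false

namespace Cfsg.Agent.H54.SLTwoSylow

open Matrix Cfsg.Agent.Linear

variable {F : Type*} [Field F] [Fintype F]

local notation "S2" => Matrix.SpecialLinearGroup (Fin 2) F
local notation "M2" => Matrix (Fin 2) (Fin 2) F

theorem centralizer_sylow (hodd : Odd (Fintype.card F)) (S : Sylow 2 S2) :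
    Subgroup.centralizer ((S : Subgroup S2) : Set S2) = Subgroup.center S2 := by
  obtain ⟨k, hk, ⟨e⟩⟩ := H27.QuaternionSylow.sylow_equiv_quaternion hodd S
  haveI : NeZero (2 ^ k) := ⟨by positivity⟩
  refine le_antisymm (fun z hz => ?_) (Subgroup.center_le_centralizer _)
  by_contra hzc
  have hns : ¬ IsScalarTwo (z : M2) := fun h => hzc (mem_center_SL_two.2 (isScalarTwo_SL_iff.1 h))
  have hmem : ∀ u : (S : Subgroup S2), (u : S2) ∈ Subgroup.centralizer {z} := fun u =>
    Subgroup.mem_centralizer_singleton_iff.2 (Subgroup.mem_centralizer_iff.1 hz u u.2)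
  have h := congrArg e (Subtype.ext (centralizer_comm hns (hmem (e.symm (QuaternionGroup.a 1)))
    (hmem (e.symm (QuaternionGroup.xa 0)))) :
      e.symm (QuaternionGroup.a 1) * e.symm (QuaternionGroup.xa 0) =
      e.symm (QuaternionGroup.xa 0) * e.symm (QuaternionGroup.a 1))
  rw [map_mul, map_mul, MulEquiv.apply_symm_apply, MulEquiv.apply_symm_apply, QuaternionGroup.a_mul_xa,
    QuaternionGroup.xa_mul_a] at h
  have h1 : (0 : ZMod (2 * 2 ^ k)) - 1 = 0 + 1 := QuaternionGroup.xa.inj h
  have h2 : ((2 : ℕ) : ZMod (2 * 2 ^ k)) = 0 := by push_cast; linear_combination -h1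
  have h3 := Nat.le_of_dvd two_pos ((ZMod.natCast_eq_zero_iff _ _).1 h2)
  have h4 : 2 ^ 1 ≤ 2 ^ k := Nat.pow_le_pow_right two_pos hk
  omega

theorem normalizer_eq_self (hodd : Odd (Fintype.card F))
    (hq : Fintype.card F % 8 = 1 ∨ Fintype.card F % 8 = 7) (S : Sylow 2 S2) :
    Subgroup.normalizer ((S : Subgroup S2) : Set S2) = (S : Subgroup S2) := by
  classical
  obtain ⟨k, hk, ⟨e⟩⟩ := H27.QuaternionSylow.sylow_equiv_quaternion hodd S
  haveI : NeZero (2 ^ k) := ⟨by positivity⟩
  -- the order is at least 16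
  have h16 : 2 ^ 4 ∣ Nat.card (S : Subgroup S2) := by
    refine S.pow_dvd_card_of_pow_dvd_card ?_
    rw [card_SL_two]
    obtain ⟨m, r, hqm, hr⟩ : ∃ m r, Fintype.card F = 8 * m + r ∧ (r = 1 ∨ r = 7) :=
      ⟨Fintype.card F / 8, Fintype.card F % 8, (Nat.div_add_mod _ 8).symm, hq⟩
    rw [hqm]
    rcases hr with rfl | rfl
    · rw [Nat.sub_eq_of_eq_add (b := 1) (show (8 * m + 1) ^ 2 = 16 * (4 * m ^ 2 + m) + 1 by ring)]
      exact Dvd.dvd.mul_left (Dvd.intro _ rfl) _
    · rw [Nat.sub_eq_of_eq_add (b := 1) (show (8 * m + 7) ^ 2 = 16 * (4 * m ^ 2 + 7 * m + 3) + 1 by ring)]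
      exact Dvd.dvd.mul_left (Dvd.intro _ rfl) _
  have hk2 : 2 ≤ k := by
    rw [Nat.card_congr e.toEquiv, Nat.card_eq_fintype_card, QuaternionGroup.card] at h16
    by_contra h
    obtain rfl : k = 1 := by omega
    norm_num at h16
  set x : (S : Subgroup S2) := e.symm (QuaternionGroup.a 1) with hx
  have hxo : 4 < orderOf (x : S2) := by
    rw [Subgroup.orderOf_coe, hx, MulEquiv.orderOf_eq, QuaternionGroup.orderOf_a_one]
    have : 2 ^ 2 ≤ 2 ^ k := Nat.pow_le_pow_right two_pos hk2
    omega
  have habs : ∀ z : (S : Subgroup S2), 4 < orderOf (z : S2) →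
      (z : S2) ∈ Subgroup.centralizer ({(x : S2)} : Set S2) := by
    intro z hz
    rw [Subgroup.mem_centralizer_singleton_iff]
    rcases hze : e z with i | i
    · have : z * x = x * z := e.injective (by
        rw [map_mul, map_mul, hze, hx, MulEquiv.apply_symm_apply, QuaternionGroup.a_mul_a,
          QuaternionGroup.a_mul_a, add_comm])
      exact congrArg Subtype.val this
    · exfalso
      rw [Subgroup.orderOf_coe, ← MulEquiv.orderOf_eq e, hze, QuaternionGroup.orderOf_xa] at hz
      omega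
  obtain ⟨f, hp0, hf⟩ := FiniteField.card F (ringChar F)
  have : Fact (ringChar F).Prime := ⟨hp0⟩
  have : CharP F (ringChar F) := ringChar.charP F
  have ht : ((x : S2) : M2).trace ^ 2 ≠ 4 := by
    intro h
    have h1 := orderOf_dvd_of_pow_eq_one (pow_two_mul_char_eq_one (ringChar F) h)
    obtain ⟨j, hj⟩ := (IsPGroup.iff_orderOf.1 S.isPGroup') x
    rw [Subgroup.orderOf_coe, hj] at h1
    rw [Subgroup.orderOf_coe, hj] at hxo
    have hop : Nat.Coprime 2 (ringChar F) := by
      rw [Nat.coprime_primes Nat.prime_two hp0]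
      intro h2
      rw [hf, ← h2] at hodd
      exact Nat.not_even_iff_odd.2 hodd ((Nat.even_pow' f.ne_zero).2 even_two)
    have := Nat.le_of_dvd two_pos ((hop.pow_left j).dvd_of_dvd_mul_right h1)
    omega
  have hord : ∀ g : S2, g ∈ Subgroup.normalizer ((S : Subgroup S2) : Set S2) → ∀ u : (S : Subgroup S2),
      4 < orderOf (u : S2) → g * u * g⁻¹ ∈ Subgroup.centralizer ({(x : S2)} : Set S2) := by
    intro g hg u hu
    refine habs ⟨g * u * g⁻¹, (Subgroup.mem_normalizer_iff.1 hg u).1 u.2⟩ ?_
    show 4 < orderOf (g * u * g⁻¹)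
    rwa [show g * (u : S2) * g⁻¹ = MulAut.conj g (u : S2) from rfl, MulEquiv.orderOf_eq]
  have hconj : ∀ g : S2, g ∈ Subgroup.normalizer ((S : Subgroup S2) : Set S2) →
      g * x * g⁻¹ = (x : S2) ∨ g * x * g⁻¹ = (x : S2)⁻¹ := fun g hg =>
    eq_or_eq_inv_of_trace ht (hord g hg x hxo) (trace_conj _ _)
  -- no non-trivial element of odd order
  have hodd1 : ∀ g : S2, g ∈ Subgroup.normalizer ((S : Subgroup S2) : Set S2) → Odd (orderOf g) → g = 1 := by
    intro g hg hgo
    have hgC : g ∈ Subgroup.centralizer ({(x : S2)} : Set S2) := by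
      have hg2 : g ^ 2 ∈ Subgroup.centralizer ({(x : S2)} : Set S2) := by
        rw [Subgroup.mem_centralizer_singleton_iff, ← mul_inv_eq_iff_eq_mul, pow_two]
        rcases hconj g hg with h | h
        · rw [show g * g * (x : S2) * (g * g)⁻¹ = g * (g * x * g⁻¹) * g⁻¹ by group, h, h]
        · rw [show g * g * (x : S2) * (g * g)⁻¹ = g * (g * x * g⁻¹) * g⁻¹ by group, h, ← conj_inv, h, inv_inv]
      obtain ⟨m, hm⟩ := hgo
      have e1 : g = (g ^ 2) ^ (m + 1) := by
        rw [← pow_mul, show 2 * (m + 1) = orderOf g + 1 by omega, pow_succ, pow_orderOf_eq_one, one_mul]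
      rw [e1]; exact Subgroup.pow_mem _ hg2 _
    set y : (S : Subgroup S2) := e.symm (QuaternionGroup.xa 0)
    have hyN : (y : S2) ∈ Subgroup.normalizer ((S : Subgroup S2) : Set S2) := Subgroup.le_normalizer y.2
    have hyinv : (y : S2) * x * (y : S2)⁻¹ = (x : S2)⁻¹ := by
      refine (hconj y hyN).resolve_left fun h => ?_
      have h' : y * x = x * y := Subtype.ext (mul_inv_eq_iff_eq_mul.1 h)
      have h'' := congrArg e h'
      rw [map_mul, map_mul, MulEquiv.apply_symm_apply, MulEquiv.apply_symm_apply, QuaternionGroup.a_mul_xa,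
        QuaternionGroup.xa_mul_a] at h''
      have h1 : (0 : ZMod (2 * 2 ^ k)) + 1 = 0 - 1 := QuaternionGroup.xa.inj h''
      have h2 : ((2 : ℕ) : ZMod (2 * 2 ^ k)) = 0 := by push_cast; linear_combination h1
      have h3 := Nat.le_of_dvd two_pos ((ZMod.natCast_eq_zero_iff _ _).1 h2)
      have h4 : 2 ^ 2 ≤ 2 ^ k := Nat.pow_le_pow_right two_pos hk2
      omega
    have hyg := inverter_inverts ht hyinv hgC
    have hmem : g ^ 2 ∈ (S : Subgroup S2) := by
      have h1 : g * y * g⁻¹ ∈ (S : Subgroup S2) := (Subgroup.mem_normalizer_iff.1 hg y).1 y.2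
      have h2 := Subgroup.mul_mem _ h1 (Subgroup.inv_mem _ y.2)
      rwa [show g * (y : S2) * g⁻¹ * (y : S2)⁻¹ = g * ((y : S2) * g⁻¹ * (y : S2)⁻¹) by group, ← conj_inv, hyg,
        inv_inv, ← pow_two] at h2
    obtain ⟨j, hj⟩ := (IsPGroup.iff_orderOf.1 S.isPGroup') ⟨_, hmem⟩
    have hj' : orderOf (g ^ 2) = 2 ^ j := by
      rw [← hj]; exact (Subgroup.orderOf_coe (⟨_, hmem⟩ : (S : Subgroup S2)))
    have hcop : Nat.Coprime (orderOf g) 2 := by
      rw [Nat.coprime_two_right]; exact hgo
    rw [Nat.Coprime.orderOf_pow hcop] at hj'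
    rcases Nat.eq_zero_or_pos j with rfl | hj0
    · exact orderOf_eq_one_iff.1 hj'
    · rw [hj'] at hgo
      exact absurd hgo (Nat.not_odd_iff_even.2 ((Nat.even_pow' hj0.ne').2 even_two))
  refine S.3 (fun g => ?_) Subgroup.le_normalizer
  obtain ⟨j, m, hm, hgm⟩ := Nat.exists_eq_pow_mul_and_not_dvd (orderOf_pos (g : S2)).ne' 2 (by norm_num)
  refine ⟨j, Subtype.ext ?_⟩
  rw [Subgroup.coe_pow, Subgroup.coe_one]
  refine hodd1 _ (Subgroup.pow_mem _ g.2 _) ?_
  rw [orderOf_pow_of_dvd (by positivity) (by rw [hgm]; exact Dvd.intro _ rfl), hgm,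
    Nat.mul_div_cancel_left _ (by positivity)]
  exact Nat.odd_iff.2 (Nat.two_dvd_ne_zero.1 hm)

omit [Fintype F] in
lemma det_eq_three {v : M2} (htr : v.trace = 0) (h : v * v = (-3 : F) • (1 : M2)) : v.det = 3 := by
  have h00 := congrFun (congrFun h 0) 0
  rw [Matrix.mul_apply, Fin.sum_univ_two] at h00
  simp at h00
  rw [Matrix.trace_fin_two] at htr
  rw [Matrix.det_fin_two]
  linear_combination v 0 0 * htr - h00

lemma card_noncommuting_pairs : Fintype.card {p : QuaternionGroup 2 × QuaternionGroup 2 //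
    p.1 * p.2 ≠ p.2 * p.1} = 24 := by decide

theorem card_normalizer_eight (hodd : Odd (Fintype.card F))
    (hq : Fintype.card F % 8 = 3 ∨ Fintype.card F % 8 = 5) (S : Sylow 2 S2) :
    Nat.card (Subgroup.normalizer ((S : Subgroup S2) : Set S2)) = 3 * Nat.card S := by
  classical
  have h2 := two_ne_zero_of_odd_card hodd
  obtain ⟨m, hm, hG⟩ := H27.QuaternionSylow.card_SL_two_eight rfl hq
  obtain ⟨k, hk, ⟨e'⟩⟩ := H27.QuaternionSylow.sylow_equiv_quaternion hodd S
  haveI : NeZero (2 ^ k) := ⟨by positivity⟩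
  have hcS : Nat.card (S : Subgroup S2) = 4 * 2 ^ k := by
    rw [Nat.card_congr e'.toEquiv, Nat.card_eq_fintype_card, QuaternionGroup.card]
  have hk1 : k = 1 := by
    by_contra hne
    have h16 : 16 ∣ Nat.card (S : Subgroup S2) := by
      rw [hcS]; exact Nat.mul_dvd_mul_left 4 (show 4 ∣ 2 ^ k from pow_dvd_pow 2 (show 2 ≤ k by omega))
    have := h16.trans (Subgroup.card_subgroup_dvd_card _)
    rw [hG] at this
    obtain ⟨c, hc⟩ := this
    obtain ⟨d, hd⟩ := hm
    omega
  subst hk1
  have hS8 : Nat.card (S : Subgroup S2) = 8 := hcS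
  let e : (S : Subgroup S2) ≃* QuaternionGroup 2 := e'
  set N := Subgroup.normalizer ((S : Subgroup S2) : Set S2) with hN
  -- upper bound
  have hup : Nat.card N ≤ 48 := by
    have hgen : ∀ z : QuaternionGroup 2, ∃ i : Fin 4, z = QuaternionGroup.a 1 ^ i.val ∨
        z = QuaternionGroup.xa 0 * QuaternionGroup.a 1 ^ i.val := by decide
    have hdec := card_noncommuting_pairs
    let A := e.symm (QuaternionGroup.a 1)
    let B := e.symm (QuaternionGroup.xa 0)
    let Φ : MulAut (S : Subgroup S2) → {p : QuaternionGroup 2 × QuaternionGroup 2 // p.1 * p.2 ≠ p.2 * p.1} :=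
      fun φ => ⟨(e (φ A), e (φ B)), by
        intro h
        have h' : e (φ (A * B)) = e (φ (B * A)) := by simp only [map_mul]; exact h
        have := congrArg e (φ.injective (e.injective h'))
        rw [map_mul, map_mul, MulEquiv.apply_symm_apply, MulEquiv.apply_symm_apply] at this
        revert this; decide⟩
    have hΦ : Function.Injective Φ := by
      intro φ ψ h
      have hA : φ A = ψ A := e.injective (congrArg (fun p => p.1.1) h)
      have hB : φ B = ψ B := e.injective (congrArg (fun p => p.1.2) h)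
      refine MulEquiv.ext fun u => ?_
      obtain ⟨i, hi | hi⟩ := hgen (e u)
      · rw [show u = A ^ i.val from e.injective (by rw [hi, map_pow, MulEquiv.apply_symm_apply]), map_pow, map_pow, hA]
      · rw [show u = B * A ^ i.val from e.injective (by rw [hi, map_mul, map_pow, MulEquiv.apply_symm_apply,
          MulEquiv.apply_symm_apply]), map_mul, map_mul, map_pow, map_pow, hA, hB]
    have h1 : Nat.card (Subgroup.normalizerMonoidHom (S : Subgroup S2)).range ≤ 24 := by
      refine le_trans (Nat.card_le_card_of_injective _ Subtype.val_injective) ?_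
      refine le_trans (Nat.card_le_card_of_injective Φ hΦ) ?_
      rw [Nat.card_eq_fintype_card, hdec]
    have h2' : Nat.card (Subgroup.normalizerMonoidHom (S : Subgroup S2)).ker ≤ 2 := by
      rw [Subgroup.normalizerMonoidHom_ker, Nat.card_congr (Subgroup.subgroupOfEquivOfLe
        (Subgroup.centralizer_le_normalizer _)).toEquiv, centralizer_sylow hodd S, card_center_SL, Fintype.card_fin]
      exact Nat.le_of_dvd two_pos (Nat.gcd_dvd_left _ _)
    rw [← Subgroup.index_ker] at h1
    calc Nat.card N = Nat.card (Subgroup.normalizerMonoidHom (S : Subgroup S2)).ker *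
          (Subgroup.normalizerMonoidHom (S : Subgroup S2)).ker.index := (Subgroup.card_mul_index _).symm
      _ ≤ 2 * 24 := Nat.mul_le_mul h2' h1
  -- an element of order three
  have h3 : 3 ∣ Nat.card N := by
    set i0 := e.symm (QuaternionGroup.a 1) with hi0
    set j0 := e.symm (QuaternionGroup.xa 0) with hj0
    have hq1 : (QuaternionGroup.a 1 : QuaternionGroup 2) * QuaternionGroup.a 1 ≠ 1 := by decide
    have hsq : ∀ u : (S : Subgroup S2), u * u ≠ 1 → u * u * (u * u) = 1 → (u : S2) * u = -1 := fun u h1 h4 =>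
      (eq_one_or_neg_one_of_sq h2 (congrArg Subtype.val h4)).resolve_left fun h => h1 (Subtype.ext h)
    have hi : (i0 : S2) * i0 = -1 := hsq i0
      (fun h => by have := congrArg e h; rw [map_mul, hi0, MulEquiv.apply_symm_apply, map_one] at this; exact hq1 this)
      (e.injective (by rw [map_mul, map_mul, hi0, MulEquiv.apply_symm_apply, map_one]; decide))
    have hj : (j0 : S2) * j0 = -1 := hsq j0
      (fun h => by have := congrArg e h; rw [map_mul, hj0, MulEquiv.apply_symm_apply, map_one] at this; revert this; decide)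
      (e.injective (by rw [map_mul, map_mul, hj0, MulEquiv.apply_symm_apply, map_one]; decide))
    have hji : j0 * i0 = i0 * i0 * (i0 * j0) := e.injective (by
      simp only [map_mul, hi0, hj0, MulEquiv.apply_symm_apply]; decide)
    set I : M2 := ((i0 : S2) : M2) with hI
    set J : M2 := ((j0 : S2) : M2) with hJ
    have hII : I * I = -1 := by
      rw [hI, ← Matrix.SpecialLinearGroup.coe_mul, hi, Matrix.SpecialLinearGroup.coe_neg,
        Matrix.SpecialLinearGroup.coe_one]
    have hJJ : J * J = -1 := by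
      rw [hJ, ← Matrix.SpecialLinearGroup.coe_mul, hj, Matrix.SpecialLinearGroup.coe_neg,
        Matrix.SpecialLinearGroup.coe_one]
    have hJI : J * I = -(I * J) := by
      have : J * I = I * I * (I * J) := congrArg (fun u : (S : Subgroup S2) => ((u : S2) : M2)) hji
      rw [this, hII, neg_one_mul]
    have tr0 : ∀ u : S2, (u : M2) * (u : M2) = -1 → (u : M2).trace = 0 := by
      intro u hu
      by_contra htu
      have h := SL_sq_eq u
      rw [hu] at h
      have hz : (u : M2).trace • (u : M2) = 0 := by rw [sub_eq_add_neg] at h; simpa using h.symm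
      rcases smul_eq_zero.1 hz with h' | h'
      · exact htu h'
      · exact htu (by rw [h']; simp)
    have htI : I.trace = 0 := tr0 _ hII
    have htJ : J.trace = 0 := tr0 _ hJJ
    have hIJI : I * J * I = J := by rw [mul_assoc, hJI, mul_neg, ← mul_assoc, hII]; simp
    have hIJJ : I * J * J = -I := by rw [mul_assoc, hJJ]; simp
    have hIIJ : I * (I * J) = -J := by rw [← mul_assoc, hII]; simp
    have hJIJ : J * (I * J) = I := by rw [← mul_assoc, hJI, neg_mul, hIJJ, neg_neg]
    have hKK : I * J * (I * J) = -1 := by rw [← mul_assoc, hIJI, hJJ]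
    have htK : (I * J).trace = 0 := by
      have := tr0 ((i0 : S2) * (j0 : S2)) (by rw [Matrix.SpecialLinearGroup.coe_mul]; exact hKK)
      rwa [Matrix.SpecialLinearGroup.coe_mul] at this
    set v : M2 := I + J + I * J with hv
    have hvv : v * v = (-3 : F) • (1 : M2) := by
      have e1 : v * v = -(3 : F) • (1 : M2) := by
        simp only [hv, add_mul, mul_add, hII, hJJ, hJI, hIJI, hIJJ, hIIJ, hJIJ, hKK]
        module
      exact e1
    have htv : v.trace = 0 := by rw [hv, Matrix.trace_add, Matrix.trace_add, htI, htJ, htK]; simp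
    set c : F := -(1 / 2) with hc
    let w : S2 := ⟨c • (1 : M2) + c • v, by
      rw [det_smul_add_smul, htv, det_eq_three htv hvv, hc]; field_simp; ring⟩
    have hwI : w * i0 = j0 * w := by
      refine Subtype.ext ?_
      show (c • (1 : M2) + c • v) * I = J * (c • (1 : M2) + c • v)
      simp only [hv, add_mul, mul_add, Matrix.smul_mul, Matrix.mul_smul, one_mul, mul_one, hII, hJJ, hJI, hIJI, hJIJ]
      module
    have hwJ : w * j0 = (i0 * j0 : (S : Subgroup S2)) * w := by
      refine Subtype.ext ?_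
      show (c • (1 : M2) + c • v) * J = I * J * (c • (1 : M2) + c • v)
      simp only [hv, add_mul, mul_add, Matrix.smul_mul, Matrix.mul_smul, one_mul, mul_one, hJJ, hIJI, hIJJ, hKK]
      module
    have hw3 : w ^ 3 = 1 := by
      refine Subtype.ext ?_
      show (((w ^ 3) : S2) : M2) = 1
      rw [pow_succ, pow_two, Matrix.SpecialLinearGroup.coe_mul, Matrix.SpecialLinearGroup.coe_mul]
      show (c • (1 : M2) + c • v) * (c • (1 : M2) + c • v) * (c • (1 : M2) + c • v) = 1
      simp only [add_mul, mul_add, Matrix.smul_mul, Matrix.mul_smul, one_mul, mul_one, hvv, smul_smul]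
      have h8 : c * c * c = -(1 / 8) := by
        rw [hc, show (8 : F) = 2 * 2 * 2 by norm_num]; field_simp
      have h1 : c * c * c * 8 = -1 := by
        rw [h8]
        have : (8 : F) ≠ 0 := by rw [show (8 : F) = 2 * 2 * 2 by norm_num]; exact mul_ne_zero (mul_ne_zero h2 h2) h2
        field_simp
      match_scalars <;> first
        | ring1
        | linear_combination -h1
    have hw1 : w ≠ 1 := by
      intro h
      have h' : c • (1 : M2) + c • v = 1 := congrArg (fun u : S2 => (u : M2)) h
      have ht' := congrArg Matrix.trace h'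
      rw [trace_smul_add_smul, htv, mul_zero, add_zero, Matrix.trace_one, Fintype.card_fin, Nat.cast_ofNat] at ht'
      have hc1 : c = 1 := mul_left_cancel₀ h2 (by linear_combination ht')
      have hv0 : v = 0 := by simpa [hc1] using h'
      have e1 := congrArg (fun M : M2 => (I * M).trace) hv0
      simp only [hv, mul_add, hII, hIIJ, Matrix.trace_add, Matrix.trace_neg, Matrix.trace_one, Fintype.card_fin,
        htJ, htK, mul_zero, Matrix.trace_zero] at e1
      push_cast at e1
      exact h2 (by linear_combination -e1)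
    have hwN : w ∈ N := by
      refine Subgroup.mem_normalizer_fintype (fun n hn => ?_)
      obtain ⟨i, hi' | hi'⟩ := (by decide : ∀ z : QuaternionGroup 2, ∃ i : Fin 4, z = QuaternionGroup.a 1 ^ i.val ∨
        z = QuaternionGroup.xa 0 * QuaternionGroup.a 1 ^ i.val) (e ⟨n, hn⟩)
      · have hn' : n = (i0 : S2) ^ i.val := congrArg Subtype.val (e.injective
          (by rw [hi', map_pow, hi0, MulEquiv.apply_symm_apply]) : (⟨n, hn⟩ : (S : Subgroup S2)) = i0 ^ i.val)
        rw [hn', ← conj_pow, mul_inv_eq_of_eq_mul hwI]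
        exact Subgroup.pow_mem _ j0.2 _
      · have hn' : n = (j0 : S2) * (i0 : S2) ^ i.val := congrArg Subtype.val (e.injective
          (by rw [hi', map_mul, map_pow, hi0, hj0, MulEquiv.apply_symm_apply, MulEquiv.apply_symm_apply]) :
            (⟨n, hn⟩ : (S : Subgroup S2)) = j0 * i0 ^ i.val)
        rw [hn', ← conj_mul, ← conj_pow, mul_inv_eq_of_eq_mul hwI, mul_inv_eq_of_eq_mul hwJ]
        exact Subgroup.mul_mem _ (i0 * j0).2 (Subgroup.pow_mem _ j0.2 _)
    have : Fact (Nat.Prime 3) := ⟨Nat.prime_three⟩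
    have ho := orderOf_eq_prime (show (⟨w, hwN⟩ : N) ^ 3 = 1 from Subtype.ext hw3)
      (fun h => hw1 (congrArg Subtype.val h))
    exact ho ▸ orderOf_dvd_natCard _
  -- conclusion
  have h8 : 8 ∣ Nat.card N := hS8 ▸ Subgroup.card_dvd_of_le Subgroup.le_normalizer
  have hNG : Nat.card N ∣ 8 * m := hG ▸ Subgroup.card_subgroup_dvd_card N
  obtain ⟨l, hl⟩ := h8
  rw [hl] at hNG hup h3 ⊢
  have hlm : l ∣ m := Nat.dvd_of_mul_dvd_mul_left (by norm_num) hNG
  obtain ⟨r, hr⟩ := Odd.of_dvd_nat hm hlm
  rw [hS8]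
  omega

end Cfsg.Agent.H54.SLTwoSylow
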