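import Mathlib
import Cfsg.Prelude.Def_LinearParabolics

/-!
Block labels of compositions: `compLabel μ` takes values below `n`, is monotone, and the label `a` occurs `μ a` times.
-/

set_option autoImplicit false

namespace Cfsg.Agent.H54

open Finset

variable {n : ℕ}

/-- Partial sums of a composition. -/
def psum (μ : Fin n → ℕ) (a : ℕ) : ℕ :=
  ∑ k ∈ univ.filter (fun k : Fin n => k.val < a), μ k

lemma psum_mono (μ : Fin n → ℕ) : Monotone (psum μ) := by
  intro a b h
  exact sum_le_sum_of_subset (fun k hk => by simp only [mem_filter] at hk ⊢; exact ⟨hk.1, by omega⟩)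

lemma psum_zero (μ : Fin n → ℕ) : psum μ 0 = 0 := by
  simp [psum]

lemma psum_succ (μ : Fin n → ℕ) (a : Fin n) : psum μ (a.val + 1) = psum μ a.val + μ a := by
  have h : univ.filter (fun k : Fin n => k.val < a.val + 1) =
      insert a (univ.filter (fun k : Fin n => k.val < a.val)) := by
    ext k; simp [Fin.ext_iff]; omega
  rw [psum, h, sum_insert (by simp), psum]; ring

lemma psum_last (μ : Fin n → ℕ) : psum μ n = ∑ k, μ k := by
  simp [psum]

lemma le_compLabel_iff (μ : Fin n → ℕ) (i : Fin n) (a : ℕ) (ha : a ≤ n) :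
    a ≤ compLabel μ i ↔ psum μ a ≤ i.val := by
  classical
  have hfil : (univ.filter fun j : Fin n => (∑ k ∈ univ.filter (fun k : Fin n => k ≤ j), μ k) ≤ i.val) =
      univ.filter (fun j : Fin n => psum μ (j.val + 1) ≤ i.val) := by
    refine filter_congr (fun j _ => ?_)
    have : psum μ (j.val + 1) = ∑ k ∈ univ.filter (fun k : Fin n => k ≤ j), μ k := by
      refine sum_congr (filter_congr fun k _ => ?_) (fun _ _ => rfl)
      constructor <;> intro h
      · exact Nat.lt_succ_iff.mp h
      · exact Nat.lt_succ_iff.mpr h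
    rw [this]
  have hcard : ∀ b : ℕ, b ≤ n → (univ.filter (fun j : Fin n => j.val < b)).card = b := by
    intro b hb
    have : univ.filter (fun j : Fin n => j.val < b) = (univ : Finset (Fin b)).map (Fin.castLEEmb hb) := by
      ext j; simp only [mem_filter, mem_univ, true_and, mem_map, Fin.castLEEmb_apply]
      exact ⟨fun h => ⟨⟨j.val, h⟩, rfl⟩, by rintro ⟨k, rfl⟩; exact k.isLt⟩
    rw [this]; simp
  unfold compLabel
  rw [hfil]
  constructor
  · intro h
    by_contra hc
    rcases a with _ | a
    · simp [psum_zero] at hc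
    have : univ.filter (fun j : Fin n => psum μ (j.val + 1) ≤ i.val) ⊆
        univ.filter (fun j : Fin n => j.val < a) := by
      intro j hj
      simp only [mem_filter, mem_univ, true_and] at hj ⊢
      by_contra hja
      exact hc (le_trans (psum_mono μ (by omega)) hj)
    have := card_le_card this
    rw [hcard a (by omega)] at this
    omega
  · intro h
    have : univ.filter (fun j : Fin n => j.val < a) ⊆
        univ.filter (fun j : Fin n => psum μ (j.val + 1) ≤ i.val) := by
      intro j hj
      simp only [mem_filter, mem_univ, true_and] at hj ⊢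
      exact le_trans (psum_mono μ hj) h
    have := card_le_card this
    rw [hcard a ha] at this
    exact this

lemma compLabel_lt {μ : Fin n → ℕ} (hμ : ∑ k, μ k = n) (i : Fin n) : compLabel μ i < n := by
  by_contra h
  have := (le_compLabel_iff μ i n le_rfl).1 (by omega)
  rw [psum_last, hμ] at this
  exact absurd i.isLt (by omega)

/-- The block label as an element of `Fin n`. -/
def blk {μ : Fin n → ℕ} (hμ : ∑ k, μ k = n) (i : Fin n) : Fin n := ⟨compLabel μ i, compLabel_lt hμ i⟩

@[simp] lemma blk_val {μ : Fin n → ℕ} (hμ : ∑ k, μ k = n) (i : Fin n) : (blk hμ i).val = compLabel μ i := rfl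

lemma compLabel_mono (μ : Fin n → ℕ) : Monotone (compLabel μ) := by
  intro i j h
  refine card_le_card (fun k hk => ?_)
  simp only [mem_filter] at hk ⊢
  exact ⟨hk.1, le_trans hk.2 h⟩

lemma card_compLabel_fiber {μ : Fin n → ℕ} (hμ : ∑ k, μ k = n) (a : Fin n) :
    (univ.filter fun i : Fin n => compLabel μ i = a.val).card = μ a := by
  classical
  have hs : psum μ (a.val + 1) ≤ n := by
    calc psum μ (a.val + 1) ≤ psum μ n := psum_mono μ a.isLt
      _ = n := by rw [psum_last, hμ]
  have : (univ.filter fun i : Fin n => compLabel μ i = a.val).map Fin.valEmbedding =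
      Finset.Ico (psum μ a.val) (psum μ (a.val + 1)) := by
    ext x
    simp only [mem_map, mem_filter, mem_univ, true_and, Fin.valEmbedding_apply, Finset.mem_Ico]
    constructor
    · rintro ⟨i, hi, rfl⟩
      refine ⟨(le_compLabel_iff μ i a.val a.isLt.le).1 hi.ge, ?_⟩
      by_contra hc
      have := (le_compLabel_iff μ i (a.val + 1) a.isLt).2 (by omega)
      omega
    · rintro ⟨h1, h2⟩
      refine ⟨⟨x, lt_of_lt_of_le h2 hs⟩, ?_, rfl⟩
      have e1 := (le_compLabel_iff μ ⟨x, lt_of_lt_of_le h2 hs⟩ a.val a.isLt.le).2 h1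
      have e2 : ¬ a.val + 1 ≤ compLabel μ ⟨x, lt_of_lt_of_le h2 hs⟩ := fun h => by
        have := (le_compLabel_iff μ ⟨x, lt_of_lt_of_le h2 hs⟩ (a.val + 1) a.isLt).1 h
        simp only at this; omega
      omega
  have h2 := congrArg Finset.card this
  rw [card_map, Nat.card_Ico, psum_succ] at h2
  omega

lemma card_blk_fiber {μ : Fin n → ℕ} (hμ : ∑ k, μ k = n) (a : Fin n) :
    (univ.filter fun i : Fin n => blk hμ i = a).card = μ a := by
  rw [← card_compLabel_fiber hμ a]
  congr 1
  exact filter_congr (fun i _ => Fin.ext_iff)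

lemma mem_youngSubgroup_iff {μ : Fin n → ℕ} (hμ : ∑ k, μ k = n) (σ : Equiv.Perm (Fin n)) :
    σ ∈ youngSubgroup μ ↔ ∀ i, blk hμ (σ i) = blk hμ i := by
  simp only [Fin.ext_iff, blk_val]
  rfl

lemma mem_parabolicGL_iff {F : Type*} [Field F] (μ : Fin n → ℕ) (g : GL (Fin n) F) :
    g ∈ parabolicGL n F μ ↔
      ∀ i j, compLabel μ j < compLabel μ i → (g : Matrix (Fin n) (Fin n) F) i j = 0 := Iff.rfl

end Cfsg.Agent.H54
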