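import Mathlib
import Cfsg.Agent.H54.CompLabel

/-!
Inner products of permutation characters as double coset counts, and the double cosets of Young subgroups.
-/

set_option autoImplicit false

namespace Cfsg.Agent.H54

open Finset MulAction

/-- The averaged product of two permutation characters counts the values of a complete invariant of the
double cosets `H g K`. -/
theorem avg_fixedPointCharacter_mul {G : Type*} [Group G] [Fintype G] {X : Type*} (H K : Subgroup G)
    (Φ : G → X) (hΦ : ∀ g g' : G, Φ g = Φ g' ↔ ∃ h ∈ H, ∃ k ∈ K, g' = h * g * k)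
    (hsur : Function.Surjective Φ) :
    (Nat.card G : ℂ)⁻¹ * ∑ g : G, fixedPointCharacter H g * fixedPointCharacter K g = Nat.card X := by
  classical
  haveI : Fintype (G ⧸ H) := Fintype.ofFinite _
  haveI : Fintype (G ⧸ K) := Fintype.ofFinite _
  let Y := (G ⧸ H) × (G ⧸ K)
  haveI : Fintype (Quotient (MulAction.orbitRel G Y)) := Fintype.ofFinite _
  haveI : ∀ g : G, Fintype (fixedBy Y g) := fun g => Fintype.ofFinite _
  have hb := MulAction.sum_card_fixedBy_eq_card_orbits_mul_card_group G Y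
  have hfix : ∀ g : G, fixedPointCharacter H g * fixedPointCharacter K g = (Fintype.card (fixedBy Y g) : ℂ) := by
    intro g
    have e : fixedBy Y g ≃ (fixedBy (G ⧸ H) g) × (fixedBy (G ⧸ K) g) :=
      { toFun := fun p => (⟨p.1.1, congrArg Prod.fst p.2⟩, ⟨p.1.2, congrArg Prod.snd p.2⟩)
        invFun := fun p => ⟨(p.1.1, p.2.1), Prod.ext p.1.2 p.2.2⟩
        left_inv := fun p => rfl
        right_inv := fun p => rfl }
    rw [← Nat.card_eq_fintype_card, Nat.card_congr e, Nat.card_prod]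
    simp [fixedPointCharacter]
  let ψ : Y → X := fun p => Φ (p.1.out⁻¹ * p.2.out)
  have hwd : ∀ a b : G, ψ ((a : G ⧸ H), (b : G ⧸ K)) = Φ (a⁻¹ * b) := by
    intro a b
    obtain ⟨h, hh⟩ := QuotientGroup.mk_out_eq_mul H a
    obtain ⟨k, hk⟩ := QuotientGroup.mk_out_eq_mul K b
    refine ((hΦ _ _).2 ⟨h.1⁻¹, H.inv_mem h.2, k.1, k.2, ?_⟩).symm
    rw [hh, hk, mul_inv_rev]
    simp [mul_assoc]
  have hrep : ∀ p : Y, ∃ a b : G, p = ((a : G ⧸ H), (b : G ⧸ K)) := fun p =>
    ⟨p.1.out, p.2.out, by rw [QuotientGroup.out_eq', QuotientGroup.out_eq']⟩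
  have hkey : ∀ p q : Y, ψ p = ψ q ↔ p ∈ orbit G q := by
    intro p q
    obtain ⟨a, b, rfl⟩ := hrep p
    obtain ⟨c, d, rfl⟩ := hrep q
    rw [hwd, hwd]
    constructor
    · intro h
      obtain ⟨x, hx, y, hy, e⟩ := (hΦ _ _).1 h
      refine ⟨a * x⁻¹ * c⁻¹, Prod.ext ?_ ?_⟩
      · show ((a * x⁻¹ * c⁻¹) * c : G ⧸ H) = (a : G ⧸ H)
        refine QuotientGroup.eq.2 ?_
        simpa [mul_assoc] using hx
      · show ((a * x⁻¹ * c⁻¹) * d : G ⧸ K) = (b : G ⧸ K)
        refine QuotientGroup.eq.2 ?_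
        have : (a * x⁻¹ * c⁻¹ * d)⁻¹ * b = y⁻¹ := by
          have e' : d = c * (x * (a⁻¹ * b) * y) := by rw [← e]; group
          rw [e']; group
        rw [this]; exact K.inv_mem hy
    · rintro ⟨g, hg⟩
      have h1 : ((g * c : G) : G ⧸ H) = (a : G ⧸ H) := congrArg Prod.fst hg
      have h2 : ((g * d : G) : G ⧸ K) = (b : G ⧸ K) := congrArg Prod.snd hg
      rw [QuotientGroup.eq] at h1 h2
      refine ((hΦ _ _).2 ⟨((g * c)⁻¹ * a)⁻¹, H.inv_mem h1, (g * d)⁻¹ * b, h2, ?_⟩).symm
      group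
  let e : Quotient (MulAction.orbitRel G Y) → X :=
    Quotient.lift ψ (fun p q h => (hkey p q).2 h)
  have ebij : Function.Bijective e := by
    constructor
    · rintro ⟨p⟩ ⟨q⟩ h
      exact Quotient.sound ((hkey p q).1 h)
    · intro x
      obtain ⟨g, rfl⟩ := hsur x
      refine ⟨Quotient.mk _ (((1 : G) : G ⧸ H), (g : G ⧸ K)), ?_⟩
      show ψ _ = _
      rw [hwd, inv_one, one_mul]
  have hX : Nat.card X = Fintype.card (Quotient (MulAction.orbitRel G Y)) := by
    rw [← Nat.card_congr (Equiv.ofBijective e ebij), Nat.card_eq_fintype_card]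
  rw [sum_congr rfl (fun g _ => hfix g), ← Nat.cast_sum, hb, hX, Nat.cast_mul, ← Nat.card_eq_fintype_card (α := G)]
  rw [mul_comm (_ : ℂ) ((Nat.card G : ℕ) : ℂ), ← mul_assoc, inv_mul_cancel₀, one_mul]
  exact_mod_cast Nat.card_pos.ne'

variable {n : ℕ}

/-- Natural matrices with given row and column sums. -/
abbrev MarginMat (a b : Fin n → ℕ) : Type :=
  {N : Fin n → Fin n → ℕ // (∀ i, ∑ j, N i j = a i) ∧ ∀ j, ∑ i, N i j = b j}

/-- The margin matrix of a permutation, relative to two labellings. -/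
def countMat (L M : Fin n → Fin n) (w : Equiv.Perm (Fin n)) (i j : Fin n) : ℕ :=
  (univ.filter fun x => L x = i ∧ M (w⁻¹ x) = j).card

lemma countMat_row {L M : Fin n → Fin n} (w : Equiv.Perm (Fin n)) (i : Fin n) :
    ∑ j, countMat L M w i j = (univ.filter fun x => L x = i).card := by
  rw [card_eq_sum_card_fiberwise (f := fun x => M (w⁻¹ x)) (t := univ) (fun x _ => mem_univ _)]
  refine sum_congr rfl (fun j _ => ?_)
  rw [filter_filter]; rfl

lemma countMat_col {L M : Fin n → Fin n} (w : Equiv.Perm (Fin n)) (j : Fin n) :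
    ∑ i, countMat L M w i j = (univ.filter fun x => M x = j).card := by
  rw [← card_map w.toEmbedding (s := univ.filter fun x => M x = j)]
  have : (univ.filter fun x => M x = j).map w.toEmbedding = univ.filter fun x => M (w⁻¹ x) = j := by
    ext x
    simp only [mem_map, mem_filter, mem_univ, true_and, Equiv.coe_toEmbedding]
    constructor
    · rintro ⟨y, hy, rfl⟩; simpa using hy
    · intro h; exact ⟨w⁻¹ x, h, by simp⟩
  rw [this, card_eq_sum_card_fiberwise (f := L) (t := univ) (fun x _ => mem_univ _)]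
  refine sum_congr rfl (fun i _ => ?_)
  rw [filter_filter]
  exact congrArg card (filter_congr fun x _ => and_comm)

/-- Two permutations with the same margin matrix differ by label preserving permutations. -/
lemma exists_of_countMat_eq {L M : Fin n → Fin n} {w w' : Equiv.Perm (Fin n)}
    (h : ∀ i j, countMat L M w i j = countMat L M w' i j) :
    ∃ u v : Equiv.Perm (Fin n), (∀ x, L (u x) = L x) ∧ (∀ x, M (v x) = M x) ∧ w' = u * w * v := by
  classical
  let f : Fin n → Fin n × Fin n := fun x => (L x, M (w⁻¹ x))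
  let f' : Fin n → Fin n × Fin n := fun x => (L x, M (w'⁻¹ x))
  have hc : ∀ p, Fintype.card {x // f x = p} = Fintype.card {x // f' x = p} := by
    rintro ⟨i, j⟩
    rw [Fintype.card_subtype, Fintype.card_subtype]
    have := h i j
    unfold countMat at this
    simpa [f, f', Prod.ext_iff] using this
  let ρ : Equiv.Perm (Fin n) := Equiv.ofFiberEquiv (fun p => Fintype.equivOfCardEq (hc p))
  have hρ : ∀ x, f' (ρ x) = f x := fun x => Equiv.ofFiberEquiv_map _ x
  have h1 : ∀ x, L (ρ x) = L x := fun x => congrArg Prod.fst (hρ x)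
  have h2 : ∀ x, M (w'⁻¹ (ρ x)) = M (w⁻¹ x) := fun x => congrArg Prod.snd (hρ x)
  refine ⟨ρ, w⁻¹ * ρ⁻¹ * w', h1, fun y => ?_, by group⟩
  have := h2 (ρ⁻¹ (w' y))
  simp only [Equiv.Perm.coe_mul, Function.comp_apply] at this ⊢
  simpa using this.symm

lemma countMat_mul {L M : Fin n → Fin n} {u v : Equiv.Perm (Fin n)} (hu : ∀ x, L (u x) = L x)
    (hv : ∀ x, M (v x) = M x) (w : Equiv.Perm (Fin n)) (i j : Fin n) :
    countMat L M (u * w * v) i j = countMat L M w i j := by
  unfold countMat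
  rw [← card_map u.toEmbedding (s := univ.filter fun x => L x = i ∧ M (w⁻¹ x) = j)]
  congr 1
  ext x
  simp only [mem_map, mem_filter, mem_univ, true_and, Equiv.coe_toEmbedding]
  have hv' : ∀ x, M (v.symm x) = M x := fun x => by simpa using (hv (v.symm x)).symm
  constructor
  · rintro ⟨h1, h2⟩
    refine ⟨u⁻¹ x, ⟨?_, ?_⟩, by simp⟩
    · rw [← h1]; simpa using (hu (u⁻¹ x)).symm
    · simpa [hv'] using h2
  · rintro ⟨y, ⟨h1, h2⟩, rfl⟩
    exact ⟨by rw [hu]; exact h1, by simpa [hv'] using h2⟩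

lemma exists_countMat_eq {L M : Fin n → Fin n} (N : Fin n → Fin n → ℕ)
    (hr : ∀ i, ∑ j, N i j = (univ.filter fun x => L x = i).card)
    (hc : ∀ j, ∑ i, N i j = (univ.filter fun x => M x = j).card) :
    ∃ w, ∀ i j, countMat L M w i j = N i j := by
  classical
  let T := Σ i : Fin n, Σ j : Fin n, Fin (N i j)
  have c1 : ∀ i, Fintype.card {t : T // t.1 = i} = Fintype.card {x // L x = i} := by
    intro i
    rw [Fintype.card_congr (Equiv.sigmaSubtype (α := Fin n) (β := fun i => Σ j, Fin (N i j)) i),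
      Fintype.card_sigma, Fintype.card_subtype]
    simpa using hr i
  let φ : T ≃ Fin n := Equiv.ofFiberEquiv (fun i => Fintype.equivOfCardEq (c1 i))
  have hφ : ∀ t, L (φ t) = t.1 := fun t => Equiv.ofFiberEquiv_map _ t
  have c2 : ∀ j, Fintype.card {x // M x = j} = Fintype.card {x // (φ.symm x).2.1 = j} := by
    intro j
    have e0 : {x // (φ.symm x).2.1 = j} ≃ {t : T // t.2.1 = j} := φ.symm.subtypeEquiv (fun x => Iff.rfl)
    have e1 : {t : T // t.2.1 = j} ≃ Σ i, Fin (N i j) :=
      { toFun := fun t => ⟨t.1.1, Fin.cast (congrArg (N t.1.1) t.2) t.1.2.2⟩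
        invFun := fun p => ⟨⟨p.1, j, p.2⟩, rfl⟩
        left_inv := by
          rintro ⟨⟨i, j', k⟩, hj⟩
          subst hj
          rfl
        right_inv := fun p => rfl }
    rw [Fintype.card_congr (e0.trans e1), Fintype.card_sigma, Fintype.card_subtype]
    simpa using (hc j).symm
  let w : Equiv.Perm (Fin n) := Equiv.ofFiberEquiv (fun j => Fintype.equivOfCardEq (c2 j))
  have hw : ∀ x, (φ.symm (w x)).2.1 = M x := fun x => Equiv.ofFiberEquiv_map (g := fun x => (φ.symm x).2.1) _ x
  refine ⟨w, fun i j => ?_⟩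
  have hM : ∀ x, M (w⁻¹ x) = (φ.symm x).2.1 := fun x => by
    have := hw (w⁻¹ x)
    rw [Equiv.Perm.coe_inv] at this ⊢
    rw [w.apply_symm_apply] at this
    exact this.symm
  unfold countMat
  have e : {x // L x = i ∧ M (w⁻¹ x) = j} ≃ {t : T // t.1 = i ∧ t.2.1 = j} :=
    φ.symm.subtypeEquiv (fun x => by
      have := hφ (φ.symm x)
      rw [φ.apply_symm_apply] at this
      rw [hM, this])
  have e2 : {t : T // t.1 = i ∧ t.2.1 = j} ≃ Fin (N i j) :=
    { toFun := fun t => Fin.cast (congrArg₂ N t.2.1 t.2.2) t.1.2.2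
      invFun := fun k => ⟨⟨i, j, k⟩, rfl, rfl⟩
      left_inv := by
        rintro ⟨⟨i', j', k⟩, hi, hj⟩
        subst hi hj
        rfl
      right_inv := fun k => rfl }
  rw [← Fintype.card_subtype, Fintype.card_congr (e.trans e2), Fintype.card_fin]

variable {ν μ : Fin n → ℕ} (hν : ∑ k, ν k = n) (hμ : ∑ k, μ k = n)

/-- The margin matrix of a permutation for two compositions. -/
def permInv (w : Equiv.Perm (Fin n)) : MarginMat ν μ :=
  ⟨countMat (blk hν) (blk hμ) w,
    fun i => by rw [countMat_row, card_blk_fiber], fun j => by rw [countMat_col, card_blk_fiber]⟩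

lemma permInv_eq_iff (w w' : Equiv.Perm (Fin n)) :
    permInv hν hμ w = permInv hν hμ w' ↔
      ∃ u ∈ youngSubgroup ν, ∃ v ∈ youngSubgroup μ, w' = u * w * v := by
  simp only [mem_youngSubgroup_iff hν, mem_youngSubgroup_iff hμ]
  constructor
  · intro h
    obtain ⟨u, v, hu, hv, e⟩ := exists_of_countMat_eq (fun i j => congrFun (congrFun (congrArg Subtype.val h) i) j)
    exact ⟨u, hu, v, hv, e⟩
  · rintro ⟨u, hu, v, hv, rfl⟩
    exact Subtype.ext (funext fun i => funext fun j => (countMat_mul hu hv w i j).symm)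

lemma permInv_surjective : Function.Surjective (permInv hν hμ) := by
  intro N
  obtain ⟨w, hw⟩ := exists_countMat_eq (L := blk hν) (M := blk hμ) N.1
    (fun i => by rw [N.2.1 i, card_blk_fiber]) (fun j => by rw [N.2.2 j, card_blk_fiber])
  exact ⟨w, Subtype.ext (funext fun i => funext fun j => hw i j)⟩

theorem avg_young (hν : ∑ k, ν k = n) (hμ : ∑ k, μ k = n) :
    (Nat.card (Equiv.Perm (Fin n)) : ℂ)⁻¹ * ∑ σ : Equiv.Perm (Fin n),
        fixedPointCharacter (youngSubgroup ν) σ * fixedPointCharacter (youngSubgroup μ) σ =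
      Nat.card (MarginMat ν μ) :=
  avg_fixedPointCharacter_mul _ _ (permInv hν hμ) (permInv_eq_iff hν hμ) (permInv_surjective hν hμ)

end Cfsg.Agent.H54
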