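import Mathlib
import Cfsg.Agent.H54.OrbitCount

/-!
Bruhat decomposition in the general linear group and the double cosets of standard parabolic subgroups.
-/

set_option autoImplicit false

namespace Cfsg.Agent.H54

open Finset Matrix
open scoped MatrixGroups

section bruhat

variable {n : ℕ} {F : Type*} [Field F]

/-- Columns before `k` are cleaned: `p` gives the pivot row, the only non-zero entry of its column and row. -/
def CleanUpTo (M : Matrix (Fin n) (Fin n) F) (k : ℕ) (p : Fin n → Fin n) : Prop :=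
  ∀ j : Fin n, j.val < k → M (p j) j ≠ 0 ∧ (∀ i, i ≠ p j → M i j = 0) ∧ ∀ j', j' ≠ j → M (p j) j' = 0

lemma upperTriangular_one_add_col (i : Fin n) (c : Fin n → F) (hc : ∀ r, i ≤ r → c r = 0) :
    (1 + Matrix.of fun r s => if s = i then c r else 0 : Matrix (Fin n) (Fin n) F).BlockTriangular id := by
  intro r s h
  simp only [id_eq] at h
  simp only [Matrix.add_apply, Matrix.of_apply, Matrix.one_apply_ne (ne_of_gt h)]
  split_ifs with h1
  · subst h1; rw [hc r h.le, zero_add]
  · simp

lemma isUnit_of_upper_one {U : Matrix (Fin n) (Fin n) F} (hU : U.BlockTriangular id) (hd : ∀ i, U i i = 1) :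
    IsUnit U := by
  rw [Matrix.isUnit_iff_isUnit_det, Matrix.det_of_isUpperTriangular hU]
  simp [hd]

/-- A unitriangular matrix as an element of the upper triangular subgroup. -/
lemma exists_upper_unit {U : Matrix (Fin n) (Fin n) F} (hU : U.BlockTriangular id) (hd : ∀ i, U i i = 1) :
    ∃ u ∈ upperTriangularGL n F, (u : Matrix (Fin n) (Fin n) F) = U :=
  ⟨(isUnit_of_upper_one hU hd).unit, hU, rfl⟩

lemma clean_step (g : GL (Fin n) F) (k : ℕ) (hk : k < n) (p : Fin n → Fin n)
    (hg : CleanUpTo (g : Matrix (Fin n) (Fin n) F) k p) :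
    ∃ b ∈ upperTriangularGL n F, ∃ b' ∈ upperTriangularGL n F, ∃ p' : Fin n → Fin n,
      CleanUpTo ((b * g * b' : GL (Fin n) F) : Matrix (Fin n) (Fin n) F) (k + 1) p' := by
  classical
  set M : Matrix (Fin n) (Fin n) F := (g : Matrix (Fin n) (Fin n) F) with hM
  let kk : Fin n := ⟨k, hk⟩
  have hne : (univ.filter fun i => M i kk ≠ 0).Nonempty := by
    by_contra h
    have hz : ∀ i, M i kk = 0 := fun i => by
      by_contra hi
      exact h ⟨i, by simp [hi]⟩
    have := Matrix.det_eq_zero_of_column_eq_zero kk hz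
    exact (Units.ne_zero (Matrix.GeneralLinearGroup.det g)) (by simpa [hM] using this)
  let i0 := (univ.filter fun i => M i kk ≠ 0).max' hne
  have hi0 : M i0 kk ≠ 0 := (mem_filter.1 (max'_mem _ hne)).2
  have hmax : ∀ r, M r kk ≠ 0 → r ≤ i0 := fun r hr => le_max' _ r (by simp [hr])
  -- earlier columns vanish in row `i0`
  have hrow : ∀ j : Fin n, j.val < k → M i0 j = 0 := by
    intro j hj
    by_contra hc
    have h1 : i0 = p j := by
      by_contra h; exact hc ((hg j hj).2.1 i0 h)
    exact hi0 (by rw [h1]; exact (hg j hj).2.2 kk (fun h => by simp [← h, kk] at hj))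
  let c : Fin n → F := fun r => if r = i0 then 0 else -(M r kk / M i0 kk)
  have hc : ∀ r, i0 ≤ r → c r = 0 := by
    intro r hr
    by_cases h : r = i0
    · simp [c, h]
    · have : M r kk = 0 := by
        by_contra h'
        exact h (le_antisymm (hmax r h') hr)
      simp [c, h, this]
  obtain ⟨b, hb, hbM⟩ := exists_upper_unit (upperTriangular_one_add_col i0 c hc) (fun i => by
    simp only [Matrix.add_apply, Matrix.of_apply, Matrix.one_apply_eq]
    split_ifs with h
    · subst h; simp [c]
    · simp)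
  let d : Fin n → F := fun s => if s ≤ kk then 0 else -(M i0 s / M i0 kk)
  obtain ⟨b', hb', hbM'⟩ := exists_upper_unit
    (U := 1 + Matrix.of fun r s => if r = kk then d s else 0)
    (by
      intro r s h
      simp only [id_eq] at h
      simp only [Matrix.add_apply, Matrix.of_apply, Matrix.one_apply_ne (ne_of_gt h)]
      split_ifs with h1
      · subst h1; simp [d, h.le]
      · simp)
    (fun i => by
      simp only [Matrix.add_apply, Matrix.of_apply, Matrix.one_apply_eq]
      split_ifs with h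
      · subst h; simp [d]
      · simp)
  have he : ∀ r s, ((b * g * b' : GL (Fin n) F) : Matrix (Fin n) (Fin n) F) r s =
      (M r s + c r * M i0 s) + (M r kk + c r * M i0 kk) * d s := by
    intro r s
    rw [Units.val_mul, Units.val_mul, hbM, hbM', Matrix.mul_add, Matrix.mul_one, Matrix.add_mul,
      Matrix.one_mul, ← hM]
    simp only [Matrix.add_apply, Matrix.mul_apply, Matrix.of_apply, ite_mul, zero_mul, mul_ite, mul_zero,
      sum_ite_eq', mem_univ, if_true]
  have hcol : ∀ r, r ≠ i0 → M r kk + c r * M i0 kk = 0 := by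
    intro r hr
    simp only [c, if_neg hr]
    field_simp
    ring
  have hci : c i0 = 0 := by simp [c]
  refine ⟨b, hb, b', hb', Function.update p kk i0, fun j hj => ?_⟩
  rcases (Nat.lt_succ_iff_lt_or_eq.1 hj) with hjk | hjk
  · have hjne : j ≠ kk := fun h => by simp [h, kk] at hjk
    rw [Function.update_of_ne hjne]
    have hd : d j = 0 := if_pos (le_of_lt hjk)
    have hval : ∀ r, ((b * g * b' : GL (Fin n) F) : Matrix (Fin n) (Fin n) F) r j = M r j := fun r => by
      rw [he, hd, hrow j hjk]; ring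
    have hpi : p j ≠ i0 := fun h => (hg j hjk).1 (by rw [h]; exact hrow j hjk)
    refine ⟨by rw [hval]; exact (hg j hjk).1, fun i hi => by rw [hval]; exact (hg j hjk).2.1 i hi, ?_⟩
    intro j' hj'
    rw [he, hcol _ hpi, zero_mul, add_zero, (hg j hjk).2.2 j' hj']
    have : c (p j) = 0 := by
      simp [c, hpi, (hg j hjk).2.2 kk (Ne.symm hjne)]
    rw [this]; ring
  · have hjeq : j = kk := Fin.ext hjk
    subst hjeq
    rw [Function.update_self]
    have hd : d kk = 0 := if_pos le_rfl
    refine ⟨?_, fun i hi => ?_, fun j' hj' => ?_⟩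
    · rw [he, hd, hci]; simpa using hi0
    · rw [he, hd, mul_zero, add_zero]; exact hcol i hi
    · rw [he, hci, zero_mul, add_zero, zero_mul, add_zero]
      by_cases hle : j' ≤ kk
      · have : j'.val < k := by
          rcases lt_or_eq_of_le hle with h | h
          · exact h
          · exact absurd h hj'
        rw [hrow j' this, show d j' = 0 from if_pos hle]; ring
      · simp only [d, if_neg hle]
        field_simp
        ring

lemma exists_clean (g : GL (Fin n) F) (k : ℕ) (hk : k ≤ n) :
    ∃ b ∈ upperTriangularGL n F, ∃ b' ∈ upperTriangularGL n F, ∃ p : Fin n → Fin n,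
      CleanUpTo ((b * g * b' : GL (Fin n) F) : Matrix (Fin n) (Fin n) F) k p := by
  induction k with
  | zero => exact ⟨1, one_mem _, 1, one_mem _, id, fun j hj => absurd hj (Nat.not_lt_zero _)⟩
  | succ k ih =>
    obtain ⟨b, hb, b', hb', p, hp⟩ := ih (Nat.le_of_succ_le hk)
    obtain ⟨c, hc, c', hc', p', hp'⟩ := clean_step (b * g * b') k hk p hp
    refine ⟨c * b, mul_mem hc hb, b' * c', mul_mem hb' hc', p', ?_⟩
    simpa [mul_assoc] using hp'

/-- The permutation matrix of `σ`, sending the basis vector `e x` to `e (σ x)`. -/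
def permGL (F : Type*) [Field F] (σ : Equiv.Perm (Fin n)) : GL (Fin n) F where
  val := Matrix.of fun r s => if r = σ s then 1 else 0
  inv := Matrix.of fun r s => if r = σ⁻¹ s then 1 else 0
  val_inv := by
    ext r s
    simp [Matrix.mul_apply, Matrix.one_apply]
  inv_val := by
    ext r s
    simp [Matrix.mul_apply, Matrix.one_apply]

lemma permGL_apply (σ : Equiv.Perm (Fin n)) (r s : Fin n) :
    ((permGL F σ : GL (Fin n) F) : Matrix (Fin n) (Fin n) F) r s = if r = σ s then 1 else 0 := rfl

lemma permGL_mul (σ τ : Equiv.Perm (Fin n)) : permGL F (σ * τ) = permGL F σ * permGL F τ := by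
  apply Units.ext
  ext r s
  simp only [Units.val_mul, Matrix.mul_apply, permGL_apply, ite_mul, one_mul, zero_mul, mul_ite, mul_one, mul_zero,
    Finset.sum_ite_eq', Finset.mem_univ, if_true, Equiv.Perm.coe_mul, Function.comp_apply]
  by_cases h : r = σ (τ s)
  · simp [h]
  · simp [h]

theorem bruhat (g : GL (Fin n) F) :
    ∃ b ∈ upperTriangularGL n F, ∃ b' ∈ upperTriangularGL n F, ∃ σ : Equiv.Perm (Fin n),
      g = b * permGL F σ * b' := by
  classical
  obtain ⟨b, hb, b', hb', p, hp⟩ := exists_clean g n le_rfl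
  set h := b * g * b' with hh
  have hinj : Function.Injective p := fun j j' e => by
    by_contra hne
    exact (hp j' j'.isLt).1 (by rw [← e]; exact (hp j j.isLt).2.2 j' (Ne.symm hne))
  let σ : Equiv.Perm (Fin n) := Equiv.ofBijective p ⟨hinj, Finite.injective_iff_surjective.1 hinj⟩
  let D : Matrix (Fin n) (Fin n) F := Matrix.diagonal fun r => (h : Matrix (Fin n) (Fin n) F) r (σ⁻¹ r)
  have hD : IsUnit D := by
    rw [Matrix.isUnit_diagonal, Pi.isUnit_iff]
    intro r
    refine IsUnit.mk0 _ ?_
    have := (hp (σ⁻¹ r) (σ⁻¹ r).isLt).1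
    have e : p (σ⁻¹ r) = r := σ.apply_symm_apply r
    rwa [e] at this
  have hDm : hD.unit ∈ upperTriangularGL n F := Matrix.blockTriangular_diagonal _
  have he : h = hD.unit * permGL F σ := by
    apply Units.ext
    ext r s
    rw [show ((hD.unit * permGL F σ : GL (Fin n) F) : Matrix (Fin n) (Fin n) F) =
      D * (permGL F σ : GL (Fin n) F) from rfl, Matrix.diagonal_mul, permGL_apply]
    rw [show σ s = p s from rfl]
    by_cases hr : r = p s
    · have : σ⁻¹ r = s := by rw [hr]; exact σ.symm_apply_apply s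
      rw [if_pos hr, this, mul_one]
    · rw [if_neg hr, mul_zero]
      exact (hp s s.isLt).2.1 r hr
  refine ⟨b⁻¹ * hD.unit, mul_mem (inv_mem hb) hDm, b'⁻¹, inv_mem hb', σ, ?_⟩
  rw [mul_assoc b⁻¹, ← he, hh]
  group

lemma upperTriangular_le_parabolic (μ : Fin n → ℕ) : upperTriangularGL n F ≤ parabolicGL n F μ := by
  intro g hg i j hij
  refine hg ?_
  by_contra h
  exact absurd hij (not_lt.2 (compLabel_mono μ (not_lt.1 h)))

lemma permGL_mem_parabolic {μ : Fin n → ℕ} {σ : Equiv.Perm (Fin n)} (h : σ ∈ youngSubgroup μ) :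
    permGL F σ ∈ parabolicGL n F μ := by
  intro r s hrs
  rw [permGL_apply, if_neg]
  intro he
  rw [he, h s] at hrs
  exact lt_irrefl _ hrs

end bruhat

section invariant

variable {n : ℕ} {F : Type*} [Field F] [Fintype F]

/-- Number of vectors in a coordinate subspace carried into another by `g⁻¹`. -/
noncomputable def subspaceInv (ν μ : Fin n → ℕ) (g : GL (Fin n) F) (a b : ℕ) : ℕ :=
  Nat.card {v : Fin n → F // (∀ x, a ≤ compLabel ν x → v x = 0) ∧
    ∀ x, b ≤ compLabel μ x → (((g⁻¹ : GL (Fin n) F) : Matrix (Fin n) (Fin n) F) *ᵥ v) x = 0}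

lemma parabolic_mulVec_mem {μ : Fin n → ℕ} {p : GL (Fin n) F} (hp : p ∈ parabolicGL n F μ) (a : ℕ)
    {v : Fin n → F} (hv : ∀ x, a ≤ compLabel μ x → v x = 0) :
    ∀ x, a ≤ compLabel μ x → ((p : Matrix (Fin n) (Fin n) F) *ᵥ v) x = 0 := by
  intro x hx
  rw [Matrix.mulVec, dotProduct]
  refine sum_eq_zero (fun y _ => ?_)
  by_cases hy : compLabel μ y < a
  · rw [show (p : Matrix (Fin n) (Fin n) F) x y = 0 from hp (lt_of_lt_of_le hy hx), zero_mul]
  · rw [hv y (not_lt.1 hy), mul_zero]

lemma subspaceInv_mul_le {ν μ : Fin n → ℕ} {p k : GL (Fin n) F} (hp : p ∈ parabolicGL n F ν)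
    (hk : k ∈ parabolicGL n F μ) (g : GL (Fin n) F) (a b : ℕ) :
    subspaceInv ν μ g a b ≤ subspaceInv ν μ (p * g * k) a b := by
  refine Nat.card_le_card_of_injective
    (fun v => ⟨(p : Matrix (Fin n) (Fin n) F) *ᵥ v.1, parabolic_mulVec_mem hp a v.2.1, ?_⟩) ?_
  · have : (((p * g * k)⁻¹ : GL (Fin n) F) : Matrix (Fin n) (Fin n) F) *ᵥ ((p : Matrix (Fin n) (Fin n) F) *ᵥ v.1) =
        ((k⁻¹ : GL (Fin n) F) : Matrix (Fin n) (Fin n) F) *ᵥ (((g⁻¹ : GL (Fin n) F) : Matrix (Fin n) (Fin n) F) *ᵥ v.1) := by
      rw [mulVec_mulVec, mulVec_mulVec, ← Units.val_mul, ← Units.val_mul]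
      congr 2
      group
    rw [this]
    exact parabolic_mulVec_mem (inv_mem hk) b v.2.2
  · intro v w h
    apply Subtype.ext
    have := congrArg Subtype.val h
    have h2 := congrArg (fun u => ((p⁻¹ : GL (Fin n) F) : Matrix (Fin n) (Fin n) F) *ᵥ u) this
    simpa [mulVec_mulVec, ← Units.val_mul] using h2

lemma subspaceInv_mul {ν μ : Fin n → ℕ} {p k : GL (Fin n) F} (hp : p ∈ parabolicGL n F ν)
    (hk : k ∈ parabolicGL n F μ) (g : GL (Fin n) F) :
    subspaceInv ν μ (p * g * k) = subspaceInv ν μ g := by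
  funext a b
  refine le_antisymm ?_ (subspaceInv_mul_le hp hk g a b)
  have := subspaceInv_mul_le (inv_mem hp) (inv_mem hk) (p * g * k) a b
  simpa [mul_assoc] using this

lemma subspaceInv_perm (ν μ : Fin n → ℕ) (σ : Equiv.Perm (Fin n)) (a b : ℕ) :
    subspaceInv ν μ (permGL F σ) a b =
      Fintype.card F ^ (univ.filter fun x => compLabel ν x < a ∧ compLabel μ (σ⁻¹ x) < b).card := by
  classical
  have hP : ∀ (v : Fin n → F) x,
      ((((permGL F σ)⁻¹ : GL (Fin n) F) : Matrix (Fin n) (Fin n) F) *ᵥ v) x = v (σ x) := by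
    intro v x
    show (Matrix.of (fun r s => if r = σ⁻¹ s then (1 : F) else 0) *ᵥ v) x = _
    rw [Matrix.mulVec, dotProduct, Finset.sum_eq_single (σ x)]
    · simp
    · intro y _ hy
      have : x ≠ σ⁻¹ y := fun h => hy (by rw [h]; exact (σ.apply_symm_apply y).symm)
      rw [Matrix.of_apply, if_neg this, zero_mul]
    · simp
  let S := univ.filter fun x => compLabel ν x < a ∧ compLabel μ (σ⁻¹ x) < b
  have e : {v : Fin n → F // (∀ x, a ≤ compLabel ν x → v x = 0) ∧
      ∀ x, b ≤ compLabel μ x → ((((permGL F σ)⁻¹ : GL (Fin n) F) : Matrix (Fin n) (Fin n) F) *ᵥ v) x = 0} ≃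
      (S → F) :=
    { toFun := fun v x => v.1 x
      invFun := fun f => ⟨fun x => if h : x ∈ S then f ⟨x, h⟩ else 0,
        ⟨fun x hx => dif_neg (by simp [S, hx]), fun x hx => by
          rw [hP]; exact dif_neg (by simp [S, hx])⟩⟩
      left_inv := fun v => by
        apply Subtype.ext
        funext x
        show (if h : x ∈ S then v.1 x else 0) = v.1 x
        split_ifs with h
        · rfl
        · simp only [S, mem_filter, mem_univ, true_and, not_and_or, not_lt] at h
          rcases h with h | h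
          · exact (v.2.1 x h).symm
          · have := v.2.2 _ h
            rw [hP] at this
            simpa using this.symm
      right_inv := fun f => by funext x; exact dif_pos x.2 }
  rw [subspaceInv, Nat.card_congr e, Nat.card_fun, Nat.card_eq_fintype_card, Nat.card_eq_fintype_card,
    Fintype.card_coe]

lemma countMat_eq_of_cumulative {L M : Fin n → Fin n} {w w' : Equiv.Perm (Fin n)}
    (h : ∀ a b : ℕ, (univ.filter fun x => (L x).val < a ∧ (M (w⁻¹ x)).val < b).card =
      (univ.filter fun x => (L x).val < a ∧ (M (w'⁻¹ x)).val < b).card) (i j : Fin n) :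
    countMat L M w i j = countMat L M w' i j := by
  have key : ∀ u : Equiv.Perm (Fin n), (countMat L M u i j : ℤ) =
      (univ.filter fun x => (L x).val < i.val + 1 ∧ (M (u⁻¹ x)).val < j.val + 1).card -
      (univ.filter fun x => (L x).val < i.val ∧ (M (u⁻¹ x)).val < j.val + 1).card -
      (univ.filter fun x => (L x).val < i.val + 1 ∧ (M (u⁻¹ x)).val < j.val).card +
      (univ.filter fun x => (L x).val < i.val ∧ (M (u⁻¹ x)).val < j.val).card := by
    intro u
    unfold countMat
    simp only [natCast_card_filter, ← sum_sub_distrib, ← sum_add_distrib, Fin.ext_iff]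
    refine sum_congr rfl (fun x _ => ?_)
    split_ifs <;> omega
  have := key w
  rw [h, h, h, h, ← key w'] at this
  exact_mod_cast this

variable {ν μ : Fin n → ℕ} (hν : ∑ k, ν k = n) (hμ : ∑ k, μ k = n)

/-- The margin matrix of an invertible matrix: that of any permutation in its double coset. -/
noncomputable def glInv (g : GL (Fin n) F) : MarginMat ν μ :=
  permInv hν hμ (bruhat g).choose_spec.2.choose_spec.2.choose

lemma exists_glInv (g : GL (Fin n) F) :
    ∃ σ : Equiv.Perm (Fin n), glInv hν hμ g = permInv hν hμ σ ∧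
      ∃ p ∈ parabolicGL n F ν, ∃ k ∈ parabolicGL n F μ, g = p * permGL F σ * k := by
  refine ⟨_, rfl, (bruhat g).choose, upperTriangular_le_parabolic ν (bruhat g).choose_spec.1,
    (bruhat g).choose_spec.2.choose, upperTriangular_le_parabolic μ (bruhat g).choose_spec.2.choose_spec.1, ?_⟩
  exact (bruhat g).choose_spec.2.choose_spec.2.choose_spec

lemma glInv_eq_iff (g g' : GL (Fin n) F) :
    glInv hν hμ g = glInv hν hμ g' ↔ ∃ p ∈ parabolicGL n F ν, ∃ k ∈ parabolicGL n F μ, g' = p * g * k := by
  obtain ⟨σ, hσ, p, hp, k, hk, rfl⟩ := exists_glInv hν hμ g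
  obtain ⟨σ', hσ', p', hp', k', hk', rfl⟩ := exists_glInv hν hμ g'
  rw [hσ, hσ']
  constructor
  · intro h
    obtain ⟨u, hu, v, hv, rfl⟩ := (permInv_eq_iff hν hμ σ σ').1 h
    refine ⟨p' * permGL F u * p⁻¹, mul_mem (mul_mem hp' (permGL_mem_parabolic hu)) (inv_mem hp),
      k⁻¹ * permGL F v * k', mul_mem (mul_mem (inv_mem hk) (permGL_mem_parabolic hv)) hk', ?_⟩
    rw [permGL_mul, permGL_mul]
    group
  · rintro ⟨x, hx, y, hy, e⟩
    have h1 := congrArg (subspaceInv ν μ) e
    rw [subspaceInv_mul hp' hk', subspaceInv_mul hx hy, subspaceInv_mul hp hk] at h1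
    refine Subtype.ext (funext fun i => funext fun j => countMat_eq_of_cumulative (fun a b => ?_) i j)
    have h2 := congrFun (congrFun h1 a) b
    rw [subspaceInv_perm, subspaceInv_perm] at h2
    have := Nat.pow_right_injective (Fintype.one_lt_card (α := F)) h2
    simp only [blk_val]
    exact this.symm

lemma glInv_surjective : Function.Surjective (glInv (F := F) hν hμ) := by
  intro N
  obtain ⟨w, rfl⟩ := permInv_surjective hν hμ N
  refine ⟨permGL F w, ?_⟩
  obtain ⟨σ, hσ, p, hp, k, hk, e⟩ := exists_glInv hν hμ (permGL F w)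
  rw [hσ]
  refine Subtype.ext (funext fun i => funext fun j => countMat_eq_of_cumulative (fun a b => ?_) i j)
  have h1 := congrArg (subspaceInv ν μ) e
  rw [subspaceInv_mul hp hk] at h1
  have h2 := congrFun (congrFun h1 a) b
  rw [subspaceInv_perm, subspaceInv_perm] at h2
  have := Nat.pow_right_injective (Fintype.one_lt_card (α := F)) h2
  simp only [blk_val]
  exact this.symm

theorem avg_parabolic [Fintype (GL (Fin n) F)] (hν : ∑ k, ν k = n) (hμ : ∑ k, μ k = n) :
    (Nat.card (GL (Fin n) F) : ℂ)⁻¹ * ∑ g : GL (Fin n) F,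
        fixedPointCharacter (parabolicGL n F ν) g * fixedPointCharacter (parabolicGL n F μ) g =
      Nat.card (MarginMat ν μ) :=
  avg_fixedPointCharacter_mul _ _ (glInv hν hμ) (glInv_eq_iff hν hμ) (glInv_surjective hν hμ)

end invariant

end Cfsg.Agent.H54
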