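import Mathlib
import Cfsg.Prelude.Def_SteinbergCover

/-!
A checker certifying that the group presented by Steinberg's relations (R1), (R2) is perfect.
-/

set_option autoImplicit false

namespace Cfsg.Agent.H54

open Cfsg.Lie

variable (D : ChevalleyDatum)

/-- One step of the certificate: the root made known by the pair `(r, s)`, if any. -/
def coverStep (allowT : Bool) (known : List ℕ) (r s : ℕ) : Option ℕ :=
  if r < D.nroots ∧ s < D.nroots ∧ s ≠ r ∧ s ≠ D.neg r then
    match (D.commTerms r s).filter (fun c => !(known.contains c.1)) with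
    | [(k, C, _, 1)] => if C = 1 ∨ C = -1 then some k else none
    | [(_, _, 1, 1), (b, C, 2, 1)] => if allowT ∧ (C = 1 ∨ C = -1) then some b else none
    | _ => none
  else none

/-- Runs the certificate, accumulating the known roots. -/
def coverRun (allowT : Bool) : List (ℕ × ℕ) → List ℕ → List ℕ
  | [], known => known
  | (r, s) :: rest, known =>
    match coverStep D allowT known r s with
    | some k => coverRun allowT rest (k :: known)
    | none => coverRun allowT rest known

/-- All roots are reached. -/
def coverOK (allowT : Bool) (steps : List (ℕ × ℕ)) : Bool :=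
  (List.range D.nroots).all (fun k => (coverRun D allowT steps []).contains k)

variable {D} {K : Type*} [Field K]

/-- The image of a generator in the abelianisation, written additively. -/
def abGen (D : ChevalleyDatum) (K : Type*) [Field K] (r : ℕ) (t : K) : Additive (Abelianization (D.SteinbergCover K)) :=
  Additive.ofMul (Abelianization.of (D.scGen K r t))

lemma abGen_add {r : ℕ} (hr : r < D.nroots) (t u : K) : abGen D K r (t + u) = abGen D K r t + abGen D K r u := by
  have h1 : PresentedGroup.mk (D.steinbergRelsAB K) (D.stX r t * D.stX r u * (D.stX r (t + u))⁻¹) = 1 :=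
    PresentedGroup.one_of_mem (Or.inl ⟨r, t, u, hr, rfl⟩)
  rw [map_mul, map_mul, map_inv, mul_inv_eq_one] at h1
  rw [abGen, abGen, abGen, ← ofMul_mul, ← map_mul]
  congr 2
  exact h1.symm

lemma abGen_zero {r : ℕ} (hr : r < D.nroots) : abGen D K r (0 : K) = 0 := by
  have := abGen_add hr (0 : K) 0
  rw [add_zero] at this
  exact left_eq_add.1 this

lemma abGen_out {r : ℕ} (hr : ¬ r < D.nroots) (t : K) : abGen D K r t = 0 := by
  simp [abGen, ChevalleyDatum.scGen, ChevalleyDatum.stX, hr]

lemma abGen_sub (r : ℕ) (t u : K) : abGen D K r (t - u) = abGen D K r t - abGen D K r u := by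
  by_cases hr : r < D.nroots
  · rw [eq_sub_iff_add_eq, ← abGen_add hr, sub_add_cancel]
  · simp [abGen_out hr]

/-- The commutator relation, in the abelianisation. -/
lemma sum_commTerms {r s : ℕ} (h : r < D.nroots ∧ s < D.nroots ∧ s ≠ r ∧ s ≠ D.neg r) (t u : K) :
    ((D.commTerms r s).map fun c => abGen D K c.1 ((c.2.1 : K) * (-t) ^ c.2.2.1 * u ^ c.2.2.2)).sum = 0 := by
  have h1 : PresentedGroup.mk (D.steinbergRelsAB K)
      ((D.stX s u)⁻¹ * (D.stX r t)⁻¹ * D.stX s u * D.stX r t * (D.stWord (D.commWord K r s t u))⁻¹) = 1 :=
    PresentedGroup.one_of_mem (Or.inr ⟨r, s, t, u, h.1, h.2.1, h.2.2.1, h.2.2.2, rfl⟩)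
  have h2 := congrArg (fun x => Additive.ofMul (Abelianization.of x)) h1
  simp only [map_mul, map_inv, map_one, ofMul_mul, ofMul_inv, ofMul_one] at h2
  rw [show ∀ a b w : Additive (Abelianization (D.SteinbergCover K)), -a + -b + a + b + -w = -w from
    fun a b w => by abel, neg_eq_zero] at h2
  rw [← h2]
  have hw : ∀ l : List (ℕ × K), Additive.ofMul (Abelianization.of (PresentedGroup.mk (D.steinbergRelsAB K) (D.stWord l))) =
      (l.map fun p => abGen D K p.1 p.2).sum := by
    intro l
    induction l with
    | nil => simp [ChevalleyDatum.stWord]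
    | cons p l ih =>
      rw [List.map_cons, List.sum_cons, ← ih]
      simp [ChevalleyDatum.stWord, abGen, ChevalleyDatum.scGen]
  rw [hw, ChevalleyDatum.commWord, List.map_map]
  rfl

lemma sum_filter_known (known : List ℕ) (hk : ∀ k ∈ known, ∀ t : K, abGen D K k t = 0)
    (L : List (ℕ × ℤ × ℕ × ℕ)) (g : ℕ × ℤ × ℕ × ℕ → K) :
    (L.map fun c => abGen D K c.1 (g c)).sum =
      ((L.filter (fun c => !(known.contains c.1))).map fun c => abGen D K c.1 (g c)).sum := by
  induction L with
  | nil => rfl
  | cons c L ih =>
    rw [List.map_cons, List.sum_cons, List.filter_cons, ih]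
    by_cases hc : c.1 ∈ known
    · simp [hc, hk _ hc]
    · simp [hc]

lemma coverStep_sound (allowT : Bool) (hT : allowT = true → ∃ x : K, x ≠ 0 ∧ x ≠ 1) (known : List ℕ)
    (hk : ∀ k ∈ known, ∀ t : K, abGen D K k t = 0) (r s k : ℕ) (h : coverStep D allowT known r s = some k) :
    ∀ t : K, abGen D K k t = 0 := by
  unfold coverStep at h
  split_ifs at h with hrs
  · have hsum : ∀ t u : K, (((D.commTerms r s).filter (fun c => !(known.contains c.1))).map
        fun c => abGen D K c.1 ((c.2.1 : K) * (-t) ^ c.2.2.1 * u ^ c.2.2.2)).sum = 0 := fun t u => by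
      rw [← sum_filter_known known hk]; exact sum_commTerms hrs t u
    revert hsum h
    generalize (D.commTerms r s).filter (fun c => !(known.contains c.1)) = U
    intro h hsum
    split at h
    · rename_i k' C i
      split_ifs at h with hC
      cases h
      intro c
      have hC0 : (C : K) * (-1) ^ i ≠ 0 := by
        rcases hC with rfl | rfl <;> simp
      have := hsum 1 (c / ((C : K) * (-1) ^ i))
      simp only [List.map_cons, List.map_nil, List.sum_cons, List.sum_nil, add_zero, pow_one] at this
      rwa [mul_div_cancel₀ _ hC0] at this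
    · rename_i a Ca b C
      split_ifs at h with hC
      cases h
      intro c
      obtain ⟨x, hx0, hx1⟩ := hT hC.1
      have hC0 : (C : K) ≠ 0 := by rcases hC.2 with rfl | rfl <;> simp
      have hd : (C : K) * (x - 1) ≠ 0 := mul_ne_zero hC0 (sub_ne_zero.2 hx1)
      let w := c / ((C : K) * (x - 1))
      have key : ∀ t : K, t ≠ 0 → abGen D K a (-((Ca : K) * w)) + abGen D K k ((C : K) * t * w) = 0 := by
        intro t ht
        have := hsum t (w / t)
        simp only [List.map_cons, List.map_nil, List.sum_cons, List.sum_nil, add_zero, pow_one] at this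
        rw [show (Ca : K) * -t * (w / t) = -((Ca : K) * w) by field_simp,
          show (C : K) * (-t) ^ 2 * (w / t) = (C : K) * t * w by field_simp] at this
        exact this
      have := (key x hx0).trans (key 1 one_ne_zero).symm
      rw [add_left_cancel_iff] at this
      have h2 := abGen_sub (D := D) k ((C : K) * x * w) ((C : K) * 1 * w)
      rw [this, sub_self] at h2
      rw [show c = (C : K) * x * w - (C : K) * 1 * w by
        rw [← sub_mul, ← mul_sub, mul_div_cancel₀ _ hd]]
      exact h2
    · exact absurd h (by simp)

theorem cover_perfect (allowT : Bool) (hT : allowT = true → ∃ x : K, x ≠ 0 ∧ x ≠ 1) (steps : List (ℕ × ℕ))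
    (hok : coverOK D allowT steps = true) : commutator (D.SteinbergCover K) = ⊤ := by
  have hrun : ∀ (steps : List (ℕ × ℕ)) (known : List ℕ), (∀ k ∈ known, ∀ t : K, abGen D K k t = 0) →
      ∀ k ∈ coverRun D allowT steps known, ∀ t : K, abGen D K k t = 0 := by
    intro steps
    induction steps with
    | nil => exact fun known hk => hk
    | cons p rest ih =>
      obtain ⟨r, s⟩ := p
      intro known hk
      rw [coverRun]
      split
      · rename_i k heq
        refine ih _ (fun j hj => ?_)
        rcases List.mem_cons.1 hj with rfl | hj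
        · exact coverStep_sound allowT hT known hk r s _ heq
        · exact hk j hj
      · exact ih known hk
  have hall : ∀ (r : Fin D.nroots) (t : K), Abelianization.of (D.scGen K r.val t) = 1 := by
    intro r t
    have hmem : r.val ∈ coverRun D allowT steps [] := by
      have := List.all_eq_true.1 hok r.val (List.mem_range.2 r.isLt)
      simpa using this
    exact hrun steps [] (fun k hk => absurd hk List.not_mem_nil) r.val hmem t
  have h1 : (Abelianization.of : D.SteinbergCover K →* _) = 1 := by
    refine PresentedGroup.ext (fun ⟨r, t⟩ => ?_)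
    have := hall r t
    simp only [ChevalleyDatum.scGen, ChevalleyDatum.stX, r.isLt, dif_pos] at this
    exact this
  rw [← Abelianization.ker_of, h1, MonoidHom.ker_one]

end Cfsg.Agent.H54
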