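import Cfsg.Agent.H54.BNSteinberg

/-!
The (B,N)-pair of a standard parabolic subgroup.
-/

set_option autoImplicit false
set_option linter.unusedSectionVars false

namespace Cfsg.Agent.H54.BNRes

open Cfsg.Agent.H28 BNC

variable {G : Type*} [Group G] (P : Cfsg.BNPair G) {J : Set G} (hJ : J ⊆ P.S)

theorem subset_parabolic : J ⊆ (P.parabolic J : Set G) := fun _ hx =>
  Subgroup.mem_sup_right (Subgroup.subset_closure hx)

theorem N_le_parabolic : Subgroup.closure J ⊔ (P.B ⊓ P.N) ≤ P.parabolic J :=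
  sup_le le_sup_right (le_trans inf_le_left le_sup_left)

theorem image_gens : (P.parabolic J).subtype '' {x | (x : G) ∈ J} = J := by
  ext x
  exact ⟨fun ⟨y, hy, e⟩ => e ▸ hy, fun hx => ⟨⟨x, subset_parabolic P hx⟩, hx, rfl⟩⟩

/-- The pair of `P_J`. -/
def sub : Cfsg.BNPair ↥(P.parabolic J) where
  B := P.B.subgroupOf (P.parabolic J)
  N := (Subgroup.closure J ⊔ (P.B ⊓ P.N)).subgroupOf (P.parabolic J)
  S := {x | (x : G) ∈ J}
  sup_eq_top := by
    apply Subgroup.map_injective (P.parabolic J).subtype_injective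
    rw [Subgroup.map_sup, Subgroup.map_subgroupOf_eq_of_le B_le_parabolic,
      Subgroup.map_subgroupOf_eq_of_le (N_le_parabolic P), ← MonoidHom.range_eq_map, Subgroup.range_subtype]
    refine le_antisymm (sup_le B_le_parabolic (N_le_parabolic P)) ?_
    exact sup_le le_sup_left (le_sup_of_le_right le_sup_left)
  conj_mem := fun n hn t ht =>
    P.conj_mem n (sup_T_le_N hJ hn) t (Subgroup.mem_inf.2 ⟨ht.1, sup_T_le_N hJ ht.2⟩)
  subset := fun _ hs => Subgroup.mem_sup_left (Subgroup.subset_closure hs)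
  sq_mem := fun s hs => P.sq_mem s (hJ hs)
  inj := fun s hs s' hs' h => Subtype.ext (P.inj s (hJ hs) s' (hJ hs') h)
  closure_sup := by
    apply Subgroup.map_injective (P.parabolic J).subtype_injective
    rw [Subgroup.map_sup, MonoidHom.map_closure, image_gens P,
      Subgroup.map_inf _ _ _ (P.parabolic J).subtype_injective,
      Subgroup.map_subgroupOf_eq_of_le B_le_parabolic, Subgroup.map_subgroupOf_eq_of_le (N_le_parabolic P)]
    exact le_antisymm (sup_le le_sup_left inf_le_right)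
      (sup_le le_sup_left ((le_inf inf_le_left le_sup_right).trans le_sup_right))
  mul_mem_union := by
    intro s hs n hn b hb
    rcases P.mul_mem_union s (hJ hs) n (sup_T_le_N hJ hn) b hb with h | h <;> [left; right] <;>
    · rw [DoubleCoset.mem_doubleCoset] at h ⊢
      obtain ⟨a, ha, c, hc, e⟩ := h
      exact ⟨⟨a, B_le_parabolic ha⟩, ha, ⟨c, B_le_parabolic hc⟩, hc, Subtype.ext e⟩
  conj_ne := by
    intro s hs h
    refine P.conj_ne s (hJ hs) (Set.ext fun x => ⟨?_, fun hx => ?_⟩)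
    · rintro ⟨b, hb, rfl⟩
      have : s * ⟨b, B_le_parabolic hb⟩ * s ∈ ((P.B.subgroupOf (P.parabolic J)) : Set ↥(P.parabolic J)) :=
        h ▸ ⟨_, hb, rfl⟩
      exact this
    · have hx' : (⟨x, B_le_parabolic hx⟩ : ↥(P.parabolic J)) ∈
          ((P.B.subgroupOf (P.parabolic J)) : Set ↥(P.parabolic J)) := hx
      rw [← h] at hx'
      obtain ⟨b, hb, e⟩ := hx'
      exact ⟨b, hb, congrArg Subtype.val e⟩

theorem sub_B : (sub P hJ).B = P.B.subgroupOf (P.parabolic J) := rfl

theorem mem_sub_N {x : ↥(P.parabolic J)} (hx : x ∈ (sub P hJ).N) : (x : G) ∈ P.N := sup_T_le_N hJ hx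

theorem parabolic_le {K : Set G} (hK : K ⊆ J) : P.parabolic K ≤ P.parabolic J :=
  sup_le_sup_left (Subgroup.closure_mono hK) _

theorem sub_parabolic (K : Set ↥(P.parabolic J)) :
    (sub P hJ).parabolic K = (P.parabolic (Subtype.val '' K)).subgroupOf (P.parabolic J) := by
  have hle : P.parabolic (Subtype.val '' K) ≤ P.parabolic J :=
    sup_le B_le_parabolic ((Subgroup.closure_le _).2 fun _ ⟨y, _, e⟩ => e ▸ y.2)
  apply Subgroup.map_injective (P.parabolic J).subtype_injective
  rw [Subgroup.map_subgroupOf_eq_of_le hle]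
  show Subgroup.map (P.parabolic J).subtype ((sub P hJ).B ⊔ Subgroup.closure K) =
    P.B ⊔ Subgroup.closure (Subtype.val '' K)
  rw [Subgroup.map_sup, MonoidHom.map_closure, sub_B, Subgroup.map_subgroupOf_eq_of_le B_le_parabolic]
  rfl

/-- The relation of the Steinberg sum of `P_J` to the parabolic subgroups below it. -/
theorem st_sub [Finite G] {J : Finset G} (hJ : (J : Set G) ⊆ P.S) (x : ↥(P.parabolic (J : Set G))) :
    BNSt.st (sub P hJ) x = ∑ K ∈ J.powerset, (-1 : ℂ) ^ K.card *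
      fixedPointCharacter ((P.parabolic (K : Set G)).subgroupOf (P.parabolic (J : Set G))) x := by
  classical
  unfold BNSt.st
  have hmem : ∀ y : ↥(P.parabolic (J : Set G)), y ∈ BNSt.gens (sub P hJ) ↔ (y : G) ∈ J := fun y =>
    BNSt.mem_gens (sub P hJ)
  refine Finset.sum_bij' (fun K _ => K.image Subtype.val)
    (fun K _ => (BNSt.gens (sub P hJ)).filter fun y => (y : G) ∈ K) (fun K hK => ?_) (fun K hK => ?_)
    (fun K hK => ?_) (fun K hK => ?_) (fun K hK => ?_)
  · rw [Finset.mem_powerset] at hK ⊢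
    intro y hy
    obtain ⟨z, hz, rfl⟩ := Finset.mem_image.1 hy
    exact (hmem z).1 (hK hz)
  · exact Finset.mem_powerset.2 (Finset.filter_subset _ _)
  · rw [Finset.mem_powerset] at hK
    ext y
    rw [Finset.mem_filter, Finset.mem_image]
    exact ⟨fun ⟨_, z, hz, e⟩ => by rwa [← Subtype.ext e], fun hy => ⟨hK hy, y, hy, rfl⟩⟩
  · rw [Finset.mem_powerset] at hK
    ext y
    rw [Finset.mem_image]
    refine ⟨fun ⟨z, hz, e⟩ => e ▸ (Finset.mem_filter.1 hz).2, fun hy => ?_⟩
    exact ⟨⟨y, subset_parabolic P (hK hy)⟩, Finset.mem_filter.2 ⟨(hmem _).2 (hK hy), hy⟩, rfl⟩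
  · rw [Finset.card_image_of_injective _ Subtype.val_injective, sub_parabolic, Finset.coe_image]

end Cfsg.Agent.H54.BNRes
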