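import Cfsg.Agent.H54.BNRestrict

/-!
Steinberg's count of the elements of `p`-power order: inclusion–exclusion over the standard parabolic subgroups.
-/

set_option autoImplicit false
set_option linter.unusedSectionVars false
set_option linter.style.haveILetI false

open scoped Classical

namespace Cfsg.Agent.H54.BNCount

open Cfsg.Agent.H28 BNC MulAction

universe u

variable {G : Type u} [Group G] [Finite G] {p : ℕ}

/-- The number of elements of `p`-power order of a subgroup. -/
noncomputable def unip (p : ℕ) (H : Subgroup G) : ℕ :=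
  Nat.card {x : G // x ∈ H ∧ ∃ k : ℕ, orderOf x = p ^ k}

theorem unip_subgroupOf {H L : Subgroup G} (hHL : H ≤ L) : unip p (H.subgroupOf L) = unip p H := by
  refine Nat.card_congr
    { toFun := fun x => ⟨(x.1 : G), x.2.1, by rw [Subgroup.orderOf_coe]; exact x.2.2⟩
      invFun := fun x => ⟨⟨x.1, hHL x.2.1⟩, x.2.1, by rw [← Subgroup.orderOf_coe]; exact x.2.2⟩
      left_inv := fun x => rfl
      right_inv := fun x => rfl }

theorem sum_fixed [Fintype G] (H : Subgroup G) :
    ∑ g ∈ Finset.univ.filter (fun g : G => ∃ k : ℕ, orderOf g = p ^ k), fixedPointCharacter H g =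
      (H.index : ℂ) * unip p H := by
  haveI : Fintype (G ⧸ H) := Fintype.ofFinite _
  have h1 : ∀ g : G, fixedPointCharacter H g = ∑ c : G ⧸ H, if g • c = c then (1 : ℂ) else 0 := fun g => by
    rw [fixedPointCharacter, Nat.card_eq_fintype_card, Fintype.card_subtype, Finset.natCast_card_filter]
    rfl
  simp only [h1]
  rw [Finset.sum_comm]
  have h2 : ∀ c : G ⧸ H, ∑ g ∈ Finset.univ.filter (fun g : G => ∃ k : ℕ, orderOf g = p ^ k),
      (if g • c = c then (1 : ℂ) else 0) = unip p H := by
    intro c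
    induction c using QuotientGroup.induction_on with
    | H x =>
      rw [Finset.sum_boole, Finset.filter_filter, ← Fintype.card_subtype, ← Nat.card_eq_fintype_card]
      congr 1
      refine Nat.card_congr ((MulAut.conj x⁻¹).toEquiv.subtypeEquiv fun g => ?_)
      rw [MulAction.Quotient.smul_coe, smul_eq_mul, QuotientGroup.eq]
      show _ ↔ x⁻¹ * g * x⁻¹⁻¹ ∈ H ∧ _
      rw [show orderOf ((MulAut.conj x⁻¹).toEquiv g) = orderOf g from (MulAut.conj x⁻¹).orderOf_eq g,
        and_comm, show (g * x)⁻¹ * x = (x⁻¹ * g * x⁻¹⁻¹)⁻¹ by group, inv_mem_iff]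
  rw [Finset.sum_congr rfl fun c _ => h2 c, Finset.sum_const, Finset.card_univ, nsmul_eq_mul,
    Subgroup.index, Nat.card_eq_fintype_card]

theorem sum_fixed_sub {H L : Subgroup G} (hHL : H ≤ L) [Fintype L] :
    ∑ g ∈ Finset.univ.filter (fun g : L => ∃ k : ℕ, orderOf g = p ^ k), fixedPointCharacter (H.subgroupOf L) g =
      (H.relIndex L : ℂ) * unip p H := by
  rw [sum_fixed, unip_subgroupOf hHL]
  rfl

theorem fixed_one (H : Subgroup G) : fixedPointCharacter H 1 = (H.index : ℂ) := by
  rw [fixedPointCharacter, fixedBy_one_eq_univ, Nat.card_coe_set_eq, Set.ncard_univ]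
  rfl

variable (P : Cfsg.BNPair G)

/-- The relative index. -/
noncomputable def idx (J K : Finset G) : ℂ := ((P.parabolic (K : Set G)).relIndex (P.parabolic (J : Set G)) : ℂ)

/-- The degree of the Steinberg character of `P_J`. -/
noncomputable def deg (J : Finset G) : ℂ := ∑ K ∈ J.powerset, (-1 : ℂ) ^ K.card * idx P J K

theorem idx_self (J : Finset G) : idx P J J = 1 := by rw [idx, Subgroup.relIndex_self, Nat.cast_one]

theorem idx_mul {J K L : Finset G} (hKJ : K ⊆ J) (hLK : L ⊆ K) : idx P K L * idx P J K = idx P J L := by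
  rw [idx, idx, idx, ← Nat.cast_mul, Subgroup.relIndex_mul_relIndex _ _ _
    (BNRes.parabolic_le P (Finset.coe_subset.2 hLK)) (BNRes.parabolic_le P (Finset.coe_subset.2 hKJ))]

theorem alt_interval {J L : Finset G} (hL : L ⊆ J) :
    ∑ K ∈ J.powerset with L ⊆ K, (-1 : ℂ) ^ K.card = if L = J then (-1 : ℂ) ^ J.card else 0 := by
  have h : ∑ K ∈ J.powerset with L ⊆ K, (-1 : ℂ) ^ K.card =
      ∑ M ∈ (J \ L).powerset, (-1 : ℂ) ^ L.card * (-1 : ℂ) ^ M.card := by
    refine Finset.sum_nbij' (fun K => K \ L) (fun M => L ∪ M) (fun K hK => ?_) (fun M hM => ?_)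
      (fun K hK => ?_) (fun M hM => ?_) (fun K hK => ?_)
    · rw [Finset.mem_filter, Finset.mem_powerset] at hK
      exact Finset.mem_powerset.2 (Finset.sdiff_subset_sdiff hK.1 le_rfl)
    · rw [Finset.mem_powerset] at hM
      exact Finset.mem_filter.2 ⟨Finset.mem_powerset.2 (Finset.union_subset hL (hM.trans Finset.sdiff_subset)),
        Finset.subset_union_left⟩
    · rw [Finset.mem_filter] at hK
      exact Finset.union_sdiff_of_subset hK.2
    · rw [Finset.mem_powerset] at hM
      exact Finset.union_sdiff_cancel_left (Finset.disjoint_of_subset_right hM Finset.disjoint_sdiff)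
    · rw [Finset.mem_filter] at hK
      rw [← pow_add, add_comm, Finset.card_sdiff_add_card_eq_card hK.2]
  have h2 : (∑ M ∈ (J \ L).powerset, (-1 : ℂ) ^ M.card) = if J \ L = ∅ then 1 else 0 := by
    have := congrArg (fun z : ℤ => (z : ℂ)) (Finset.sum_powerset_neg_one_pow_card (x := J \ L))
    simpa using this
  rw [h, ← Finset.mul_sum, h2]
  by_cases e : L = J
  · rw [if_pos e, if_pos (by rw [e, Finset.sdiff_self]), mul_one, e]
  · rw [if_neg e, if_neg (fun h0 => e (Finset.Subset.antisymm hL (Finset.sdiff_eq_empty_iff_subset.1 h0))),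
      mul_zero]

theorem sum_idx_deg (J : Finset G) : ∑ K ∈ J.powerset, (-1 : ℂ) ^ K.card * (idx P J K * deg P K) = 1 := by
  calc ∑ K ∈ J.powerset, (-1 : ℂ) ^ K.card * (idx P J K * deg P K)
      = ∑ K ∈ J.powerset, ∑ L ∈ J.powerset,
          if L ⊆ K then (-1 : ℂ) ^ K.card * ((-1 : ℂ) ^ L.card * idx P J L) else 0 := by
        refine Finset.sum_congr rfl fun K hK => ?_
        rw [Finset.mem_powerset] at hK
        rw [← Finset.sum_filter,
          show J.powerset.filter (fun L => L ⊆ K) = K.powerset from Finset.ext fun L => by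
            simp only [Finset.mem_filter, Finset.mem_powerset]
            exact ⟨And.right, fun h => ⟨h.trans hK, h⟩⟩,
          deg, Finset.mul_sum, Finset.mul_sum]
        refine Finset.sum_congr rfl fun L hL => ?_
        rw [← idx_mul P hK (Finset.mem_powerset.1 hL)]
        ring
    _ = ∑ L ∈ J.powerset, (∑ K ∈ J.powerset with L ⊆ K, (-1 : ℂ) ^ K.card) * ((-1 : ℂ) ^ L.card * idx P J L) := by
        rw [Finset.sum_comm]
        refine Finset.sum_congr rfl fun L _ => ?_
        rw [Finset.sum_mul, Finset.sum_filter]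
    _ = ∑ L ∈ J.powerset, (if L = J then (-1 : ℂ) ^ J.card else 0) * ((-1 : ℂ) ^ L.card * idx P J L) :=
        Finset.sum_congr rfl fun L hL => by rw [alt_interval (Finset.mem_powerset.1 hL)]
    _ = 1 := by
        rw [Finset.sum_eq_single J (fun L _ h => by rw [if_neg h, zero_mul])
          (fun h => absurd (Finset.mem_powerset_self J) h), if_pos rfl, idx_self, mul_one, ← mul_pow,
          neg_mul_neg, one_mul, one_pow]

theorem st_sub_one {J : Finset G} (hJ : (J : Set G) ⊆ P.S) : BNSt.st (BNRes.sub P hJ) 1 = deg P J := by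
  rw [BNRes.st_sub P hJ, deg]
  refine Finset.sum_congr rfl fun K _ => ?_
  rw [fixed_one]
  rfl

theorem parabolic_gens : P.parabolic ((BNSt.gens P : Finset G) : Set G) = ⊤ := by
  rw [show ((BNSt.gens P : Finset G) : Set G) = P.S from Set.Finite.coe_toFinset _]
  exact parabolic_S

theorem deg_gens : deg P (BNSt.gens P) = BNSt.st P 1 := by
  rw [deg, BNSt.st]
  refine Finset.sum_congr rfl fun K _ => ?_
  rw [fixed_one, idx, parabolic_gens, Subgroup.relIndex_top_right]

/-- What is needed at each parabolic subgroup. -/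
structure Local (U : Subgroup G) (J : Finset G) (hJ : (J : Set G) ⊆ P.S) (R : Subgroup G) : Prop where
  le : R ≤ U
  norm : ∀ x ∈ P.parabolic (J : Set G), ∀ u ∈ R, x * u * x⁻¹ ∈ R
  out : ∀ u : ↥(P.parabolic (J : Set G)), (u : G) ∈ U → (u : G) ∉ R → BNSt.st (BNRes.sub P hJ) u = 0
  inside : ∀ u : ↥(P.parabolic (J : Set G)), (u : G) ∈ R → BNSt.st (BNRes.sub P hJ) u = deg P J
  degree : deg P J * (Nat.card R : ℂ) = (Nat.card U : ℂ)

variable [hp : Fact p.Prime]

theorem step {U : Subgroup G} (hU : IsPGroup p U) (hUB : U ≤ P.B) (hUi : ¬ p ∣ U.index) {J : Finset G}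
    {hJ : (J : Set G) ⊆ P.S} {R : Subgroup G} (h : Local P U J hJ R) :
    ∑ K ∈ J.powerset, (-1 : ℂ) ^ K.card * (idx P J K * (unip p (P.parabolic (K : Set G)) : ℂ)) =
      (Nat.card U : ℂ) := by
  set L := P.parabolic (J : Set G) with hL
  letI : Fintype L := Fintype.ofFinite _
  have hUL : U ≤ L := hUB.trans B_le_parabolic
  set Un := Finset.univ.filter (fun g : L => ∃ k : ℕ, orderOf g = p ^ k) with hUn
  have h1 : ∑ g ∈ Un, BNSt.st (BNRes.sub P hJ) g =
      ∑ K ∈ J.powerset, (-1 : ℂ) ^ K.card * (idx P J K * (unip p (P.parabolic (K : Set G)) : ℂ)) := by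
    rw [Finset.sum_congr rfl fun g _ => BNRes.st_sub P hJ g, Finset.sum_comm]
    refine Finset.sum_congr rfl fun K hK => ?_
    rw [← Finset.mul_sum, sum_fixed_sub (BNRes.parabolic_le P (Finset.coe_subset.2 (Finset.mem_powerset.1 hK)))]
    rfl
  let S : Sylow p L := IsPGroup.toSylow (hU.of_equiv (Subgroup.subgroupOfEquivOfLe hUL).symm)
    fun hd => hUi (hd.trans ⟨L.index, (Subgroup.relIndex_mul_index hUL).symm⟩)
  have hS : ∀ g : L, g ∈ (S : Subgroup L) ↔ (g : G) ∈ U := fun g => Iff.rfl
  have hzero : ∀ g ∈ Un, (g : G) ∉ R → BNSt.st (BNRes.sub P hJ) g = 0 := by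
    intro g hg hgR
    obtain ⟨k, hk⟩ := (Finset.mem_filter.1 hg).2
    have hz : IsPGroup p (Subgroup.zpowers g) := IsPGroup.of_card (n := k) (by rw [Nat.card_zpowers, hk])
    obtain ⟨T, hT⟩ := hz.exists_le_sylow
    obtain ⟨x, hx⟩ := MulAction.exists_smul_eq L T S
    have hxg : x * g * x⁻¹ ∈ (S : Subgroup L) := by
      rw [← hx, Sylow.coe_subgroup_smul]
      exact ⟨g, hT (Subgroup.mem_zpowers g), rfl⟩
    rw [← BNSt.st_conj (BNRes.sub P hJ) g x]
    refine h.out _ ((hS _).1 hxg) fun hmem => hgR ?_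
    have := h.norm _ (inv_mem x.2) _ hmem
    simpa [mul_assoc] using this
  rw [← h1, ← Finset.sum_filter_add_sum_filter_not Un (fun g : L => (g : G) ∈ R),
    Finset.sum_eq_zero (s := Un.filter fun g : L => ¬ (g : G) ∈ R) (fun g hg =>
      hzero g (Finset.mem_filter.1 hg).1 (Finset.mem_filter.1 hg).2), add_zero,
    Finset.sum_congr rfl fun g hg => h.inside g (Finset.mem_filter.1 hg).2, Finset.sum_const, nsmul_eq_mul,
    ← h.degree, mul_comm]
  congr 2
  have e : Un.filter (fun g : L => (g : G) ∈ R) = Finset.univ.filter (fun g : L => (g : G) ∈ R) := by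
    ext g
    simp only [hUn, Finset.mem_filter, Finset.mem_univ, true_and, and_iff_right_iff_imp]
    intro hg
    obtain ⟨k, hk⟩ := IsPGroup.iff_orderOf.1 hU ⟨g, h.le hg⟩
    exact ⟨k, ((Subgroup.orderOf_coe g).symm.trans (Subgroup.orderOf_coe (⟨(g : G), h.le hg⟩ : ↥U))).trans hk⟩
  rw [e, ← Fintype.card_subtype, ← Nat.card_eq_fintype_card]
  exact Nat.card_congr (Subgroup.subgroupOfEquivOfLe (h.le.trans hUL)).toEquiv

/-- Steinberg's count. -/
theorem count {U : Subgroup G} (hU : IsPGroup p U) (hUB : U ≤ P.B) (hUi : ¬ p ∣ U.index)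
    (h : ∀ J : Finset G, ∀ hJ : (J : Set G) ⊆ P.S, ∃ R, Local P U J hJ R) :
    (Nat.card {g : G // ∃ k : ℕ, orderOf g = p ^ k} : ℂ) = BNSt.st P 1 * (Nat.card U : ℂ) := by
  have key : ∀ J : Finset G, (J : Set G) ⊆ P.S →
      (unip p (P.parabolic (J : Set G)) : ℂ) = deg P J * (Nat.card U : ℂ) := by
    intro J
    induction J using Finset.strongInduction with
    | _ J ih =>
      intro hJ
      obtain ⟨R, hR⟩ := h J hJ
      have h1 := step P hU hUB hUi hR
      have h2 := congrArg (· * (Nat.card U : ℂ)) (sum_idx_deg P J)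
      simp only [one_mul, Finset.sum_mul] at h2
      rw [← Finset.add_sum_erase _ _ (Finset.mem_powerset_self J)] at h1
      rw [← Finset.add_sum_erase _ _ (Finset.mem_powerset_self J)] at h2
      have h3 : ∀ K ∈ J.powerset.erase J, (-1 : ℂ) ^ K.card * (idx P J K * (unip p (P.parabolic (K : Set G)) : ℂ)) =
          (-1 : ℂ) ^ K.card * (idx P J K * deg P K) * (Nat.card U : ℂ) := by
        intro K hK
        obtain ⟨hne, hsub⟩ := Finset.mem_erase.1 hK
        rw [Finset.mem_powerset] at hsub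
        rw [ih K (Finset.ssubset_iff_subset_ne.2 ⟨hsub, hne⟩) ((Finset.coe_subset.2 hsub).trans hJ)]
        ring
      rw [Finset.sum_congr rfl h3] at h1
      have h4 := h1.trans h2.symm
      rw [add_left_inj, idx_self, one_mul, one_mul, mul_assoc] at h4
      exact mul_left_cancel₀ (pow_ne_zero _ (by norm_num)) h4
  have h0 := key (BNSt.gens P) (fun s hs => (BNSt.mem_gens P).1 hs)
  rw [parabolic_gens, deg_gens] at h0
  rw [← h0]
  congr 1
  exact Nat.card_congr ((Equiv.refl G).subtypeEquiv fun g => by simp [Subgroup.mem_top])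

end Cfsg.Agent.H54.BNCount
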