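import Mathlib
import Cfsg.Agent.H54.OrbitCount

/-!
Orthonormality of the alternating sums of margin-matrix counts, from the Cauchy determinant.
-/

set_option autoImplicit false

namespace Cfsg.Agent.H54

open Finset Matrix

section det

variable {R : Type*} [CommRing R] {n : ℕ}

/-- The determinant with entries `∏_{k ≠ j} (1 - x i * y k)` is the product of the two Vandermonde determinants. -/
theorem det_cauchy (x y : Fin n → R) :
    (Matrix.of fun i j => ∏ k ∈ univ.erase j, (1 - x i * y k)).det =
      (vandermonde x).det * (vandermonde y).det := by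
  classical
  let F : Polynomial R := ∏ k : Fin n, (1 - Polynomial.X * Polynomial.C (y k))
  let P : Fin n → Polynomial R := fun j => ∏ k ∈ univ.erase j, (1 - Polynomial.X * Polynomial.C (y k))
  have hFP : ∀ j, F = P j * (1 - Polynomial.X * Polynomial.C (y j)) := fun j =>
    (Finset.prod_erase_mul univ _ (mem_univ j)).symm
  have hF0 : F.coeff 0 = 1 := by
    rw [Polynomial.coeff_zero_eq_eval_zero, Polynomial.eval_prod]; simp
  have hrec : ∀ j l, (P j).coeff (l + 1) = F.coeff (l + 1) + (P j).coeff l * y j := by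
    intro j l
    rw [hFP j, mul_sub, mul_one, ← mul_assoc, Polynomial.coeff_sub, Polynomial.coeff_mul_C,
      Polynomial.coeff_mul_X]
    ring
  have hco : ∀ j l, (P j).coeff l = ∑ t ∈ range (l + 1), F.coeff (l - t) * y j ^ t := by
    intro j l
    induction l with
    | zero =>
      have : (P j).coeff 0 = 1 := by rw [Polynomial.coeff_zero_eq_eval_zero, Polynomial.eval_prod]; simp
      simp [this, hF0]
    | succ l ih =>
      rw [hrec, ih, sum_range_succ' _ (l + 1), sum_mul]
      simp only [Nat.succ_sub_succ, pow_succ, mul_assoc, Nat.sub_zero, pow_zero, mul_one]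
      ring
  have hdeg : ∀ j, (P j).natDegree < n := by
    intro j
    have h1 : (P j).natDegree ≤ ∑ k ∈ univ.erase j, 1 := by
      refine le_trans (Polynomial.natDegree_prod_le _ _) (sum_le_sum fun k _ => ?_)
      refine le_trans (Polynomial.natDegree_sub_le _ _) (max_le (by simp) ?_)
      exact le_trans Polynomial.natDegree_mul_le (le_trans (add_le_add Polynomial.natDegree_X_le
        (Polynomial.natDegree_C _).le) le_rfl)
    rw [sum_const, card_erase_of_mem (mem_univ j), card_univ, Fintype.card_fin, smul_eq_mul, mul_one] at h1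
    have := j.isLt
    omega
  let T : Matrix (Fin n) (Fin n) R := Matrix.of fun l t => if t ≤ l then F.coeff (l.val - t.val) else 0
  let C : Matrix (Fin n) (Fin n) R := Matrix.of fun l j => (P j).coeff l.val
  have hC : C = T * (vandermonde y)ᵀ := by
    ext l j
    show (P j).coeff l.val = ∑ t, T l t * y j ^ t.val
    rw [hco]
    have h2 : ∑ t : Fin n, T l t * y j ^ t.val =
        ∑ t ∈ range n, (if t ≤ l.val then F.coeff (l.val - t) else 0) * y j ^ t :=
      Fin.sum_univ_eq_sum_range (fun t => (if t ≤ l.val then F.coeff (l.val - t) else 0) * y j ^ t) n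
    rw [h2]
    simp only [ite_mul, zero_mul]
    rw [← sum_filter]
    refine sum_congr ?_ (fun _ _ => rfl)
    ext t
    simp only [mem_range, mem_filter]
    have := l.isLt
    omega
  have hT : T.det = 1 := by
    rw [Matrix.det_of_isLowerTriangular (M := T) (fun a b (h : a < b) => if_neg (not_le.2 h))]
    refine prod_eq_one (fun i _ => ?_)
    show (if i ≤ i then F.coeff (i.val - i.val) else 0) = 1
    rw [if_pos le_rfl, Nat.sub_self, hF0]
  have hM : (Matrix.of fun i j => ∏ k ∈ univ.erase j, (1 - x i * y k)) = vandermonde x * C := by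
    ext i j
    show ∏ k ∈ univ.erase j, (1 - x i * y k) = ∑ l : Fin n, x i ^ l.val * (P j).coeff l.val
    rw [show ∏ k ∈ univ.erase j, (1 - x i * y k) = (P j).eval (x i) by
      rw [Polynomial.eval_prod]; exact prod_congr rfl (fun k _ => by rw [Polynomial.eval_sub, Polynomial.eval_one, Polynomial.eval_mul, Polynomial.eval_X, Polynomial.eval_C]),
      Polynomial.eval_eq_sum_range' (hdeg j), ← Fin.sum_univ_eq_sum_range]
    exact sum_congr rfl (fun l _ => mul_comm _ _)
  rw [hM, det_mul, hC, det_mul, hT, one_mul, det_transpose]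

end det

section series

open MvPowerSeries

variable {n : ℕ}

/-- The exponent vector of the monomial given by two exponent functions. -/
noncomputable def expVec (a b : Fin n → ℕ) : Fin n ⊕ Fin n →₀ ℕ :=
  Finsupp.equivFunOnFinite.symm (Sum.elim a b)

@[simp] lemma expVec_inl (a b : Fin n → ℕ) (i : Fin n) : expVec a b (.inl i) = a i := rfl
@[simp] lemma expVec_inr (a b : Fin n → ℕ) (i : Fin n) : expVec a b (.inr i) = b i := rfl

/-- The exponent vector of `(x i * y j) ^ k`. -/
noncomputable def pairExp (i j : Fin n) (k : ℕ) : Fin n ⊕ Fin n →₀ ℕ :=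
  Finsupp.single (.inl i) k + Finsupp.single (.inr j) k

lemma pairExp_inl (i j : Fin n) (k : ℕ) (a : Fin n) : pairExp i j k (.inl a) = if i = a then k else 0 := by
  classical simp [pairExp, Finsupp.single_apply]

lemma pairExp_inr (i j : Fin n) (k : ℕ) (a : Fin n) : pairExp i j k (.inr a) = if j = a then k else 0 := by
  classical simp [pairExp, Finsupp.single_apply]

/-- The geometric series `1 / (1 - x i * y j)`. -/
noncomputable def geom (i j : Fin n) : MvPowerSeries (Fin n ⊕ Fin n) ℤ :=
  fun d => if d = pairExp i j (d (.inl i)) then 1 else 0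

lemma coeff_geom (i j : Fin n) (d : Fin n ⊕ Fin n →₀ ℕ) :
    coeff d (geom i j) = if d = pairExp i j (d (.inl i)) then 1 else 0 := rfl

lemma geom_mul_one_sub (i j : Fin n) :
    geom i j * (1 - X (.inl i) * X (.inr j)) = 1 := by
  classical
  ext d
  rw [mul_sub, mul_one, map_sub, X, X, monomial_mul_monomial, mul_one, coeff_mul_monomial, coeff_one,
    coeff_geom, mul_one]
  have hle : (Finsupp.single (Sum.inl i) 1 + Finsupp.single (Sum.inr j) 1 : Fin n ⊕ Fin n →₀ ℕ) = pairExp i j 1 := rfl
  rw [hle]
  by_cases hd : d = 0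
  · subst hd
    rw [if_pos (by simp [pairExp]), if_neg, if_pos rfl, sub_zero]
    intro h
    have := h (.inl i)
    rw [pairExp_inl] at this
    simp at this
  rw [if_neg hd]
  by_cases h1 : d = pairExp i j (d (.inl i))
  · have hk : 1 ≤ d (.inl i) := by
      by_contra hc
      apply hd
      rw [h1, Nat.lt_one_iff.1 (not_le.1 hc)]
      simp [pairExp]
    have hle1 : pairExp i j 1 ≤ d := by
      rw [h1]
      intro s
      rcases s with a | a <;> simp only [pairExp_inl, pairExp_inr] <;> split_ifs <;> omega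
    rw [if_pos h1, if_pos hle1, coeff_geom, if_pos, sub_self]
    ext s
    have hs := DFunLike.congr_fun h1 s
    rcases s with a | a <;>
      simp only [Finsupp.tsub_apply, pairExp_inl, pairExp_inr, if_true] at hs ⊢ <;>
      split_ifs at hs ⊢ <;> omega
  · rw [if_neg h1]
    split_ifs with hle1
    · rw [coeff_geom, if_neg, sub_zero]
      intro h
      apply h1
      ext s
      have hs := DFunLike.congr_fun h s
      have hl := hle1 s
      have hl' := hle1 (.inl i)
      rcases s with a | a <;>
        simp only [Finsupp.tsub_apply, pairExp_inl, pairExp_inr, if_true] at hs hl hl' ⊢ <;>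
        split_ifs at hs hl ⊢ <;> omega
    · simp

/-- Exponents indexed by a family of pairs, with given margins. -/
abbrev PairFam {ι : Type*} [Fintype ι] (f g : ι → Fin n) (a b : Fin n → ℕ) : Type _ :=
  {N : ι → ℕ // (∀ i, ∑ e ∈ univ.filter (fun e => f e = i), N e = a i) ∧
    ∀ j, ∑ e ∈ univ.filter (fun e => g e = j), N e = b j}

lemma coeff_prod_geom {ι : Type*} [Fintype ι] (f g : ι → Fin n) (a b : Fin n → ℕ) :
    coeff (expVec a b) (∏ e : ι, geom (f e) (g e)) = Nat.card (PairFam f g a b) := by
  classical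
  rw [coeff_prod]
  let good : (ι →₀ (Fin n ⊕ Fin n →₀ ℕ)) → Prop := fun l => ∀ e, l e = pairExp (f e) (g e) (l e (.inl (f e)))
  have h1 : ∀ l : ι →₀ (Fin n ⊕ Fin n →₀ ℕ), (∏ e : ι, coeff (l e) (geom (f e) (g e))) = if good l then 1 else 0 := by
    intro l
    simp only [coeff_geom]
    rw [Finset.prod_boole]
    simp [good]
  rw [sum_congr rfl (fun l _ => h1 l), sum_boole]
  congr 1
  rw [← Nat.card_eq_finsetCard]
  refine Nat.card_congr
    { toFun := fun l => ⟨fun e => l.1 e (.inl (f e)), ?_, ?_⟩
      invFun := fun N => ⟨Finsupp.equivFunOnFinite.symm (fun e => pairExp (f e) (g e) (N.1 e)), ?_⟩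
      left_inv := ?_
      right_inv := ?_ }
  · intro i
    obtain ⟨hm, hl⟩ := mem_filter.1 l.2
    have h2 := DFunLike.congr_fun (mem_finsuppAntidiag.1 hm).1 (Sum.inl i)
    rw [Finsupp.finsetSum_apply, expVec_inl] at h2
    rw [← h2, sum_filter]
    refine sum_congr rfl (fun e _ => ?_)
    conv_rhs => rw [hl e, pairExp_inl]
  · intro j
    obtain ⟨hm, hl⟩ := mem_filter.1 l.2
    have h2 := DFunLike.congr_fun (mem_finsuppAntidiag.1 hm).1 (Sum.inr j)
    rw [Finsupp.finsetSum_apply, expVec_inr] at h2
    rw [← h2, sum_filter]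
    refine sum_congr rfl (fun e _ => ?_)
    conv_rhs => rw [hl e, pairExp_inr]
  · refine mem_filter.2 ⟨mem_finsuppAntidiag.2 ⟨?_, by simp⟩, fun e => ?_⟩
    · ext s
      rcases s with i | j
      · simp only [Finsupp.finsetSum_apply, Finsupp.equivFunOnFinite_symm_apply_apply, pairExp_inl, expVec_inl]
        rw [← sum_filter]; exact N.2.1 i
      · simp only [Finsupp.finsetSum_apply, Finsupp.equivFunOnFinite_symm_apply_apply, pairExp_inr, expVec_inr]
        rw [← sum_filter]; exact N.2.2 j
    · simp [pairExp_inl]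
  · intro l
    obtain ⟨hm, hl⟩ := mem_filter.1 l.2
    apply Subtype.ext
    ext e : 1
    exact (hl e).symm
  · intro N
    apply Subtype.ext
    funext e
    simp [pairExp_inl]

lemma coeff_prod_geom_all (a b : Fin n → ℕ) :
    coeff (expVec a b) (∏ e : Fin n × Fin n, geom e.1 e.2) = Nat.card (MarginMat a b) := by
  classical
  rw [coeff_prod_geom]
  congr 1
  refine Nat.card_congr ((Equiv.curry (Fin n) (Fin n) ℕ).subtypeEquiv (fun N => ?_))
  refine and_congr (forall_congr' fun i => ?_) (forall_congr' fun j => ?_)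
  · rw [sum_filter, Fintype.sum_prod_type, sum_eq_single i (fun x _ hx => by simp [hx]) (by simp)]
    simp [Function.curry]
  · rw [sum_filter, Fintype.sum_prod_type]
    simp [Function.curry]

lemma det_vandermonde_expand {R : Type*} [CommRing R] (x : Fin n → R) :
    (vandermonde x).det = ∑ κ : Equiv.Perm (Fin n), ((Equiv.Perm.sign κ : ℤ) : R) * ∏ i, x i ^ (κ i).val := by
  rw [← det_transpose, det_apply']
  exact sum_congr rfl (fun κ _ => rfl)

/-- Orthonormality: the doubly alternating sum of margin-matrix counts is a Kronecker delta. -/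
theorem alt_marginMat_eq (lam lam' : Fin n → ℕ) (hl : StrictMono lam) (hl' : StrictMono lam') :
    (∑ κ : Equiv.Perm (Fin n), ∑ κ' : Equiv.Perm (Fin n),
      if (∀ i, (κ i).val ≤ lam i) ∧ (∀ i, (κ' i).val ≤ lam' i) then
        (Equiv.Perm.sign κ : ℤ) * (Equiv.Perm.sign κ' : ℤ) *
          (Nat.card (MarginMat (fun i => lam i - (κ i).val) (fun i => lam' i - (κ' i).val)) : ℤ)
      else 0) = if lam = lam' then 1 else 0 := by
  classical
  let x : Fin n → MvPowerSeries (Fin n ⊕ Fin n) ℤ := fun i => X (.inl i)
  let y : Fin n → MvPowerSeries (Fin n ⊕ Fin n) ℤ := fun i => X (.inr i)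
  let P : MvPowerSeries (Fin n ⊕ Fin n) ℤ := ∏ e : Fin n × Fin n, geom e.1 e.2
  have hid : (Matrix.of fun i j => geom i j).det = (vandermonde x).det * (vandermonde y).det * P := by
    rw [← det_cauchy x y]
    have hP : P = ∏ i, ∏ k, geom i k := Fintype.prod_prod_type _
    have hrow := Matrix.det_mul_column (fun i => ∏ k, geom i k)
      (Matrix.of fun i j => ∏ k ∈ univ.erase j, (1 - x i * y k))
    rw [hP, mul_comm, ← hrow]
    congr 1
    refine Matrix.ext fun i j => ?_
    show geom i j = (∏ k, geom i k) * ∏ k ∈ univ.erase j, (1 - x i * y k)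
    rw [← mul_prod_erase univ _ (mem_univ j), mul_assoc, ← prod_mul_distrib,
      prod_eq_one (fun k _ => geom_mul_one_sub i k), mul_one]
  have h := congrArg (coeff (expVec lam lam')) hid
  rw [det_vandermonde_expand, det_vandermonde_expand, sum_mul_sum, sum_mul, map_sum] at h
  simp only [sum_mul, map_sum] at h
  have hmon : ∀ κ κ' : Equiv.Perm (Fin n), (∏ i, x i ^ (κ i).val) * (∏ i, y i ^ (κ' i).val) =
      monomial (expVec (fun i => (κ i).val) (fun i => (κ' i).val)) 1 := by
    intro κ κ'
    simp only [x, y, X_pow_eq, prod_monomial, prod_const_one, monomial_mul_monomial, mul_one]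
    have hs : (∑ i, Finsupp.single (Sum.inl i : Fin n ⊕ Fin n) (κ i).val) +
        ∑ i, Finsupp.single (Sum.inr i : Fin n ⊕ Fin n) (κ' i).val =
          expVec (fun i => (κ i).val) (fun i => (κ' i).val) := by
      refine Finsupp.ext fun s => ?_
      rcases s with a | a <;> simp [Finsupp.finsetSum_apply, Finsupp.single_apply]
    rw [hs]
  have hterm : ∀ κ κ' : Equiv.Perm (Fin n),
      coeff (expVec lam lam') (((Equiv.Perm.sign κ : ℤ) : MvPowerSeries (Fin n ⊕ Fin n) ℤ) * (∏ i, x i ^ (κ i).val) *
        (((Equiv.Perm.sign κ' : ℤ) : MvPowerSeries (Fin n ⊕ Fin n) ℤ) * ∏ i, y i ^ (κ' i).val) * P) =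
      if (∀ i, (κ i).val ≤ lam i) ∧ (∀ i, (κ' i).val ≤ lam' i) then
        (Equiv.Perm.sign κ : ℤ) * (Equiv.Perm.sign κ' : ℤ) *
          (Nat.card (MarginMat (fun i => lam i - (κ i).val) (fun i => lam' i - (κ' i).val)) : ℤ)
      else 0 := by
    intro κ κ'
    rw [mul_mul_mul_comm, hmon, ← Int.cast_mul, mul_assoc, ← map_intCast (MvPowerSeries.C (σ := Fin n ⊕ Fin n) (R := ℤ)),
      coeff_C_mul, coeff_monomial_mul, one_mul]
    have hiff : expVec (fun i => (κ i).val) (fun i => (κ' i).val) ≤ expVec lam lam' ↔
        (∀ i, (κ i).val ≤ lam i) ∧ (∀ i, (κ' i).val ≤ lam' i) :=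
      ⟨fun h => ⟨fun i => h (.inl i), fun i => h (.inr i)⟩,
        fun h s => by rcases s with a | a <;> [exact h.1 a; exact h.2 a]⟩
    by_cases hh : (∀ i, (κ i).val ≤ lam i) ∧ (∀ i, (κ' i).val ≤ lam' i)
    · rw [if_pos (hiff.2 hh), if_pos hh]
      have e : expVec lam lam' - expVec (fun i => (κ i).val) (fun i => (κ' i).val) =
          expVec (fun i => lam i - (κ i).val) (fun i => lam' i - (κ' i).val) := by
        ext s; rcases s with a | a <;> simp
      rw [e, coeff_prod_geom_all]
      simp
    · rw [if_neg (fun h => hh (hiff.1 h)), if_neg hh, mul_zero]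
  simp only [hterm] at h
  rw [← h, det_apply', map_sum]
  have hdiag : ∀ π : Equiv.Perm (Fin n),
      coeff (expVec lam lam') (∏ i, geom (π i) i) = if lam ∘ π = lam' then 1 else 0 := by
    intro π
    rw [coeff_prod_geom (fun i => π i) (fun i => i)]
    have h1 : ∀ (N : Fin n → ℕ) (i : Fin n), ∑ e ∈ univ.filter (fun e => π e = i), N e = N (π⁻¹ i) := by
      intro N i
      have : univ.filter (fun e => π e = i) = {π⁻¹ i} := by
        ext e
        simp only [mem_filter, mem_univ, true_and, mem_singleton, Equiv.Perm.coe_inv]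
        exact π.eq_symm_apply.symm
      rw [this, sum_singleton]
    have h2 : ∀ (N : Fin n → ℕ) (i : Fin n), ∑ e ∈ univ.filter (fun e => e = i), N e = N i := by
      intro N i; rw [filter_eq' univ i, if_pos (mem_univ i), sum_singleton]
    by_cases he : lam ∘ π = lam'
    · rw [if_pos he]
      have : Unique (PairFam (fun i => π i) (fun i => i) lam lam') :=
        { default := ⟨lam', fun i => by rw [h1, ← he]; simp, fun i => h2 _ i⟩
          uniq := fun N => Subtype.ext (funext fun i => (h2 N.1 i).symm.trans (N.2.2 i)) }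
      simp [Nat.card_unique]
    · rw [if_neg he]
      have : IsEmpty (PairFam (fun i => π i) (fun i => i) lam lam') := ⟨fun N => he (funext fun i => by
        have e1 := (h2 N.1 i).symm.trans (N.2.2 i)
        have e2 := (h1 N.1 (π i)).symm.trans (N.2.1 (π i))
        simp only [Equiv.Perm.coe_inv, Equiv.symm_apply_apply] at e2
        simp [← e1, e2])⟩
      simp
  refine (sum_eq_single (1 : Equiv.Perm (Fin n)) ?_ (fun h => absurd (mem_univ _) h)).trans ?_
  · intro π _ hπ
    simp only [Matrix.of_apply]
    rw [← map_intCast (MvPowerSeries.C (σ := Fin n ⊕ Fin n) (R := ℤ)), coeff_C_mul, hdiag, if_neg, mul_zero]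
    intro he
    apply hπ
    have hm : StrictMono π := fun a b hab => hl.lt_iff_lt.1 (by
      have := hl' hab
      rwa [← he] at this)
    exact Equiv.ext (fun i => congrFun (hm.range_inj strictMono_id |>.1 (by simp [π.range_eq_univ])) i)
  · simp only [Matrix.of_apply]
    rw [← map_intCast (MvPowerSeries.C (σ := Fin n ⊕ Fin n) (R := ℤ)), coeff_C_mul, hdiag]
    simp

end series

end Cfsg.Agent.H54
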