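import Cfsg.Agent.H54.ChevSteinberg

/-!
`U` is a Sylow subgroup of a split Chevalley group in the defining characteristic.
-/

set_option autoImplicit false

namespace Cfsg.Agent.H54.ChevSt

open Cfsg.Lie

theorem exists_sylow {D : ChevalleyDatum} {F : Type*} [Field F] [Fintype F] (Q : H37.Chev.Data D F) (p : ℕ)
    [hp : Fact p.Prime] [CharP F p] :
    ∃ P : Sylow p ↥(D.group F), (P : Subgroup ↥(D.group F)) = Q.amb.U := by
  obtain ⟨n, -, hn⟩ := FiniteField.card F p
  have hq : Nat.card F ^ (D.nroots / 2) = p ^ ((n : ℕ) * (D.nroots / 2)) := by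
    rw [Nat.card_eq_fintype_card, hn, pow_mul]
  have h := defect_zero Q p
  rw [hq] at h
  have hdvd : p ^ ((n : ℕ) * (D.nroots / 2)) ∣ Nat.card ↥(D.group F) := by
    rw [← hq, ← Q.card_U]
    exact Subgroup.card_subgroup_dvd_card Q.amb.U
  refine ⟨Sylow.ofCard Q.amb.U ?_, rfl⟩
  rw [Q.card_U, hq]
  congr 1
  obtain ⟨r, hr⟩ := hdvd
  rw [hr, Nat.mul_div_cancel_left _ (pow_pos hp.out.pos _)] at h
  have hr0 : r ≠ 0 := by
    rintro rfl
    rw [mul_zero] at hr
    exact (Nat.card_pos (α := ↥(D.group F))).ne' hr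
  rw [hr, Nat.factorization_mul (pow_ne_zero _ hp.out.ne_zero) hr0, Finsupp.add_apply,
    hp.out.factorization_pow, Finsupp.single_eq_same, Nat.factorization_eq_zero_of_not_dvd h, add_zero]

end Cfsg.Agent.H54.ChevSt
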