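import Cfsg.Agent.H54.ChevDefectZero
import Cfsg.Agent.H54.CentralBlocks
import Cfsg.Agent.H83.BlockAlgebra

/-!
The Steinberg character is the only defect zero character of a split Chevalley group.
-/

set_option autoImplicit false
set_option linter.style.haveILetI false

namespace Cfsg.Agent.H54.ChevUnique

open Cfsg.Lie BlockBasic CharBasic

theorem eq_steinberg {D : ChevalleyDatum} {F : Type*} [Field F] [Fintype F] (Q : H37.Chev.Data D F) (p : ℕ)
    [Fact p.Prime] [CharP F p] (χ : ↥(D.group F) → ℂ) (hχ : IsIrrCharacter ↥(D.group F) χ)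
    (hdeg : ∃ d : ℕ, χ 1 = (d : ℂ) ∧ p ^ (Nat.card ↥(D.group F)).factorization p ∣ d) :
    χ = D.steinbergCharacter F := by
  classical
  letI : Fintype ↥(D.group F) := Fintype.ofFinite _
  obtain ⟨M, hM⟩ := exists_isPModular (p := p) Fact.out
  haveI := locMax_isMaximal hM
  letI : Field (Residue hM) := Ideal.Quotient.field _
  haveI : CharP (Residue hM) p := (CharP.charP_iff_prime_eq_zero Fact.out).2 (by
    rw [← map_natCast (Ideal.Quotient.mk (locMax hM)), Ideal.Quotient.eq_zero_iff_mem]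
    exact natCast_p_mem_locMax hM)
  let c : IrrCharacter ↥(D.group F) := ⟨χ, hχ⟩
  let s : IrrCharacter ↥(D.group F) := ⟨D.steinbergCharacter F, ChevSt.isIrr Q⟩
  have hc : ¬ p ∣ Nat.card ↥(D.group F) / charDegree (c : ↥(D.group F) → ℂ) := by
    obtain ⟨d, hd, hdvd⟩ := hdeg
    have hcd : charDegree (c : ↥(D.group F) → ℂ) = d := by
      show ⌊(χ 1).re⌋₊ = d
      rw [hd, Complex.natCast_re, Nat.floor_natCast]
    intro hp
    have hd' := charDegree_dvd c
    have hpos := charDegree_pos c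
    rw [hcd] at hp hd' hpos
    obtain ⟨e, he⟩ := hd'
    rw [he, Nat.mul_div_cancel_left _ hpos] at hp
    refine Nat.pow_succ_factorization_not_dvd (Nat.card_pos (α := ↥(D.group F))).ne' (Fact.out : p.Prime) ?_
    rw [pow_succ]
    exact (mul_dvd_mul hdvd hp).trans (dvd_of_eq he.symm)
  have hs : ¬ p ∣ Nat.card ↥(D.group F) / charDegree (s : ↥(D.group F) → ℂ) := by
    show ¬ p ∣ Nat.card ↥(D.group F) / charDegree (D.steinbergCharacter F)
    rw [ChevSt.degree_charDegree Q]
    exact ChevSt.defect_zero Q p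
  have hBc := (CB.singleton_of_degree hM hc).1
  have hBs := (CB.singleton_of_degree hM hs).1
  by_contra hne
  have hdisj : ({c} : Set (IrrCharacter ↥(D.group F))) ∩ {s} = ∅ :=
    Set.eq_empty_iff_forall_notMem.2 fun ψ hψ => hne (congrArg Subtype.val (hψ.1.symm.trans hψ.2))
  have mk : ∀ (ψ : IrrCharacter ↥(D.group F)),
      ¬ p ∣ Nat.card ↥(D.group F) / charDegree (ψ : ↥(D.group F) → ℂ) →
      IsPBlock M ({ψ} : Set (IrrCharacter ↥(D.group F))) →
      SDZ.IsDZ p (fun g => res hM (blockCoeff ({ψ} : Set (IrrCharacter ↥(D.group F))) g)) := fun ψ hψ hB =>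
    ⟨fun g h => CB.dz_conj hM _ g h, fun g hg => CB.dz_van hM hψ hg,
      fun y => (CB.dz_conv hM hB hB y).trans (by rw [Set.inter_self]), CB.dz_ne hM hB⟩
  refine ChevDZ.not_orthogonal Q (p := p) (mk c hc hBc) (mk s hs hBs) fun y => ?_
  rw [CB.dz_conv hM hBc hBs, hdisj]
  simp [blockCoeff, res_zero]

end Cfsg.Agent.H54.ChevUnique
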