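import Cfsg.Agent.S2154
import Cfsg.Agent.H51.ParabolicCent
import Cfsg.Agent.H54.ChevUnique
import Cfsg.Agent.H54.ChevSylow

/-!
The blocks of a split Chevalley group in the defining characteristic: one of defect zero, the rest of full defect.
-/

set_option autoImplicit false
set_option linter.unusedSectionVars false
set_option linter.style.haveILetI false

namespace Cfsg.Agent.H54.ChevBlocks

open Cfsg.Lie BlockBasic CharBasic
open Cfsg.Agent.H37.Chev (Sup)

variable {D : ChevalleyDatum} {F : Type*} [Field F] [Fintype F]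
  (hD : D ∈ [chevG2, chevB2, chevD4, chevF4, chevE6, chevE7, chevE8]) {p : ℕ} [Fact p.Prime] [CharP F p]
include hD

include p in
/-- An element of `P_J` centralising the radical of a proper `P_J` lies in `U`. -/
theorem mem_U_of_centralizes (Q : H37.Chev.Data D F) (hS : Sup Q.X.C D Q.X.n) {J : Set ℕ}
    (hJ : ∃ i, i < D.rank ∧ i ∉ J) {g : ↥(D.group F)} (hgP : (g : GL D.Idx F) ∈ D.parabolicSubgroup F J)
    (hg : ∀ y ∈ (D.unipotentRadical F J).subgroupOf (D.group F), g * y = y * g) : g ∈ Q.sys.U := by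
  refine H51.PC.centralizer_le_U (p := p) Q hS (H51.PC.linkB_of_mem hD) hJ hgP fun r hr hp ho t => hg _ ?_
  exact Subgroup.mem_subgroupOf.2
    (Subgroup.subset_closure ⟨r, t, (Q.ord.isPosRoot_iff r).2 ⟨hr, hp⟩, ho, Q.K.coe_xU F r t⟩)

theorem borelTits (R : Subgroup ↥(D.group F)) (hR : IsPGroup p R) (hne : R ≠ ⊥) :
    ∃ g : ↥(D.group F), ∃ J : Set ℕ, (∃ i, i < D.rank ∧ i ∉ J) ∧
      (∀ x ∈ Subgroup.normalizer (R : Set ↥(D.group F)),
        ((g⁻¹ * x * g : ↥(D.group F)) : GL D.Idx F) ∈ D.parabolicSubgroup F J) ∧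
      ∀ x ∈ R, g⁻¹ * x * g ∈ (D.unipotentRadical F J).subgroupOf (D.group F) := by
  obtain ⟨g, hgG, J, hJ, hN, hU⟩ := Agent.S2154.result p D hD (R.map (D.group F).subtype)
    (Subgroup.map_subtype_le _) (hR.map _) (by
      rw [Ne, Subgroup.map_eq_bot_iff_of_injective R (D.group F).subtype_injective]; exact hne)
  refine ⟨⟨g, hgG⟩, J, hJ, fun x hx => ?_, fun x hx => Subgroup.mem_subgroupOf.2 ?_⟩
  · obtain ⟨y, hy, e⟩ := hN ⟨Subgroup.le_normalizer_map _ ⟨x, hx, rfl⟩, x.2⟩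
    have e' : g * y * g⁻¹ = (x : GL D.Idx F) := e
    show g⁻¹ * (x : GL D.Idx F) * g ∈ _
    rw [← e']
    simpa [mul_assoc] using hy
  · obtain ⟨y, hy, e⟩ := hU ⟨x, hx, rfl⟩
    have e' : g * y * g⁻¹ = (x : GL D.Idx F) := e
    show g⁻¹ * (x : GL D.Idx F) * g ∈ _
    rw [← e']
    simpa [mul_assoc] using hy

theorem exists_U : ∃ Q : H37.Chev.Data D F, Sup Q.X.C D Q.X.n ∧ IsPGroup p ↥Q.sys.U := by
  obtain ⟨Q, hS⟩ := H37.Chev.exists_data hD F
  obtain ⟨P, hP⟩ := ChevSt.exists_sylow Q p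
  have h : IsPGroup p ↥Q.amb.U := hP ▸ P.isPGroup'
  exact ⟨Q, hS, h⟩

theorem centralLocal : CB.CentralLocal p ↥(D.group F) := by
  intro R hR1 hRp hrad x hreg hxR
  classical
  obtain ⟨Q, hS, hUp⟩ := exists_U (F := F) hD (p := p)
  obtain ⟨g, J, hJ, hN, hRad⟩ := borelTits hD R hRp hR1
  set U := (D.unipotentRadical F J).subgroupOf (D.group F) with hU
  set U' := U.map (MulAut.conj g).toMonoidHom with hU'
  have hUU : U ≤ Q.sys.U := by
    show U ≤ Q.amb.U
    rw [Q.amb_U]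
    exact fun y hy => Subgroup.mem_subgroupOf.2 (Q.radical_le_pos hS (Subgroup.mem_subgroupOf.1 hy))
  have hmem : ∀ y, y ∈ U' ↔ g⁻¹ * y * g ∈ U := fun y => by
    rw [hU', Subgroup.mem_map_equiv, MulAut.conj_symm_apply]
  have hU'p : IsPGroup p U' := (hUp.to_le hUU).map _
  have hRU : R ≤ U' := fun y hy => (hmem y).2 (hRad y hy)
  -- `N(R)` normalises `U'`
  have hnorm : ∀ y ∈ Subgroup.normalizer (R : Set ↥(D.group F)), ∀ u ∈ U', y * u * y⁻¹ ∈ U' := by
    intro y hy u hu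
    rw [hmem] at hu ⊢
    have h := (Subgroup.mem_normalizer_iff.1 (Q.parabolic_le_normalizer hS (hN y hy)) _).1
      (Subgroup.mem_subgroupOf.1 hu)
    rw [show g⁻¹ * (y * u * y⁻¹) * g = g⁻¹ * y * g * (g⁻¹ * u * g) * (g⁻¹ * y * g)⁻¹ by group]
    exact Subgroup.mem_subgroupOf.2 h
  -- so `N_{U'}(R) = R`
  set N := Subgroup.normalizer (R : Set ↥(D.group F)) with hNdef
  have hle : (U' ⊓ N).subgroupOf N ≤ Cfsg.pCore p ↥N := by
    haveI : ((U' ⊓ N).subgroupOf N).Normal := ⟨fun u hu y => by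
      rw [Subgroup.mem_subgroupOf, Subgroup.mem_inf] at hu ⊢
      exact ⟨hnorm _ y.2 _ hu.1, mul_mem (mul_mem y.2 hu.2) (inv_mem y.2)⟩⟩
    exact Cores.le_pCore ((hU'p.to_le inf_le_left).of_equiv (Subgroup.subgroupOfEquivOfLe inf_le_right).symm)
  have hNU : U' ⊓ N ≤ R := by
    intro y hy
    rw [← hrad]
    exact ⟨⟨y, hy.2⟩, hle hy, rfl⟩
  have hUR : U' ≤ R := by
    by_contra hnot
    have hlt : R.subgroupOf U' < ⊤ := lt_top_iff_ne_top.2 fun h => hnot (Subgroup.subgroupOf_eq_top.1 h)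
    haveI : Group.IsNilpotent U' := hU'p.isNilpotent
    obtain ⟨m, hm1, hm2⟩ := SetLike.exists_of_lt (Group.normalizerCondition_of_isNilpotent _ hlt)
    refine hm2 (Subgroup.mem_subgroupOf.2 (hNU ⟨m.2, Subgroup.mem_normalizer_iff.2 fun y => ⟨fun hy => ?_, fun hy => ?_⟩⟩))
    · exact Subgroup.mem_subgroupOf.1 ((Subgroup.mem_normalizer_iff.1 hm1 ⟨y, hRU hy⟩).1
        (Subgroup.mem_subgroupOf.2 hy))
    · have hy' : y ∈ U' := by
        have := mul_mem (mul_mem (inv_mem m.2) (hRU hy)) m.2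
        simpa [mul_assoc] using this
      exact Subgroup.mem_subgroupOf.1 ((Subgroup.mem_normalizer_iff.1 hm1 ⟨y, hy'⟩).2
        (Subgroup.mem_subgroupOf.2 hy))
  -- `x` centralises the radical
  have hxN : x ∈ N := Subgroup.centralizer_le_normalizer _ hxR
  have hxU : g⁻¹ * x * g ∈ Q.sys.U := by
    refine mem_U_of_centralizes hD (p := p) Q hS hJ (hN x hxN) fun y hy => ?_
    have hy' : g * y * g⁻¹ ∈ R := hUR ((hmem _).2 (by simpa [mul_assoc] using hy))
    have := Subgroup.mem_centralizer_iff.1 hxR _ hy'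
    calc g⁻¹ * x * g * y = g⁻¹ * (x * (g * y * g⁻¹)) * g := by group
      _ = g⁻¹ * ((g * y * g⁻¹) * x) * g := by rw [this]
      _ = _ := by group
  have hx1 : g⁻¹ * x * g = 1 := by
    obtain ⟨k, hk⟩ := IsPGroup.iff_orderOf.1 hUp ⟨_, hxU⟩
    have hk' : orderOf (g⁻¹ * x * g) = p ^ k := (Subgroup.orderOf_coe (⟨_, hxU⟩ : ↥Q.sys.U)).trans hk
    have ho : orderOf (g⁻¹ * x * g) = orderOf x := by
      have := (MulAut.conj g⁻¹).orderOf_eq x
      simpa using this
    rcases Nat.eq_zero_or_pos k with rfl | hk0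
    · rwa [pow_zero, orderOf_eq_one_iff] at hk'
    · exact absurd (ho ▸ hk' ▸ dvd_pow_self p hk0.ne') hreg
  have : x = 1 := by
    calc x = g * (g⁻¹ * x * g) * g⁻¹ := by group
      _ = 1 := by rw [hx1]; group
  rw [this]
  exact one_mem _

theorem center_eq_bot : Subgroup.center ↥(D.group F) = ⊥ := by
  obtain ⟨p, hp⟩ := CharP.exists F
  haveI : Fact p.Prime := ⟨(CharP.char_is_prime_or_zero F p).resolve_right (CharP.char_ne_zero_of_finite F p)⟩
  obtain ⟨Q, hS, hUp⟩ := exists_U (F := F) hD (p := p)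
  refine eq_bot_iff.2 (le_trans (Subgroup.normal_le_normalCore.2 fun z hz => ?_) Q.core_eq_bot.le)
  have hne : Q.sys.U ≠ ⊥ := Q.U_ne_bot
  obtain ⟨g, J, hJ, hN, -⟩ := borelTits hD Q.sys.U hUp hne
  have hzg : g⁻¹ * z * g = z := by
    rw [mul_assoc, ← Subgroup.mem_center_iff.1 hz g, inv_mul_cancel_left]
  have h1 := hN z (Subgroup.center_le_normalizer _ hz)
  rw [hzg] at h1
  exact Q.amb.U_le_B (mem_U_of_centralizes hD (p := p) Q hS hJ h1 fun y _ => (Subgroup.mem_center_iff.1 hz y).symm)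

theorem dvd_card : p ∣ Nat.card ↥(D.group F) := by
  obtain ⟨Q, -, hUp⟩ := exists_U (F := F) hD (p := p)
  obtain ⟨⟨u, hu⟩, hu1⟩ := Subgroup.ne_bot_iff_exists_ne_one.1 Q.U_ne_bot
  obtain ⟨k, hk⟩ := IsPGroup.iff_orderOf.1 hUp ⟨u, hu⟩
  rcases Nat.eq_zero_or_pos k with rfl | hk0
  · rw [pow_zero, orderOf_eq_one_iff] at hk
    exact absurd hk hu1
  · exact ((dvd_pow_self p hk0.ne').trans hk.symm.dvd).trans
      ((orderOf_dvd_natCard _).trans (Subgroup.card_subgroup_dvd_card Q.sys.U))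

theorem card_defectZero {M : Ideal AlgInt} (hM : IsPModular p M) :
    Nat.card {B : Set (IrrCharacter ↥(D.group F)) // IsPBlock M B ∧ blockDefect p B = 0} = 1 := by
  obtain ⟨Q, -⟩ := H37.Chev.exists_data hD F
  let s : IrrCharacter ↥(D.group F) := ⟨D.steinbergCharacter F, ChevSt.isIrr Q⟩
  have hs : ¬ p ∣ Nat.card ↥(D.group F) / charDegree (s : ↥(D.group F) → ℂ) := by
    show ¬ p ∣ Nat.card ↥(D.group F) / charDegree (D.steinbergCharacter F)
    rw [ChevSt.degree_charDegree Q]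
    exact ChevSt.defect_zero Q p
  have h := CB.singleton_of_degree hM hs
  rw [Nat.card_eq_one_iff_unique]
  refine ⟨⟨fun a b => Subtype.ext ?_⟩, ⟨⟨_, h⟩⟩⟩
  suffices key : ∀ B : {B : Set (IrrCharacter ↥(D.group F)) // IsPBlock M B ∧ blockDefect p B = 0}, B.1 = {s} by
    rw [key a, key b]
  rintro ⟨B, hB, hd⟩
  obtain ⟨χ, rfl, hχ⟩ := (CB.blockDefect_eq_zero_iff hM hB).1 hd
  show ({χ} : Set (IrrCharacter ↥(D.group F))) = {s}
  congr 1
  refine Subtype.ext (ChevUnique.eq_steinberg Q p _ χ.2 ⟨_, apply_one_eq_charDegree χ, ?_⟩)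
  obtain ⟨e, he⟩ := charDegree_dvd χ
  rw [he, Nat.mul_div_cancel_left _ (charDegree_pos χ)] at hχ
  have he0 : e ≠ 0 := fun h => hχ (h ▸ dvd_zero p)
  rw [he, Nat.factorization_mul (charDegree_pos χ).ne' he0, Finsupp.add_apply,
    Nat.factorization_eq_zero_of_not_dvd hχ, add_zero]
  exact Nat.ordProj_dvd _ p

theorem card_blocks {M : Ideal AlgInt} (hM : IsPModular p M) :
    Nat.card {B : Set (IrrCharacter ↥(D.group F)) // IsPBlock M B} = 2 := by
  classical
  letI : Fintype ↥(D.group F) := Fintype.ofFinite _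
  have hc : Nat.card (Subgroup.center ↥(D.group F)) = 1 := by rw [center_eq_bot hD]; exact Subgroup.card_bot
  rw [CB.card_blocks (centralLocal hD (p := p)) hM (by rw [hc]; exact (Fact.out : p.Prime).not_dvd_one)
    (dvd_card hD (p := p)), hc, card_defectZero hD hM]

end Cfsg.Agent.H54.ChevBlocks
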