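import Cfsg.Agent.H54.SplitDefectZero
import Cfsg.Agent.H54.ChevSteinberg

/-!
A split Chevalley group over a finite field of characteristic `p` has no two orthogonal reductions of defect zero
idempotents: coset sums live on the big cell, and averaging along the longest element kills the torus dependence.
-/

set_option autoImplicit false
set_option linter.unusedSectionVars false
set_option linter.style.haveILetI false

open scoped Classical

namespace Cfsg.Agent.H54.ChevDZ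

open Cfsg.Lie Cfsg.Agent.H37.RootSys SDZ
open Cfsg.Agent.H37 (Weyl.gen)

variable {D : ChevalleyDatum} {F : Type*} [Field F] [Fintype F] (Q : H37.Chev.Data D F)
  [Fintype ↥(D.group F)] {k : Type*} [Field k]
include Q

/-- The representative of the longest element. -/
noncomputable def n0 : ↥(D.group F) := Q.sys.rep Q.X.w0

/-- Invariant functions supported by the big cell. -/
structure Big (f : ↥(D.group F) → k) : Prop where
  bi : BI Q.sys.U f
  supp : ∀ x, f x ≠ 0 → x ∈ Q.sys.cell Q.X.w0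

theorem norm_U {h : ↥(D.group F)} (hh : h ∈ Q.sys.H) (u : ↥(D.group F)) :
    u ∈ Q.sys.U ↔ h * u * h⁻¹ ∈ Q.sys.U := by
  refine ⟨fun hu => Q.sys.H_conj_U hh hu, fun hu => ?_⟩
  simpa [mul_assoc] using Q.sys.H_conj_U (inv_mem hh) hu

theorem H_comm {g h : ↥(D.group F)} (hg : g ∈ Q.sys.H) (hh : h ∈ Q.sys.H) : g * h = h * g :=
  Subtype.ext (Q.diag_comm hg hh)

theorem strip_left {f : ↥(D.group F) → k} (hf : BI Q.sys.U f) {h u : ↥(D.group F)} (hh : h ∈ Q.sys.H)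
    (hu : u ∈ Q.sys.U) (z : ↥(D.group F)) : f (h * u * z) = f (h * z) := by
  rw [show h * u * z = h * u * h⁻¹ * (h * z) by group, hf.left _ (Q.sys.H_conj_U hh hu)]

theorem strip_right {f : ↥(D.group F) → k} (hf : BI Q.sys.U f) {h u : ↥(D.group F)} (hh : h ∈ Q.sys.H)
    (hu : u ∈ Q.sys.U) (z : ↥(D.group F)) : f (z * u * h) = f (z * h) := by
  rw [show z * u * h = z * h * (h⁻¹ * u * (h⁻¹)⁻¹) by group,
    hf.right _ (Q.sys.H_conj_U (inv_mem hh) hu)]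

theorem Big.mul_right {f : ↥(D.group F) → k} (hf : Big Q f) {h : ↥(D.group F)} (hh : h ∈ Q.sys.H) :
    Big Q fun x => f (x * h) :=
  ⟨hf.bi.mul_right (norm_U Q hh), fun x hx => by
    simpa using Q.sys.cell_right_H (inv_mem hh) (hf.supp _ hx)⟩

/-! ### The longest element -/

theorem rep_simple (i : Fin Q.X.n) : Q.sys.rep (Q.X.M.simple i) = nG Q.K F i := Q.rep_simple i

theorem inv_one : Q.X.good.inv 1 = 0 := by
  have h := Q.card_Uw 1
  rw [Q.amb.Uw_one, Subgroup.card_bot] at h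
  exact (pow_eq_one_iff.1 h.symm).resolve_left (Finite.one_lt_card (α := F)).ne'

theorem full_eq {w : Q.X.M.Group}
    (h : ∀ r (hr : r < D.nroots), D.nroots / 2 ≤ r → (Q.X.good.hom w ⟨r, hr⟩).val < D.nroots / 2) :
    w = Q.X.w0 := by
  refine (inv_mul_eq_one.1 (Q.X.good.eq_one_of_inv_eq_zero (g := Q.X.w0⁻¹ * w) ?_)).symm
  unfold Cfsg.Agent.H37.Weyl.Good.inv
  rw [Finset.card_eq_zero, Finset.filter_eq_empty_iff]
  rintro r - ⟨hp, hn⟩
  set t := Q.X.good.hom (Q.X.w0⁻¹ * w) r with ht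
  have e : Q.X.good.hom Q.X.w0 t = Q.X.good.hom w r := by
    rw [ht, map_mul, Equiv.Perm.mul_apply, ← Equiv.Perm.mul_apply, ← map_mul, mul_inv_cancel, map_one,
      Equiv.Perm.one_apply]
  have h1 := Q.X.good.hom_neg Q.X.w0 t
  rw [e] at h1
  have h2 := Q.X.w0_neg (r := D.nroots - 1 - t.val) (by omega) (by have := Q.X.good.even; omega)
  rw [h1] at h2
  have h3 : (Q.X.good.hom w r).val < D.nroots / 2 := h r.val r.isLt hp

  have := Q.X.good.even
  omega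

theorem w0_inv : Q.X.w0⁻¹ = Q.X.w0 := by
  refine full_eq Q fun r hr hp => ?_
  by_contra hcon
  set s := Q.X.good.hom Q.X.w0⁻¹ ⟨r, hr⟩ with hs
  have h2 := Q.X.w0_neg s.isLt (not_lt.1 hcon)
  rw [Fin.eta, hs, ← Equiv.Perm.mul_apply, ← map_mul, mul_inv_cancel, map_one, Equiv.Perm.one_apply] at h2
  exact absurd hp (not_le.2 h2)

theorem inv_le (w : Q.X.M.Group) : Q.X.good.inv w ≤ Q.X.good.inv Q.X.w0 := by
  refine Finset.card_le_card fun r hr => ?_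
  rw [Finset.mem_filter] at hr ⊢
  exact ⟨hr.1, hr.2.1, Q.X.w0_neg r.isLt hr.2.1⟩

theorem card_orb (w : Q.X.M.Group) :
    (orb Q.sys.U (Q.sys.rep w)).card = Nat.card F ^ Q.X.good.inv w := by
  rw [← card_orb_inv, ← Q.card_Uw, ← Nat.card_eq_finsetCard]
  refine (Nat.card_congr (Equiv.ofBijective (fun b : ↥(Q.amb.Uw w) =>
    (⟨(((b : ↥(D.group F))⁻¹ * (Q.sys.rep w)⁻¹ : ↥(D.group F)) : ↥(D.group F) ⧸ Q.sys.U),
      mem_orb.2 ⟨(b : ↥(D.group F))⁻¹, inv_mem (Q.sys.Uw_le w b.2), rfl⟩⟩ :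
      {q // q ∈ orb Q.sys.U (Q.sys.rep w)⁻¹})) ⟨?_, ?_⟩)).symm
  · intro b b' h
    have h' : ((((b : ↥(D.group F))⁻¹ * (Q.sys.rep w)⁻¹ : ↥(D.group F))) : ↥(D.group F) ⧸ Q.sys.U) =
        (((b' : ↥(D.group F))⁻¹ * (Q.sys.rep w)⁻¹ : ↥(D.group F))) := congrArg Subtype.val h
    rw [QuotientGroup.eq] at h'
    have e : (1 : ↥(D.group F)) * 1 * Q.amb.n w * ((b : ↥(D.group F)) * (b' : ↥(D.group F))⁻¹) =
        ((((b : ↥(D.group F))⁻¹ * (Q.sys.rep w)⁻¹)⁻¹) * ((b' : ↥(D.group F))⁻¹ * (Q.sys.rep w)⁻¹)) * 1 *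
          Q.amb.n w * 1 := by
      show _ * _ * Q.sys.rep w * _ = _ * _ * Q.sys.rep w * _
      group
    have h4 := (Q.amb.unique (one_mem _) h' (one_mem _) (one_mem _) (mul_mem b.2 (inv_mem b'.2))
      (one_mem _) e).2.2.2
    exact Subtype.ext (mul_inv_eq_one.1 h4)
  · rintro ⟨q, hq⟩
    obtain ⟨u, hu, rfl⟩ := mem_orb.1 hq
    obtain ⟨a, ha, b, hb, e⟩ := Q.sys.U_split w (inv_mem hu)
    refine ⟨⟨b, hb⟩, Subtype.ext (QuotientGroup.eq.2 ?_)⟩
    have hu' : u = b⁻¹ * a⁻¹ := by rw [← mul_inv_rev, ← e, inv_inv]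
    rw [hu', show (b⁻¹ * (Q.sys.rep w)⁻¹)⁻¹ * (b⁻¹ * a⁻¹ * (Q.sys.rep w)⁻¹) =
      (Q.sys.rep w * a * (Q.sys.rep w)⁻¹)⁻¹ by group]
    exact inv_mem (Q.sys.keep_conj w ha)

theorem inv_inv' (w : Q.X.M.Group) : Q.X.good.inv w⁻¹ = Q.X.good.inv w := by
  obtain ⟨h, hh, e⟩ := Q.sys.rep_inv w
  refine Nat.pow_right_injective (Finite.one_lt_card (α := F)) ?_
  show Nat.card F ^ _ = Nat.card F ^ _
  rw [← card_orb, ← card_orb, ← card_orb_inv (Q.sys.rep w), e, card_orb_mul_left (norm_U Q hh)]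

theorem inv_simple (i : Fin Q.X.n) : Q.X.good.inv (Q.X.M.simple i) = 1 := by
  have hs := Q.X.good.simple_spec i.isLt
  have h := Q.X.good.inv_mul_gen_neg (g := Q.X.M.simple i) i.isLt
    (by rw [Q.X.good.hom_simple, Q.X.good.sigmaPerm_val]; exact hs.2.2)
  rw [show Weyl.gen Q.X.M i.val = Q.X.M.simple i from Sys.gen_eq i,
    show Q.X.M.simple i * Q.X.M.simple i = 1 from Q.X.M.toCoxeterSystem.simple_mul_simple_self i,
    inv_one] at h
  omega

/-! ### A fundamental reflection -/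

variable {f : ↥(D.group F) → k}

/-- The torus element of a fundamental root. -/
noncomputable def hG {i : ℕ} (hi : i < D.rank) (c : Fˣ) : ↥(D.group F) :=
  ⟨Q.K.hU F (D.simple i) c, H37.diagonal_le_group Q.ord (Q.K.hU_mem F (Q.K.simple_lt i hi).1 c.ne_zero)⟩

theorem hG_mem {i : ℕ} (hi : i < D.rank) (c : Fˣ) : hG Q hi c ∈ Q.sys.H :=
  Q.K.hU_mem F (Q.K.simple_lt i hi).1 c.ne_zero

theorem hG_mul {i : ℕ} (hi : i < D.rank) (c d : Fˣ) : hG Q hi (c * d) = hG Q hi c * hG Q hi d :=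
  Subtype.ext (Q.K.hU_mul F (Q.K.simple_lt i hi).1 c d)

theorem nS_conj_hU {i : ℕ} (hi : i < D.rank) (c : Fˣ) :
    Q.K.hU F (D.simple i) c * Q.K.nS F i = Q.K.nS F i * (Q.K.hU F (D.simple i) c)⁻¹ := by
  have hs := (Q.K.simple_lt i hi).1
  have e1 : Q.K.nU F (D.simple i) c = Q.K.hU F (D.simple i) c * Q.K.nS F i := nU_eq_hU_nS Q.K _
  have e2 : Q.K.nS F i * Q.K.nU F (D.simple i) c = (Q.K.hU F (D.simple i) (-(c : F)))⁻¹ := by
    rw [Q.K.hU_eq, _root_.mul_inv_rev, Q.K.nU_inv, Q.K.nU_inv, _root_.neg_neg, _root_.neg_neg]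
    rfl
  have e3 : Q.K.hU F (D.simple i) (-1 : F) = (Q.K.nS F i * Q.K.nS F i)⁻¹ := by
    rw [nS_sq, inv_inv]
  have e4 := Q.K.hU_mul F hs (-1) c
  rw [Units.val_mul, Units.val_neg, Units.val_one, neg_one_mul] at e4
  rw [e4, e1, e3] at e2
  -- `n h n = h⁻¹ n²`
  have e5 : Q.K.nS F i * Q.K.hU F (D.simple i) c * Q.K.nS F i =
      (Q.K.hU F (D.simple i) c)⁻¹ * (Q.K.nS F i * Q.K.nS F i) := by
    rw [mul_assoc, e2, _root_.mul_inv_rev, inv_inv]
  calc Q.K.hU F (D.simple i) c * Q.K.nS F i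
      = (Q.K.nS F i)⁻¹ * (Q.K.nS F i * Q.K.hU F (D.simple i) c * Q.K.nS F i) := by group
    _ = (Q.K.nS F i)⁻¹ * ((Q.K.hU F (D.simple i) c)⁻¹ * (Q.K.nS F i * Q.K.nS F i)) := by rw [e5]
    _ = (Q.K.nS F i)⁻¹ * ((Q.K.nS F i * Q.K.nS F i) * (Q.K.hU F (D.simple i) c)⁻¹) := by
      rw [Q.diag_comm (inv_mem (Q.K.hU_mem F hs c.ne_zero)) (by
        rw [nS_sq]; exact inv_mem (Q.K.hU_mem F hs (by simp)))]
    _ = _ := by group

theorem x_mul_ns {i : ℕ} (hi : i < D.rank) (c : Fˣ) :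
    Q.sys.x (D.simple i) (c : F) * nG Q.K F i = Q.sys.x (D.neg (D.simple i)) (c : F)⁻¹ *
      Q.sys.x (D.simple i) (-(c : F)) * hG Q hi (-c) := by
  refine Subtype.ext ?_
  show Q.K.xU F _ _ * Q.K.nS F i = Q.K.xU F _ _ * Q.K.xU F _ _ * Q.K.hU F _ ((-c : Fˣ) : F)
  have e := sl2 Q.K (i := i) hi (t := (c : F)⁻¹) (inv_ne_zero c.ne_zero)
  rw [inv_inv] at e
  have e2 := nS_conj_hU Q hi (-c)
  rw [Units.val_neg] at e2
  rw [Units.val_neg, e, mul_assoc _ (Q.K.xU F (D.simple i) (c : F)) (Q.K.xU F (D.simple i) (-(c : F))),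
    Q.K.xU_add, add_neg_cancel, Q.K.xU_zero, mul_one, mul_assoc (Q.K.xU F (D.simple i) (c : F)), e2,
    ← mul_assoc, inv_mul_cancel_right]

theorem hom_neg_simple (w : Q.X.M.Group) {i : ℕ} (hi : i < Q.X.n) :
    (Q.X.good.hom w ⟨D.neg (D.simple i), Q.K.neg_lt (Q.X.good.simple_spec hi).2.1⟩).val =
      D.nroots - 1 - (Q.X.good.hom w ⟨D.simple i, (Q.X.good.simple_spec hi).2.1⟩).val := by
  rw [← Q.X.good.hom_neg]
  congr 2
  exact Fin.ext (Q.K.neg_eq _ (Q.X.good.simple_spec hi).2.1)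

theorem card_orb_ns (i : Fin Q.X.n) : (orb Q.sys.U (nG Q.K F i)).card = Nat.card F := by
  rw [← rep_simple Q i, card_orb, inv_simple, pow_one]

theorem T_ns {f : ↥(D.group F) → k} (hf : BI Q.sys.U f) (i : Fin Q.X.n) (y : ↥(D.group F)) :
    T Q.sys.U (nG Q.K F i) f y = ∑ τ : F, f (y * (Q.sys.x (D.simple i) τ * nG Q.K F i)) := by
  have hs := Q.X.good.simple_spec i.isLt
  have hi : i.val < D.rank := Q.rank_eq.symm ▸ i.isLt
  let φ : F → ↥(D.group F) ⧸ Q.sys.U := fun τ =>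
    ((Q.sys.x (D.simple i) τ * nG Q.K F i : ↥(D.group F)) : ↥(D.group F) ⧸ Q.sys.U)
  have hinj : Function.Injective φ := by
    intro τ τ' h
    have h' := QuotientGroup.eq.1 h
    obtain ⟨t, e⟩ := Q.sys.n_conj i i.isLt (D.simple i) hs.2.1 (-τ + τ')
    obtain ⟨t', e'⟩ := Q.sys.h_conj _ (inv_mem (Q.sys.sq i i.isLt)) (Q.X.C.sigma i (D.simple i))
      (Q.X.good.sigma_spec i.isLt hs.2.1).1 t
    have e2 : (Q.sys.x (D.simple i) τ * nG Q.K F i)⁻¹ * (Q.sys.x (D.simple i) τ' * nG Q.K F i) =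
        Q.sys.x (Q.X.C.sigma i (D.simple i)) t' := by
      rw [← e', ← e]
      have e3 : (Q.sys.x (D.simple i) τ)⁻¹ * Q.sys.x (D.simple i) τ' = Q.sys.x (D.simple i) (-τ + τ') := by
        rw [Q.sys.x_add' _ hs.2.1]
        congr 1
        exact Subtype.ext (Q.K.xU_inv F _ τ)
      rw [← e3]
      show _ = (Q.sys.ns i * Q.sys.ns i)⁻¹ * (Q.sys.ns i * _ * (Q.sys.ns i)⁻¹) * ((Q.sys.ns i * Q.sys.ns i)⁻¹)⁻¹
      show (Q.sys.x (D.simple i) τ * Q.sys.ns i)⁻¹ * (Q.sys.x (D.simple i) τ' * Q.sys.ns i) = _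
      group
    rw [e2] at h'
    rw [Q.sys.x_neg_eq_one (Q.X.good.sigma_spec i.isLt hs.2.1).1 hs.2.2 h'] at e2
    have h5 : Q.sys.x (D.simple i) τ = Q.sys.x (D.simple i) τ' :=
      mul_right_cancel (inv_mul_eq_one.1 e2)
    have h6 : Q.K.xU F (D.simple i) τ = Q.K.xU F (D.simple i) τ' := congrArg Subtype.val h5
    have h7 : Q.K.xU F (D.simple i) (τ + -τ') = 1 := by
      rw [← Q.K.xU_add, h6, Q.K.xU_add, add_neg_cancel, Q.K.xU_zero]
    exact eq_of_sub_eq_zero (by rw [sub_eq_add_neg]; exact (Q.K.xU_eq_one_iff F hs.2.1 _).1 h7)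
  have he : orb Q.sys.U (nG Q.K F i) = Finset.univ.image φ := by
    refine (Finset.eq_of_subset_of_card_le (fun q hq => ?_) ?_).symm
    · obtain ⟨τ, -, rfl⟩ := Finset.mem_image.1 hq
      exact mem_orb.2 ⟨_, Q.sys.x_mem_U hs.2.1 hs.1 τ, rfl⟩
    · rw [card_orb_ns, Finset.card_image_of_injective _ hinj, Finset.card_univ, Nat.card_eq_fintype_card]
  rw [T, he, Finset.sum_image fun a _ b _ h => hinj h]
  exact Finset.sum_congr rfl fun τ _ => f_out hf _ _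

theorem cell_nf_rep {h : ↥(D.group F)} (hh : h ∈ Q.sys.H) (w : Q.X.M.Group) :
    h * Q.sys.rep w ∈ Q.sys.cell w := Q.sys.cell_left_H hh (Q.sys.rep_mem_cell w)

/-- The value of the averaging along a reflection at a torus translate of a descending element. -/
theorem T_ns_neg (hf : Big Q f) (i : Fin Q.X.n) {w : Q.X.M.Group}
    (hn : (Q.X.good.hom w ⟨D.simple i, (Q.X.good.simple_spec i.isLt).2.1⟩).val < D.nroots / 2)
    {h : ↥(D.group F)} (hh : h ∈ Q.sys.H) :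
    T Q.sys.U (nG Q.K F i) f (h * Q.sys.rep w) =
      ∑ c : Fˣ, f (h * Q.sys.rep w * hG Q (lt_of_lt_of_eq i.isLt Q.rank_eq.symm) (-c)) := by
  have hs := Q.X.good.simple_spec i.isLt
  have hi : i.val < D.rank := Q.rank_eq.symm ▸ i.isLt
  have h0 : f (h * Q.sys.rep w * (Q.sys.x (D.simple i) 0 * nG Q.K F i)) = 0 := by
    rw [Q.sys.x_zero' hs.2.1, one_mul]
    obtain ⟨k1, hk1, e⟩ := Q.sys.rep_mul w (Q.X.M.simple i)
    rw [rep_simple] at e
    rw [mul_assoc, e, ← mul_assoc]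
    by_contra hne
    have h1 := Q.sys.cell_unique (hf.supp _ hne) (cell_nf_rep Q (mul_mem hh hk1) _)
    have h2 := Q.X.good.inv_mul_gen_neg i.isLt hn
    rw [show Weyl.gen Q.X.M i.val = Q.X.M.simple i from Sys.gen_eq i, ← h1] at h2
    have := inv_le Q w
    omega
  rw [T_ns Q hf.bi, ← Finset.add_sum_erase _ _ (Finset.mem_univ (0 : F)), h0, zero_add]
  symm
  refine Finset.sum_bij (fun c _ => (c : F)) (fun c _ => Finset.mem_erase.2 ⟨c.ne_zero, Finset.mem_univ _⟩)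
    (fun c _ d _ h => Units.ext h)
    (fun τ hτ => ⟨Units.mk0 τ (Finset.mem_erase.1 hτ).1, Finset.mem_univ _, rfl⟩) fun c _ => ?_
  have hpos : D.nroots / 2 ≤ (Q.X.good.hom w ⟨D.neg (D.simple i), Q.K.neg_lt hs.2.1⟩).val := by
    rw [hom_neg_simple Q w i.isLt]
    have := Q.X.good.even
    omega
  obtain ⟨t', e⟩ := Q.sys.rep_conj w (D.neg (D.simple i)) (Q.K.neg_lt hs.2.1) (c : F)⁻¹
  rw [x_mul_ns Q hi c,
    show h * Q.sys.rep w * (Q.sys.x (D.neg (D.simple i)) (c : F)⁻¹ * Q.sys.x (D.simple i) (-(c : F)) *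
        hG Q hi (-c)) = h * (Q.sys.rep w * Q.sys.x (D.neg (D.simple i)) (c : F)⁻¹ * (Q.sys.rep w)⁻¹) *
        Q.sys.rep w * Q.sys.x (D.simple i) (-(c : F)) * hG Q hi (-c) by group,
    e, strip_right Q hf.bi (hG_mem Q hi _) (Q.sys.x_mem_U hs.2.1 hs.1 _), mul_assoc (h * _),
    strip_left Q hf.bi hh (Q.sys.x_mem_U (Fin.isLt _) hpos t'), ← mul_assoc]

variable {p : ℕ} [Fact p.Prime] [CharP F p] [CharP k p]

include p in
theorem card_F_eq_zero : (Fintype.card F : k) = 0 :=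
  (CharP.cast_eq_zero_iff k p _).2 ((CharP.cast_eq_zero_iff F p _).1 (Nat.cast_card_eq_zero F))

include p in
theorem big_ns (hf : Big Q f) (i : Fin Q.X.n) : Big Q (T Q.sys.U (nG Q.K F i) f) := by
  refine ⟨T_BI hf.bi _, fun y hy => ?_⟩
  obtain ⟨w, hw⟩ := Q.sys.exists_cell y
  suffices hw0 : w = Q.X.w0 by rwa [← hw0]
  by_contra hne
  refine hy ?_
  obtain ⟨u, hu, h, hh, v, hv, rfl⟩ := Q.sys.cell_nf hw
  rw [(T_BI hf.bi _).right v (Q.sys.Uw_le w hv), mul_assoc u, (T_BI hf.bi _).left u hu]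
  have hs := Q.X.good.simple_spec i.isLt
  by_cases hpos : D.nroots / 2 ≤ (Q.X.good.hom w ⟨D.simple i, hs.2.1⟩).val
  · rw [T_ns Q hf.bi]
    have e1 : ∀ τ : F, f (h * Q.sys.rep w * (Q.sys.x (D.simple i) τ * nG Q.K F i)) =
        f (h * Q.sys.rep w * nG Q.K F i) := fun τ => by
      obtain ⟨t', e⟩ := Q.sys.rep_conj w (D.simple i) hs.2.1 τ
      rw [show h * Q.sys.rep w * (Q.sys.x (D.simple i) τ * nG Q.K F i) =
        h * (Q.sys.rep w * Q.sys.x (D.simple i) τ * (Q.sys.rep w)⁻¹) * (Q.sys.rep w * nG Q.K F i) by group,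
        e, strip_left Q hf.bi hh (Q.sys.x_mem_U (Fin.isLt _) hpos t'), mul_assoc]
    simp only [e1, Finset.sum_const, Finset.card_univ, nsmul_eq_mul, card_F_eq_zero Q (p := p), zero_mul]
  · rw [T_ns_neg Q hf i (not_le.1 hpos) hh]
    refine Finset.sum_eq_zero fun c _ => ?_
    by_contra hne'
    exact hne (Q.sys.cell_unique (Q.sys.cell_right_H (hG_mem Q _ _) (cell_nf_rep Q hh w)) (hf.supp _ hne'))

include p in
theorem big_rep : ∀ (w : Q.X.M.Group) {f : ↥(D.group F) → k}, Big Q f → Big Q (T Q.sys.U (Q.sys.rep w) f) := by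
  intro w
  induction hd : Q.X.good.inv w using Nat.strong_induction_on generalizing w with
  | _ d ih =>
    intro f hf
    by_cases hw1 : w = 1
    · subst hw1
      rw [Q.sys.rep_one, show T Q.sys.U 1 f = f from funext fun y => T_one hf.bi y]
      exact hf
    obtain ⟨i, hi, hneg⟩ := Q.X.good.exists_descent hw1
    have hinv := Q.X.good.inv_mul_gen_neg hi hneg
    rw [show Weyl.gen Q.X.M i = Q.X.M.simple ⟨i, hi⟩ from Sys.gen_eq ⟨i, hi⟩] at hinv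
    set s := Q.X.M.simple ⟨i, hi⟩ with hsdef
    obtain ⟨k1, hk1, e⟩ := Q.sys.rep_mul (w * s) s
    rw [mul_assoc, show s * s = 1 from Q.X.M.toCoxeterSystem.simple_mul_simple_self _, mul_one,
      rep_simple] at e
    have e2 : Q.sys.rep w = k1⁻¹ * (Q.sys.rep (w * s) * nG Q.K F i) := by rw [e]; group
    have hg := ih _ (by omega) (w * s) rfl (big_ns Q (p := p) hf ⟨i, hi⟩)
    have hc : T Q.sys.U (Q.sys.rep (w * s) * nG Q.K F i) f =
        T Q.sys.U (Q.sys.rep (w * s)) (T Q.sys.U (nG Q.K F i) f) := by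
      refine T_comp hf.bi ?_
      rw [e, card_orb_mul_left (norm_U Q hk1), card_orb, card_orb,
        show (orb Q.sys.U (nG Q.K F i)).card = Nat.card F from card_orb_ns Q ⟨i, hi⟩, ← hinv, pow_succ]
    rw [e2, show T Q.sys.U (k1⁻¹ * (Q.sys.rep (w * s) * nG Q.K F i)) f =
      fun y => T Q.sys.U (Q.sys.rep (w * s)) (T Q.sys.U (nG Q.K F i) f) (y * k1⁻¹) from funext fun y => by
        rw [T_mul_left hf.bi (norm_U Q (inv_mem hk1)), hc]]
    exact hg.mul_right Q (inv_mem hk1)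

include p in
theorem T_w0_const (hf : Big Q f) {s : ↥(D.group F)} (hs : s ∈ Q.sys.H) :
    T Q.sys.U (n0 Q) f (n0 Q * s) = T Q.sys.U (n0 Q) f (n0 Q) := by
  have key : ∀ i (hi : i < D.rank) (c : Fˣ), ∀ s ∈ Q.sys.H,
      T Q.sys.U (n0 Q) f (n0 Q * (s * hG Q hi c)) = T Q.sys.U (n0 Q) f (n0 Q * s) := by
    intro i hi c s hs
    have hin : i < Q.X.n := Q.rank_eq ▸ hi
    have hsp := Q.X.good.simple_spec hin
    set r := Q.X.M.simple ⟨i, hin⟩ with hr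
    obtain ⟨k1, hk1, e⟩ := Q.sys.rep_mul r (r * Q.X.w0)
    rw [← mul_assoc r, show r * r = 1 from Q.X.M.toCoxeterSystem.simple_mul_simple_self _, one_mul,
      rep_simple] at e
    have hinv := Q.X.good.inv_mul_gen_neg (g := Q.X.w0) hin (Q.X.w0_neg hsp.2.1 hsp.1)
    rw [show Weyl.gen Q.X.M i = r from Sys.gen_eq ⟨i, hin⟩] at hinv
    have hinv' : Q.X.good.inv (r * Q.X.w0) + 1 = Q.X.good.inv Q.X.w0 := by
      rw [← inv_inv', _root_.mul_inv_rev, w0_inv,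
        show r⁻¹ = r from inv_eq_of_mul_eq_one_right (Q.X.M.toCoxeterSystem.simple_mul_simple_self _)]
      exact hinv
    have hcomp : T Q.sys.U (nG Q.K F i * Q.sys.rep (r * Q.X.w0)) f =
        T Q.sys.U (nG Q.K F i) (T Q.sys.U (Q.sys.rep (r * Q.X.w0)) f) := by
      refine T_comp hf.bi ?_
      rw [e, card_orb_mul_left (norm_U Q hk1), card_orb, card_orb,
        show (orb Q.sys.U (nG Q.K F i)).card = Nat.card F from card_orb_ns Q ⟨i, hin⟩, ← hinv', pow_succ']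
    set g := T Q.sys.U (Q.sys.rep (r * Q.X.w0)) f with hg
    have hgB : Big Q g := big_rep Q (p := p) _ hf
    have hval : ∀ t ∈ Q.sys.H, T Q.sys.U (n0 Q) f (n0 Q * t) =
        ∑ d : Fˣ, g (n0 Q * (t * k1⁻¹) * hG Q hi (-d)) := by
      intro t ht
      have e2 : n0 Q = k1⁻¹ * (nG Q.K F i * Q.sys.rep (r * Q.X.w0)) := by rw [e, n0]; group
      conv_lhs => arg 2; rw [e2]
      rw [T_mul_left hf.bi (norm_U Q (inv_mem hk1)), hcomp, mul_assoc]
      have hk : t * k1⁻¹ ∈ Q.sys.H := mul_mem ht (inv_mem hk1)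
      have hh : n0 Q * (t * k1⁻¹) * (n0 Q)⁻¹ ∈ Q.sys.H := Q.sys.rep_conj_H _ hk
      rw [show n0 Q * (t * k1⁻¹) = n0 Q * (t * k1⁻¹) * (n0 Q)⁻¹ * Q.sys.rep Q.X.w0 by rw [n0]; group]
      exact T_ns_neg Q hgB ⟨i, hin⟩ (Q.X.w0_neg hsp.2.1 hsp.1) hh
    rw [hval _ (mul_mem hs (hG_mem Q hi c)), hval _ hs]
    refine Fintype.sum_equiv (Equiv.mulLeft c) _ _ fun d => ?_
    have hd : hG Q hi (-(c * d)) = hG Q hi c * hG Q hi (-d) := by rw [← mul_neg, hG_mul]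
    rw [Equiv.coe_mulLeft, hd, mul_assoc s, H_comm Q (hG_mem Q hi c) (inv_mem hk1)]
    simp only [mul_assoc]
  have hgen : ∀ t ∈ Q.sys.H, ∀ s ∈ Q.sys.H,
      T Q.sys.U (n0 Q) f (n0 Q * (s * t)) = T Q.sys.U (n0 Q) f (n0 Q * s) := by
    intro t ht
    have ht' : (t : GL D.Idx F) ∈ D.diagonalSubgroup F := ht
    rw [Q.K.diagonalSubgroup_eq F] at ht'
    obtain ⟨c, hc⟩ := ht'
    rw [Q.K.torus_eq_prod] at hc
    have e : t = ((List.finRange D.rank).map fun m : Fin D.rank => hG Q m.isLt (c m)).prod := by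
      refine Subtype.ext ?_
      rw [SubmonoidClass.coe_list_prod, List.map_map]
      exact hc.symm
    rw [e]
    clear e hc ht t
    induction List.finRange D.rank with
    | nil => intro s _; rw [List.map_nil, List.prod_nil, mul_one]
    | cons m l ih =>
      intro s hs
      rw [List.map_cons, List.prod_cons, ← mul_assoc s, ih _ (mul_mem hs (hG_mem Q m.isLt (c m))),
        key _ m.isLt (c m) s hs]
  have h := hgen s hs 1 (one_mem _)
  simpa using h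

include p in
theorem conv_const {A B : ↥(D.group F) → k} (hA : Big Q A) (hB : Big Q B) {s : ↥(D.group F)}
    (hs : s ∈ Q.sys.H) : conv Q.sys.U A B (n0 Q * s) = conv Q.sys.U A B (n0 Q) := by
  rw [conv_eq_sum hB.bi, conv_eq_sum hB.bi]
  refine Finset.sum_congr rfl fun O hO => ?_
  obtain ⟨q0, -, rfl⟩ := Finset.mem_image.1 hO
  rw [fiber_sum hB.bi, fiber_sum hB.bi]
  by_cases h0 : B q0.out⁻¹ = 0
  · rw [h0, mul_zero, mul_zero]
  have hc := Q.sys.cell_inv (hB.supp _ h0)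
  rw [inv_inv, w0_inv] at hc
  obtain ⟨u, hu, h, hh, u', hu', h', hh', e⟩ := hc
  have ho : orb Q.sys.U q0.out = orb Q.sys.U (h * n0 Q * h') := by
    refine orb_congr ?_
    rw [← QuotientGroup.out_eq' q0, mem_orb]
    refine ⟨u, hu, QuotientGroup.eq.2 ?_⟩
    rw [e, n0, show (u * (h * Q.sys.rep Q.X.w0 * h'))⁻¹ * (u * h * Q.sys.rep Q.X.w0 * (u' * h')) =
      h'⁻¹ * u' * h'⁻¹⁻¹ by group]
    exact Q.sys.H_conj_U (inv_mem hh') hu'
  have hT : ∀ t ∈ Q.sys.H, T Q.sys.U q0.out A (n0 Q * t) =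
      T Q.sys.U (n0 Q) (fun x => A (x * h')) (n0 Q) := by
    intro t ht
    rw [show T Q.sys.U q0.out A (n0 Q * t) = T Q.sys.U (h * n0 Q * h') A (n0 Q * t) by rw [T, T, ho],
      mul_assoc h, T_mul_left hA.bi (norm_U Q hh), T_mul_right hA.bi (norm_U Q hh'), mul_assoc,
      T_w0_const Q (p := p) (hA.mul_right Q hh') (mul_mem ht hh)]
  rw [hT s hs]
  have h1 := hT 1 (one_mem _)
  rw [mul_one] at h1
  rw [h1]

theorem isPGroup_U : IsPGroup p ↥Q.sys.U := by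
  obtain ⟨n, -, hn⟩ := FiniteField.card F p
  refine IsPGroup.of_card (n := n * (D.nroots / 2)) ?_
  rw [pow_mul, ← hn, ← Nat.card_eq_fintype_card (α := F)]
  exact Q.card_U

include p in
theorem big_cs {a : ↥(D.group F) → k} (ha : IsDZ p a) : Big Q (cs Q.sys.U a) := by
  refine ⟨cs_BI ha, fun x hx => ?_⟩
  obtain ⟨w, hw⟩ := Q.sys.exists_cell x
  suffices hw0 : w = Q.X.w0 by rwa [← hw0]
  by_contra hne
  refine hx ?_
  obtain ⟨u, hu, h, hh, v, hv, rfl⟩ := Q.sys.cell_nf hw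
  rw [(cs_BI ha).right v (Q.sys.Uw_le w hv), mul_assoc u, (cs_BI ha).left u hu]
  obtain ⟨r, hr, hp, hpos⟩ : ∃ r, ∃ hr : r < D.nroots, D.nroots / 2 ≤ r ∧
      D.nroots / 2 ≤ (Q.X.good.hom w ⟨r, hr⟩).val := by
    by_contra hcon
    exact hne (full_eq Q fun r hr hp => not_le.1 fun hle => hcon ⟨r, hr, hp, hle⟩)
  obtain ⟨t', e⟩ := Q.sys.rep_conj w r hr 1
  refine cs_eq_zero (isPGroup_U Q) ha (Q.sys.x_mem_U hr hp 1) (Q.sys.x_one_ne hr hp) ?_
  rw [show h * Q.sys.rep w * Q.sys.x r 1 * (h * Q.sys.rep w)⁻¹ =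
    h * (Q.sys.rep w * Q.sys.x r 1 * (Q.sys.rep w)⁻¹) * h⁻¹ by group, e]
  exact Q.sys.H_conj_U hh (Q.sys.x_mem_U (Fin.isLt _) hpos t')

include p in
theorem eq_scalar {A : ↥(D.group F) → k} (hA : Big Q A)
    (hc : ∀ s ∈ Q.sys.H, A (n0 Q * s) = A (n0 Q)) (x : ↥(D.group F)) :
    A x = if x ∈ Q.sys.cell Q.X.w0 then A (n0 Q) else 0 := by
  split_ifs with hx
  · obtain ⟨u, hu, h, hh, v, hv, rfl⟩ := Q.sys.cell_nf hx
    rw [hA.bi.right v (Q.sys.Uw_le _ hv), mul_assoc u, hA.bi.left u hu]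
    have hs : (n0 Q)⁻¹ * h * n0 Q ∈ Q.sys.H := Q.amb.n_conj_H' Q.X.w0 hh
    rw [← hc _ hs]
    congr 1
    rw [n0]; group
  · by_contra h0
    exact hx (hA.supp x h0)

include p in
theorem not_orthogonal {a b : ↥(D.group F) → k} (ha : IsDZ p a) (hb : IsDZ p b)
    (hab : ∀ y, ∑ x, a x * b (x⁻¹ * y) = 0) : False := by
  have hA := big_cs Q ha
  have hB := big_cs Q hb
  set A := cs Q.sys.U a with hAdef
  set B := cs Q.sys.U b with hBdef
  have hcA : ∀ y, A y = conv Q.sys.U A A y := fun y => by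
    rw [hAdef, ← cs_conv ha ha]
    simp only [ha.idem]
    rfl
  have hcB : ∀ y, B y = conv Q.sys.U B B y := fun y => by
    rw [hBdef, ← cs_conv hb hb]
    simp only [hb.idem]
    rfl
  have hA0 : ∀ x, A x = if x ∈ Q.sys.cell Q.X.w0 then A (n0 Q) else 0 :=
    eq_scalar Q (p := p) hA fun s hs => by rw [hcA, conv_const Q (p := p) hA hA hs, ← hcA]
  have hB0 : ∀ x, B x = if x ∈ Q.sys.cell Q.X.w0 then B (n0 Q) else 0 :=
    eq_scalar Q (p := p) hB fun s hs => by rw [hcB, conv_const Q (p := p) hB hB hs, ← hcB]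
  have hne : ∀ {c : ↥(D.group F) → k}, IsDZ p c →
      (∀ x, cs Q.sys.U c x = if x ∈ Q.sys.cell Q.X.w0 then cs Q.sys.U c (n0 Q) else 0) →
      cs Q.sys.U c (n0 Q) ≠ 0 := fun {c} hc hc0 h => by
    obtain ⟨x, hx⟩ := exists_cs_ne_zero (isPGroup_U Q) hc
    exact hx (by rw [hc0, h, ite_self])
  set χ : ↥(D.group F) → k := fun x => if x ∈ Q.sys.cell Q.X.w0 then 1 else 0 with hχ
  have hlin : ∀ (C E : ↥(D.group F) → k) (γ ε : k), (∀ x, C x = γ * χ x) → (∀ x, E x = ε * χ x) →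
      conv Q.sys.U C E (n0 Q) = γ * ε * conv Q.sys.U χ χ (n0 Q) := by
    intro C E γ ε hC hE
    simp only [SDZ.conv, hC, hE, Finset.mul_sum]
    exact Finset.sum_congr rfl fun q _ => by ring
  have hA' : ∀ x, A x = A (n0 Q) * χ x := fun x => by rw [hA0 x, hχ]; simp
  have hB' : ∀ x, B x = B (n0 Q) * χ x := fun x => by rw [hB0 x, hχ]; simp
  have h1 := hcA (n0 Q)
  rw [hlin A A _ _ hA' hA'] at h1
  have h2 : conv Q.sys.U A B (n0 Q) = 0 := by
    rw [hAdef, hBdef, ← cs_conv ha hb]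
    simp [hab]
  rw [hlin A B _ _ hA' hB'] at h2
  have hα : A (n0 Q) ≠ 0 := hne ha hA0
  have hβ : B (n0 Q) ≠ 0 := hne hb hB0
  have hX : conv Q.sys.U χ χ (n0 Q) = 0 := by
    rcases mul_eq_zero.1 h2 with h | h
    · exact absurd h (mul_ne_zero hα hβ)
    · exact h
  rw [hX, mul_zero] at h1
  exact hα h1

end Cfsg.Agent.H54.ChevDZ
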