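import Cfsg.Agent.H54.BNUnipotentCount
import Cfsg.Agent.H54.ChevSylow
import Cfsg.Agent.H37.Chev.Parabolic

/-!
The number of unipotent elements of a split Chevalley group.
-/

set_option autoImplicit false
set_option linter.unusedSectionVars false

open scoped Classical

namespace Cfsg.Agent.H54.ChevUnip

open Cfsg.Agent.H28 BNC
open Cfsg.Lie Cfsg.Agent.H37.RootSys
open Cfsg.Agent.H37.Chev (Sup)

theorem len_split {G : Type*} [Group G] {P : Cfsg.BNPair G} {m y : G} (hm : m ∈ P.N) (h : AllDesc P m)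
    (hy : y ∈ P.N) : len P m = len P (m * y) + len P y := by
  have := len_eq_add_of_allDesc hm h (inv_mem hy)
  rwa [inv_inv, len_inv hy] at this

theorem n0_inv_allDesc {G : Type*} [Group G] [Finite G] (P : Cfsg.BNPair G) :
    AllDesc P (BNSt.n0 P)⁻¹ := by
  intro s hs
  have hn := BNSt.n0_mem P
  have h := len_inv_mul (n := (BNSt.n0 P)⁻¹) (inv_mem hn) hs
  rw [inv_inv] at h
  rw [← h, len_inv hn]
  exact BNSt.n0_left P hs

variable {D : ChevalleyDatum} {F : Type*} [Field F] [Fintype F] (Q : H37.Chev.Data D F)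
include Q

/-- The indices of a set of distinguished generators. -/
def idxSet (J : Finset ↥(D.group F)) : Set ℕ := {i | i < D.rank ∧ nG Q.K F i ∈ J}

/-- The radical inside the group. -/
def rad (J : Finset ↥(D.group F)) : Subgroup ↥(D.group F) :=
  (D.unipotentRadical F (idxSet Q J)).subgroupOf (D.group F)

variable {Q} {J : Finset ↥(D.group F)}

theorem exists_index (hJ : (J : Set ↥(D.group F)) ⊆ Q.amb.pair.S) {x : ↥(D.group F)} (hx : x ∈ J) :
    ∃ i, i < D.rank ∧ x = nG Q.K F i := by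
  have h : x ∈ Q.amb.n '' Q.amb.S := hJ hx
  rw [Q.amb_S] at h
  obtain ⟨i, hi, e⟩ := h
  exact ⟨i, hi, Subtype.ext (Units.ext (e.trans (Q.K.coe_nU F _ _).symm))⟩

theorem rad_le : rad Q J ≤ Q.amb.U := by
  rw [Q.amb_U]
  intro x hx
  have hle : D.unipotentRadical F (idxSet Q J) ≤ D.posUnipotent F := (Subgroup.closure_le _).2
    fun _ ⟨r, t, h1, _, h3⟩ => Subgroup.subset_closure ⟨r, t, h1, h3⟩
  exact Subgroup.mem_subgroupOf.2 (hle (Subgroup.mem_subgroupOf.1 hx))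

theorem rad_norm (hS : Sup Q.X.C D Q.X.n) (hJ : (J : Set ↥(D.group F)) ⊆ Q.amb.pair.S) {x : ↥(D.group F)}
    (hx : x ∈ Q.amb.pair.parabolic (J : Set ↥(D.group F))) {u : ↥(D.group F)} (hu : u ∈ rad Q J) :
    x * u * x⁻¹ ∈ rad Q J := by
  have hx' : (x : GL D.Idx F) ∈ D.parabolicSubgroup F (idxSet Q J) := by
    have hle : Q.amb.pair.parabolic (J : Set ↥(D.group F)) ≤
        (D.parabolicSubgroup F (idxSet Q J)).comap (D.group F).subtype := by
      refine sup_le ?_ ((Subgroup.closure_le _).2 fun y hy => ?_)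
      · rw [show Q.amb.pair.B = Q.amb.B from rfl, Q.amb_B]
        exact fun y hy => Subgroup.mem_sup_left (Subgroup.mem_subgroupOf.1 hy)
      · obtain ⟨i, hi, rfl⟩ := exists_index hJ hy
        exact Subgroup.mem_sup_right (Subgroup.subset_closure ⟨i, ⟨hi, hy⟩, hi, Q.K.coe_nU F _ _⟩)
    exact hle hx
  exact Subgroup.mem_subgroupOf.2
    ((Subgroup.mem_normalizer_iff.1 (Q.parabolic_le_normalizer hS hx') _).1 (Subgroup.mem_subgroupOf.1 hu))

theorem x_neg_not_B {r : ℕ} (hr : r < D.nroots) (hn : r < D.nroots / 2) {t : F}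
    (h : Q.sys.x r t ∈ Q.amb.B) : Q.sys.x r t = 1 := by
  obtain ⟨u, hu, h', hh', e⟩ := h
  exact Q.sys.UHV u hu h' hh' _ (x_mem_XS (Finset.mem_coe.2 (mem_negSet.2 ⟨hr, hn⟩)) t) e.symm

/-- A positive conjugate of a simple root element excludes a descent. -/
theorem not_descent (hJ : (J : Set ↥(D.group F)) ⊆ Q.amb.pair.S)
    {y : ↥(Q.amb.pair.parabolic (J : Set ↥(D.group F)))} (hy : y ∈ (BNRes.sub Q.amb.pair hJ).N) {i : ℕ}
    (hi : i < Q.X.n) (hiJ : nG Q.K F i ∈ J) {t : F} (ht : Q.sys.x (D.simple i) t ≠ 1)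
    (hpos : (y : ↥(D.group F)) * Q.sys.x (D.simple i) t * (y : ↥(D.group F))⁻¹ ∈ Q.amb.U) :
    len (BNRes.sub Q.amb.pair hJ) y <
      len (BNRes.sub Q.amb.pair hJ) (y * ⟨nG Q.K F i, BNRes.subset_parabolic Q.amb.pair hiJ⟩) := by
  set P' := BNRes.sub Q.amb.pair hJ with hP'
  set s : ↥(Q.amb.pair.parabolic (J : Set ↥(D.group F))) := ⟨nG Q.K F i, BNRes.subset_parabolic Q.amb.pair hiJ⟩
  have hs : s ∈ P'.S := hiJ
  have hsp := Q.X.good.simple_spec hi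
  have hxU : Q.sys.x (D.simple i) t ∈ Q.amb.U := Q.sys.x_mem_U hsp.2.1 hsp.1 t
  set b : ↥(Q.amb.pair.parabolic (J : Set ↥(D.group F))) := ⟨_, B_le_parabolic (Q.amb.U_le_B hxU)⟩
  have hb : b ∈ P'.B := Q.amb.U_le_B hxU
  by_contra hcon
  have hsbs : s⁻¹ * b * s ∈ dc P' s := by
    rcases axiom_left hs (P'.subset hs) hb with h | h
    · exfalso
      rw [dc_of_mem_B (P'.sq_mem s hs), mem_dc_one] at h
      obtain ⟨t', e⟩ := Q.sys.n_conj i hi (D.simple i) hsp.2.1 t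
      have h2 : s * b * s⁻¹ ∈ P'.B := by
        have := mul_mem h (inv_mem (P'.sq_mem s hs))
        rwa [show s * b * s * (s * s)⁻¹ = s * b * s⁻¹ by group] at this
      have h3 : Q.sys.ns i * Q.sys.x (D.simple i) t * (Q.sys.ns i)⁻¹ ∈ Q.amb.B := h2
      rw [e] at h3
      rw [x_neg_not_B (Q.X.good.sigma_spec hi hsp.2.1).1 hsp.2.2 h3] at e
      exact ht (conj_eq_one_iff.1 e)
    · have := left_mem_dc (sq_inv_mem_B hs) h
      rwa [show (s * s)⁻¹ * (s * b * s) = s⁻¹ * b * s by group] at this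
  have hys : y * s ∈ P'.N := mul_mem hy (P'.subset hs)
  have hlen : len P' y = len P' (y * s) + len P' s := by
    have h1 := len_cases_right hs hy
    have h2 := len_S hs
    omega
  have hadd : len P' (y * s * s) = len P' (y * s) + len P' s := by
    rw [← hlen]
    refine len_congr ?_
    rw [show y⁻¹ * (y * s * s) = s * s by group]
    exact P'.sq_mem s hs
  have h1 := mul_mem_dc_additive hys (P'.subset hs) hadd (self_mem_dc P' _) hsbs
  rw [mul_assoc y s s, dc_mul_right _ (P'.sq_mem s hs),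
    show y * s * (s⁻¹ * b * s) = y * b * y⁻¹ * (y * s) by group] at h1
  have hB : y * b * y⁻¹ ∈ P'.B := Q.amb.U_le_B hpos
  have h2 : y * b * y⁻¹ * (y * s) ∈ dc P' (y * s) := left_mem_dc hB (self_mem_dc P' _)
  have h3 := dc_inj' hys hy h2 h1
  refine S_not_mem_B hs ?_
  first
    | (have := inv_mem h3
       rwa [show ((y * s)⁻¹ * y)⁻¹ = s by group] at this)
    | (rwa [show y⁻¹ * (y * s) = s by group] at h3)

/-- A positive root of the Levi part is a conjugate of a simple one inside the parabolic. -/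
theorem exists_conj (hS : Sup Q.X.C D Q.X.n) (hJ : (J : Set ↥(D.group F)) ⊆ Q.amb.pair.S) :
    ∀ r, D.nroots / 2 ≤ r → D.InRootSub (idxSet Q J) r →
      ∃ c : ↥(Q.amb.pair.parabolic (J : Set ↥(D.group F))), c ∈ (BNRes.sub Q.amb.pair hJ).N ∧
        ∃ i, i < Q.X.n ∧ nG Q.K F i ∈ J ∧ ∀ t, ∃ t', Q.sys.x r t =
          (c : ↥(D.group F)) * Q.sys.x (D.simple i) t' * (c : ↥(D.group F))⁻¹ := by
  intro r
  induction r using Nat.strong_induction_on with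
  | _ r ih =>
    intro hp hr
    rcases H37.Chev.descend Q.X.good Q.K hS hr hp with ⟨i, hi, hiJ, rfl⟩ | ⟨i, hi, hiJ, h1, h2, h3⟩
    · exact ⟨1, one_mem _, i, hi, hiJ.2, fun t => ⟨t, by simp⟩⟩
    · obtain ⟨c, hc, j, hj, hjJ, hconj⟩ := ih _ h1 h2 h3
      set s : ↥(Q.amb.pair.parabolic (J : Set ↥(D.group F))) :=
        ⟨nG Q.K F i, BNRes.subset_parabolic Q.amb.pair hiJ.2⟩
      refine ⟨s * c, mul_mem ((BNRes.sub Q.amb.pair hJ).subset hiJ.2) hc, j, hj, hjJ, fun t => ?_⟩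
      obtain ⟨t1, e1⟩ := Q.sys.n_conj i hi r hr.1 t
      obtain ⟨t2, e2⟩ := Q.sys.h_conj _ (inv_mem (Q.sys.sq i hi)) _ (Q.X.good.sigma_spec hi hr.1).1 t1
      obtain ⟨t', e3⟩ := hconj t2
      refine ⟨t', ?_⟩
      have e4 : Q.sys.ns i * Q.sys.x (Q.X.C.sigma i r) t2 * (Q.sys.ns i)⁻¹ = Q.sys.x r t := by
        rw [← e2, ← e1]; group
      rw [← e4, e3]
      show _ = Q.sys.ns i * (c : ↥(D.group F)) * _ * (Q.sys.ns i * (c : ↥(D.group F)))⁻¹
      group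

/-- The longest element of `P_J` sends the positive Levi roots to negative ones. -/
theorem levi_neg (hS : Sup Q.X.C D Q.X.n) (hJ : (J : Set ↥(D.group F)) ⊆ Q.amb.pair.S) {r : ℕ}
    (hp : D.nroots / 2 ≤ r) (hr : D.InRootSub (idxSet Q J) r) (t : F) :
    (BNSt.n0 (BNRes.sub Q.amb.pair hJ)).1⁻¹ *
        Q.sys.x r t * (BNSt.n0 (BNRes.sub Q.amb.pair hJ)).1 ∈
      XS Q.sys.x (↑(negSet D) : Set ℕ) := by
  set P' := BNRes.sub Q.amb.pair hJ with hP'
  set m := (BNSt.n0 P')⁻¹ with hm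
  have hmN : m ∈ P'.N := inv_mem (BNSt.n0_mem P')
  obtain ⟨h, hh, w, e⟩ : (m : ↥(D.group F)) ∈ Q.amb.N := BNRes.mem_sub_N Q.amb.pair hJ hmN
  have e' : (m : ↥(D.group F)) = h * Q.sys.rep w := e
  have hconj : ∀ t, ∃ t', (m : ↥(D.group F)) * Q.sys.x r t * (m : ↥(D.group F))⁻¹ =
      Q.sys.x (Q.X.good.hom w ⟨r, hr.1⟩).val t' := fun t => by
    obtain ⟨t1, e1⟩ := Q.sys.rep_conj w r hr.1 t
    obtain ⟨t2, e2⟩ := Q.sys.h_conj h hh _ (Fin.isLt _) t1
    exact ⟨t2, by rw [e', ← e2, ← e1]; group⟩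
  have hneg : (Q.X.good.hom w ⟨r, hr.1⟩).val < D.nroots / 2 := by
    by_contra hpos
    obtain ⟨c, hc, i, hi, hiJ, hcc⟩ := exists_conj hS hJ r hp hr
    obtain ⟨τ, hτ⟩ := hcc 1
    have hτ1 : Q.sys.x (D.simple i) τ ≠ 1 := fun e1 => Q.sys.x_one_ne hr.1 hp (by rw [hτ, e1]; group)
    have hposc : (c : ↥(D.group F)) * Q.sys.x (D.simple i) τ * (c : ↥(D.group F))⁻¹ ∈ Q.amb.U := by
      rw [← hτ]; exact Q.sys.x_mem_U hr.1 hp 1
    have h1 := not_descent hJ hc hi hiJ hτ1 hposc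
    have hposm : ((m * c : ↥(Q.amb.pair.parabolic (J : Set ↥(D.group F)))) : ↥(D.group F)) *
        Q.sys.x (D.simple i) τ * ((m * c : ↥(Q.amb.pair.parabolic (J : Set ↥(D.group F)))) : ↥(D.group F))⁻¹ ∈
        Q.amb.U := by
      obtain ⟨t', e1⟩ := hconj 1
      have hU : Q.sys.x (Q.X.good.hom w ⟨r, hr.1⟩).val t' ∈ Q.amb.U :=
        Q.sys.x_mem_U (Fin.isLt _) (not_lt.1 hpos) t'
      rw [← e1, hτ] at hU
      rw [Subgroup.coe_mul]
      simpa [mul_assoc] using hU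
    have hs : (⟨nG Q.K F i, BNRes.subset_parabolic Q.amb.pair hiJ⟩ :
        ↥(Q.amb.pair.parabolic (J : Set ↥(D.group F)))) ∈ P'.S := hiJ
    have h2 := not_descent hJ (mul_mem hmN hc) hi hiJ hτ1 hposm
    have h3 := len_split hmN (n0_inv_allDesc P') hc
    have h4 := len_split hmN (n0_inv_allDesc P') (mul_mem hc (P'.subset hs))
    rw [← mul_assoc] at h4
    simp only [hP'] at h1 h2 h3 h4
    omega
  obtain ⟨t', e1⟩ := hconj t
  have e2 : ((m : ↥(D.group F)))⁻¹ = (BNSt.n0 P').1 := by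
    rw [hm, Subgroup.coe_inv, inv_inv]
  rw [← e2, inv_inv, e1]
  exact x_mem_XS (Finset.mem_coe.2 (mem_negSet.2 ⟨Fin.isLt _, hneg⟩)) t'

theorem XS_le_rad : XS Q.sys.x {r | r ∈ posSet D ∧ ¬ D.InRootSub (idxSet Q J) r} ≤ rad Q J := by
  refine XS_le fun r hr t => ?_
  obtain ⟨h1, h2⟩ := mem_posSet.1 hr.1
  exact Subgroup.mem_subgroupOf.2 (Subgroup.subset_closure
    ⟨r, t, (Q.ord.isPosRoot_iff r).2 ⟨h1, h2⟩, hr.2, Q.K.coe_xU F r t⟩)

/-- `B` meets its conjugate by the longest element of `P_J` in `R H`. -/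
theorem eq_mul (hS : Sup Q.X.C D Q.X.n) (hJ : (J : Set ↥(D.group F)) ⊆ Q.amb.pair.S) {x : ↥(D.group F)}
    (hx : x ∈ Q.amb.B)
    (hx' : (BNSt.n0 (BNRes.sub Q.amb.pair hJ)).1⁻¹ * x *
      (BNSt.n0 (BNRes.sub Q.amb.pair hJ)).1 ∈ Q.amb.B) :
    ∃ u ∈ rad Q J, ∃ h ∈ Q.amb.H, x = u * h := by
  set P' := BNRes.sub Q.amb.pair hJ with hP'
  obtain ⟨n, hn⟩ : ∃ n, n = (BNSt.n0 P').1 := ⟨_, rfl⟩
  rw [← hn] at hx'
  obtain ⟨u, hu, h, hh, rfl⟩ := hx
  have hnN : n ∈ Q.amb.pair.N := hn ▸ BNRes.mem_sub_N Q.amb.pair hJ (BNSt.n0_mem P')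
  have hhB : n⁻¹ * h * n ∈ Q.amb.B := (conj_T' hnN (Subgroup.mem_inf.2
    ⟨Q.amb.H_le_B hh, Q.amb.H_le_N hh⟩)).1
  have huB : n⁻¹ * u * n ∈ Q.amb.B := by
    have := mul_mem hx' (inv_mem hhB)
    rwa [show n⁻¹ * (u * h) * n * (n⁻¹ * h * n)⁻¹ = n⁻¹ * u * n by group] at this
  obtain ⟨a, ha, c, hc, rfl⟩ := Q.sys.toUnip.exists_split (Q.sys.P_eq ▸ Q.sys.toUnip.closed_P)
    {r | r ∈ posSet D ∧ ¬ D.InRootSub (idxSet Q J) r}
    {r | r ∈ posSet D ∧ D.InRootSub (idxSet Q J) r}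
    (fun r hr => (em (D.InRootSub (idxSet Q J) r)).elim (fun e => Or.inr ⟨hr, e⟩) fun e => Or.inl ⟨hr, e⟩)
    (show u ∈ XS Q.sys.x (↑(posSet D) : Set ℕ) from hu)
  have haR : a ∈ rad Q J := XS_le_rad ha
  have hnP : n ∈ Q.amb.pair.parabolic (J : Set ↥(D.group F)) := hn ▸ (BNSt.n0 P').2
  have haB : n⁻¹ * a * n ∈ Q.amb.B := by
    have := rad_norm hS hJ (inv_mem hnP) haR
    rw [inv_inv] at this
    exact Q.amb.U_le_B (rad_le this)
  have hcB : n⁻¹ * c * n ∈ Q.amb.B := by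
    have := mul_mem (inv_mem haB) huB
    rwa [show (n⁻¹ * a * n)⁻¹ * (n⁻¹ * (a * c) * n) = n⁻¹ * c * n by group] at this
  have hcV : n⁻¹ * c * n⁻¹⁻¹ ∈ XS Q.sys.x (↑(negSet D) : Set ℕ) := conj_mem_XS (fun r hr t => by
    obtain ⟨h1, h2⟩ := mem_posSet.1 hr.1
    have := levi_neg hS hJ h2 hr.2 t
    rw [← hn] at this
    rwa [inv_inv]) hc
  rw [inv_inv] at hcV
  obtain ⟨u', hu', h', hh', e⟩ := hcB
  have h1 := Q.sys.UHV u' hu' h' hh' _ hcV e.symm
  have hc1 : c = 1 := by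
    have h2 : n * (n⁻¹ * c * n) * n⁻¹ = c := by group
    rw [← h2, h1]; group
  exact ⟨a, haR, h, hh, by rw [hc1, mul_one]⟩

theorem local_data (hS : Sup Q.X.C D Q.X.n) (hJ : (J : Set ↥(D.group F)) ⊆ Q.amb.pair.S) :
    BNCount.Local Q.amb.pair Q.amb.U J hJ (rad Q J) := by
  set P' := BNRes.sub Q.amb.pair hJ with hP'
  set K := (P'.B ⊓ P'.B.map (MulAut.conj (BNSt.n0 P')).toMonoidHom).subgroupOf P'.B with hK
  have hnN := BNRes.mem_sub_N Q.amb.pair hJ (BNSt.n0_mem P')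
  have memK : ∀ b : ↥P'.B, b ∈ K ↔ ∃ u ∈ rad Q J, ∃ h ∈ Q.amb.H, ((b : ↥(Q.amb.pair.parabolic (J : Set ↥(D.group F)))) : ↥(D.group F)) = u * h := by
    intro b
    rw [hK, Subgroup.mem_subgroupOf, Subgroup.mem_inf, Subgroup.mem_map_equiv, MulAut.conj_symm_apply]
    constructor
    · rintro ⟨h1, h2⟩
      exact eq_mul hS hJ h1 h2
    · rintro ⟨u, hu, h, hh, e⟩
      refine ⟨b.2, ?_⟩
      show (((BNSt.n0 P')⁻¹ * (b : ↥(Q.amb.pair.parabolic (J : Set ↥(D.group F)))) * BNSt.n0 P' : ↥(Q.amb.pair.parabolic (J : Set ↥(D.group F)))) : ↥(D.group F)) ∈ Q.amb.B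
      rw [Subgroup.coe_mul, Subgroup.coe_mul, Subgroup.coe_inv, e]
      have hu' := rad_norm hS hJ (inv_mem (BNSt.n0 P').2) hu
      rw [inv_inv] at hu'
      have hh' := (conj_T' hnN (Subgroup.mem_inf.2 ⟨Q.amb.H_le_B hh, Q.amb.H_le_N hh⟩)).1
      have := mul_mem (Q.amb.U_le_B (rad_le hu')) hh'
      simpa [mul_assoc] using this
  have hdeg : (K.index : ℂ) = BNCount.deg Q.amb.pair J := by
    rw [← BNCount.st_sub_one Q.amb.pair hJ, BNSt.st_one]
  have hUB : ∀ z : ↥P'.B, ∀ u ∈ Q.amb.U, ((z : ↥(Q.amb.pair.parabolic (J : Set ↥(D.group F)))) : ↥(D.group F)) * u * ((z : ↥(Q.amb.pair.parabolic (J : Set ↥(D.group F)))) : ↥(D.group F))⁻¹ ∈ Q.amb.U := by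
    intro z u hu
    obtain ⟨a, ha, h, hh, e⟩ := (z.2 : ((z : ↥(Q.amb.pair.parabolic (J : Set ↥(D.group F)))) : ↥(D.group F)) ∈ Q.amb.B)
    have e' : z.1.1 = a * h := e
    rw [e', show a * h * u * (a * h)⁻¹ = a * (h * u * h⁻¹) * a⁻¹ by group]
    exact mul_mem (mul_mem ha (Q.amb.H_conj_U h hh u hu)) (inv_mem ha)
  refine ⟨rad_le, fun x hx u hu => rad_norm hS hJ hx hu, fun u hu huR => ?_, fun u hu => ?_, ?_⟩
  · have hb : u ∈ P'.B := Q.amb.U_le_B hu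
    rw [show u = ((⟨u, hb⟩ : ↥P'.B) : ↥(Q.amb.pair.parabolic (J : Set ↥(D.group F)))) from rfl, BNSt.st_B, fixedPointCharacter, Nat.cast_eq_zero,
      Nat.card_eq_zero]
    refine Or.inl ⟨fun ⟨c, hc⟩ => ?_⟩
    induction c using QuotientGroup.induction_on with
    | H z =>
      rw [MulAction.mem_fixedBy, MulAction.Quotient.smul_coe, smul_eq_mul, QuotientGroup.eq] at hc
      obtain ⟨r, hr, h, hh, e⟩ := (memK _).1 hc
      set z' := ((z : ↥(Q.amb.pair.parabolic (J : Set ↥(D.group F)))) : ↥(D.group F))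
      have e' : ((u : ↥(D.group F)) * z')⁻¹ * z' = r * h := e
      have hU' : z'⁻¹ * (u : ↥(D.group F))⁻¹ * z'⁻¹⁻¹ ∈ Q.amb.U := by
        have := hUB z⁻¹ _ (inv_mem hu)
        simpa using this
      rw [show z'⁻¹ * (u : ↥(D.group F))⁻¹ * z'⁻¹⁻¹ = r * h by rw [← e']; group] at hU'
      have hh1 : h = 1 := Q.sys.UH h (by
        have := mul_mem (inv_mem (rad_le hr)) hU'
        rwa [inv_mul_cancel_left] at this) hh
      rw [hh1, mul_one] at e'
      refine huR ?_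
      have h3 := inv_mem (rad_norm hS hJ (z : ↥(Q.amb.pair.parabolic (J : Set ↥(D.group F)))).2 hr)
      rw [← e', show (z' * ((↑u * z')⁻¹ * z') * z'⁻¹)⁻¹ = (u : ↥(D.group F)) by group] at h3
      exact h3
  · have hb : u ∈ P'.B := Q.amb.U_le_B (rad_le hu)
    rw [show u = ((⟨u, hb⟩ : ↥P'.B) : ↥(Q.amb.pair.parabolic (J : Set ↥(D.group F)))) from rfl, BNSt.st_B, fixedPointCharacter, ← hdeg]
    congr 1
    rw [Subgroup.index]
    refine Nat.card_congr (Equiv.subtypeUnivEquiv fun c => ?_)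
    induction c using QuotientGroup.induction_on with
    | H z =>
      rw [MulAction.mem_fixedBy, MulAction.Quotient.smul_coe, smul_eq_mul, QuotientGroup.eq, memK]
      refine ⟨_, rad_norm hS hJ (inv_mem (z : ↥(Q.amb.pair.parabolic (J : Set ↥(D.group F)))).2) (inv_mem hu), 1, one_mem _, ?_⟩
      rw [mul_one, inv_inv]
      show ((u : ↥(D.group F)) * ((z : ↥(Q.amb.pair.parabolic (J : Set ↥(D.group F)))) : ↥(D.group F)))⁻¹ * ((z : ↥(Q.amb.pair.parabolic (J : Set ↥(D.group F)))) : ↥(D.group F)) = _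
      group
  · have hKc : Nat.card K = Nat.card (rad Q J) * Nat.card Q.amb.H := by
      rw [← Nat.card_prod]
      refine (Nat.card_congr (Equiv.ofBijective (fun q : ↥(rad Q J) × ↥Q.amb.H =>
        (⟨⟨⟨(q.1 : ↥(D.group F)) * q.2, B_le_parabolic (P := Q.amb.pair)
            ⟨_, rad_le q.1.2, _, q.2.2, rfl⟩⟩, ⟨_, rad_le q.1.2, _, q.2.2, rfl⟩⟩,
          (memK _).2 ⟨_, q.1.2, _, q.2.2, rfl⟩⟩ : ↥K)) ⟨?_, ?_⟩)).symm
      · intro q q' e
        have e' : (q.1 : ↥(D.group F)) * q.2 = (q'.1 : ↥(D.group F)) * q'.2 :=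
          congrArg (fun x : ↥K => ((x.1.1 : ↥(Q.amb.pair.parabolic (J : Set ↥(D.group F)))) : ↥(D.group F))) e
        have h4 := Q.amb.unique (rad_le q.1.2) (rad_le q'.1.2) q.2.2 q'.2.2 (one_mem (Q.amb.Uw 1))
          (one_mem (Q.amb.Uw 1)) (show (q.1 : ↥(D.group F)) * q.2 * Q.amb.n 1 * 1 =
            (q'.1 : ↥(D.group F)) * q'.2 * Q.amb.n 1 * 1 by rw [e'])
        exact Prod.ext (Subtype.ext h4.2.1) (Subtype.ext h4.2.2.1)
      · rintro ⟨b, hb⟩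
        obtain ⟨u, hu, h, hh, e⟩ := (memK b).1 hb
        exact ⟨(⟨u, hu⟩, ⟨h, hh⟩), Subtype.ext (Subtype.ext (Subtype.ext e.symm))⟩
    have hBc : Nat.card P'.B = Nat.card Q.amb.U * Nat.card Q.amb.H := by
      rw [← ChevSt.card_B]
      exact Nat.card_congr (Subgroup.subgroupOfEquivOfLe B_le_parabolic).toEquiv
    have h1 := Subgroup.card_mul_index K
    rw [hKc, hBc] at h1
    rw [← hdeg, ← Nat.cast_mul]
    congr 1
    refine Nat.eq_of_mul_eq_mul_right (Nat.card_pos (α := ↥Q.amb.H)) ?_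
    rw [← h1]; ring

theorem card_unipotent (hS : Sup Q.X.C D Q.X.n) (p : ℕ) [Fact p.Prime] [CharP F p] :
    Nat.card {g : ↥(D.group F) // ∃ k : ℕ, orderOf g = p ^ k} = Fintype.card F ^ (2 * (D.nroots / 2)) := by
  obtain ⟨S, hS'⟩ := ChevSt.exists_sylow Q p
  have h := BNCount.count Q.amb.pair (p := p) (U := Q.amb.U) (hS' ▸ S.isPGroup') Q.amb.U_le_B
    (hS' ▸ S.not_dvd_index) fun J hJ => ⟨rad Q J, local_data hS hJ⟩
  rw [← ChevSt.steinberg_eq Q, ChevSt.degree Q, Q.card_U, Nat.cast_pow, ← pow_add, ← two_mul,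
    Nat.card_eq_fintype_card (α := F), ← Nat.cast_pow, Nat.cast_inj] at h
  exact h

end Cfsg.Agent.H54.ChevUnip
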