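import Mathlib
import Cfsg.Prelude.Def_ChevStructure

/-!
Generation of the exceptional Weyl groups by a Coxeter element and one or two simple reflections.
-/

set_option autoImplicit false

namespace Cfsg.Agent.H54

/-- The assertion of generation by the Coxeter element and `k` reflections. -/
def GenByCoxeter {n : ℕ} (M : CoxeterMatrix (Fin n)) (k : ℕ) : Prop :=
  ∃ T : Finset M.Group, T.card = k ∧ (∀ t ∈ T, ∃ (g : M.Group) (i : Fin n), t = g * M.simple i * g⁻¹) ∧
    Subgroup.closure (({((List.finRange n).map M.simple).prod} : Set M.Group) ∪ ↑T) = ⊤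

lemma conj_step {G : Type*} [Group G] {P S a b : G} (hab : (a * b) ^ 3 = 1) (ha : a * a = 1) (hb : b * b = 1)
    (hS : Commute S a) (hP : Commute P b) :
    (P * (a * (b * S))) * a * (P * (a * (b * S)))⁻¹ = b := by
  have ha' : a⁻¹ = a := inv_eq_of_mul_eq_one_right ha
  have hb' : b⁻¹ = b := inv_eq_of_mul_eq_one_right hb
  have h1 : a * b * a * b * a * b = 1 := by rw [← hab, pow_succ, pow_succ, pow_one]; group
  have h2 : a * b * a * b * a = b := by
    exact (eq_inv_of_mul_eq_one_left h1).trans hb'
  calc (P * (a * (b * S))) * a * (P * (a * (b * S)))⁻¹ = P * a * b * (S * a * S⁻¹) * b⁻¹ * a⁻¹ * P⁻¹ := by group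
    _ = P * a * b * a * b * a * P⁻¹ := by rw [hS.eq, mul_inv_cancel_right, hb', ha']
    _ = P * (a * b * a * b * a) * P⁻¹ := by group
    _ = b := by rw [h2, hP.eq, mul_inv_cancel_right]

section facts

variable {n : ℕ} (M : CoxeterMatrix (Fin n))

lemma sq_simple (i : Fin n) : M.simple i * M.simple i = 1 := M.toCoxeterSystem.simple_mul_simple_self i

lemma inv_simple (i : Fin n) : (M.simple i)⁻¹ = M.simple i := inv_eq_of_mul_eq_one_right (sq_simple M i)

lemma rel_simple (i j : Fin n) : (M.simple i * M.simple j) ^ M i j = 1 :=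
  M.toCoxeterSystem.simple_mul_simple_pow i j

lemma comm_simple {i j : Fin n} (h : M i j = 2) : Commute (M.simple i) (M.simple j) := by
  have h1 := rel_simple M i j
  rw [h, pow_two] at h1
  have h2 : M.simple i * M.simple j = (M.simple i * M.simple j)⁻¹ := eq_inv_of_mul_eq_one_left h1
  rw [mul_inv_rev, inv_simple, inv_simple] at h2
  exact h2

lemma braid_simple {i j : Fin n} (h : M i j = 3) :
    M.simple i * M.simple j * M.simple i = M.simple j * M.simple i * M.simple j := by
  have h1 := rel_simple M i j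
  rw [h] at h1
  have h2 : (M.simple i * M.simple j * M.simple i) * (M.simple j * M.simple i * M.simple j) = 1 := by
    rw [← h1, pow_succ, pow_succ, pow_one]; group
  rw [eq_inv_of_mul_eq_one_left h2, mul_inv_rev, mul_inv_rev, inv_simple, inv_simple, mul_assoc]

lemma top_of_simples {s : Set M.Group} (h : ∀ i, M.simple i ∈ Subgroup.closure s) : Subgroup.closure s = ⊤ := by
  rw [eq_top_iff, ← M.toCoxeterSystem.subgroup_closure_range_simple, Subgroup.closure_le]
  rintro _ ⟨i, rfl⟩
  exact h i

end facts

lemma gen_rank_two (M : CoxeterMatrix (Fin 2)) : GenByCoxeter M 1 := by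
  classical
  refine ⟨{M.simple 0}, rfl, fun t ht => ⟨1, 0, by simpa using ht⟩, top_of_simples M fun i => ?_⟩
  set H := Subgroup.closure (({((List.finRange 2).map M.simple).prod} : Set M.Group) ∪ ↑({M.simple 0} : Finset M.Group))
  have hc : M.simple 0 * M.simple 1 ∈ H := by
    refine Subgroup.subset_closure (Or.inl ?_)
    simp [List.finRange_succ]
  have h0 : M.simple 0 ∈ H := Subgroup.subset_closure (Or.inr (by simp))
  fin_cases i
  · exact h0
  · have := mul_mem (inv_mem h0) hc
    rwa [inv_mul_cancel_left] at this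

lemma simple_ne_of_hom {n : ℕ} {G : Type*} [Monoid G] (M : CoxeterMatrix (Fin n)) (f : Fin n → G)
    (hf : M.IsLiftable f) {i j : Fin n} (h : f i ≠ f j) : M.simple i ≠ M.simple j := fun e => h (by
  rw [← M.toCoxeterSystem.lift_apply_simple hf i, ← M.toCoxeterSystem.lift_apply_simple hf j]
  exact congrArg _ e)

lemma gen_D4 : GenByCoxeter Cfsg.Lie.coxeterD4 2 := by
  classical
  set M := Cfsg.Lie.coxeterD4 with hM
  have hne : M.simple 0 ≠ M.simple 2 := simple_ne_of_hom M
    ![Equiv.swap (0 : Fin 4) 1, Equiv.swap 1 2, Equiv.swap 2 3, Equiv.swap 0 1]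
    (by intro i j; fin_cases i <;> fin_cases j <;> decide) (by decide)
  refine ⟨{M.simple 0, M.simple 2}, Finset.card_pair hne, ?_, top_of_simples M fun i => ?_⟩
  · intro t ht
    simp only [Finset.mem_insert, Finset.mem_singleton] at ht
    rcases ht with rfl | rfl
    · exact ⟨1, 0, by simp⟩
    · exact ⟨1, 2, by simp⟩
  set H := Subgroup.closure (({((List.finRange 4).map M.simple).prod} : Set M.Group) ∪
    ↑({M.simple 0, M.simple 2} : Finset M.Group))
  have hc : M.simple 0 * (M.simple 1 * (M.simple 2 * M.simple 3)) ∈ H := by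
    refine Subgroup.subset_closure (Or.inl ?_)
    simp [List.finRange_succ]
  have h0 : M.simple 0 ∈ H := Subgroup.subset_closure (Or.inr (by simp))
  have h2 : M.simple 2 ∈ H := Subgroup.subset_closure (Or.inr (by simp))
  have hP : M.simple 1 * (M.simple 2 * M.simple 3) ∈ H := by
    have := mul_mem (inv_mem h0) hc
    rwa [inv_mul_cancel_left] at this
  have c23 : Commute (M.simple 3) (M.simple 2) := comm_simple M rfl
  have hb : M.simple 1 * M.simple 2 * M.simple 1 ∈ H := by
    have := mul_mem (mul_mem hP h2) (inv_mem hP)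
    have e : M.simple 1 * (M.simple 2 * M.simple 3) * M.simple 2 * (M.simple 1 * (M.simple 2 * M.simple 3))⁻¹ =
        M.simple 1 * M.simple 2 * M.simple 1 := by
      calc _ = M.simple 1 * M.simple 2 * (M.simple 3 * M.simple 2 * (M.simple 3)⁻¹) * (M.simple 2)⁻¹ * (M.simple 1)⁻¹ := by
            group
        _ = _ := by rw [c23.eq, mul_inv_cancel_right, mul_inv_cancel_right, inv_simple]
    rwa [e] at this
  have h1 : M.simple 1 ∈ H := by
    rw [braid_simple M (i := 1) (j := 2) rfl] at hb
    have := mul_mem (mul_mem (inv_mem h2) hb) (inv_mem h2)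
    rwa [mul_assoc (M.simple 2), inv_mul_cancel_left, mul_inv_cancel_right] at this
  have h3 : M.simple 3 ∈ H := by
    have := mul_mem (inv_mem h2) (mul_mem (inv_mem h1) hP)
    rwa [inv_mul_cancel_left, inv_mul_cancel_left] at this
  fin_cases i <;> assumption

lemma gen_F4 : GenByCoxeter CoxeterMatrix.F₄ 2 := by
  classical
  set M := CoxeterMatrix.F₄ with hM
  have hne : M.simple 0 ≠ M.simple 2 := simple_ne_of_hom M
    ![Multiplicative.ofAdd (1 : ZMod 2), Multiplicative.ofAdd (1 : ZMod 2), 1, 1]
    (by intro i j; fin_cases i <;> fin_cases j <;> decide) (by decide)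
  refine ⟨{M.simple 0, M.simple 2}, Finset.card_pair hne, ?_, top_of_simples M fun i => ?_⟩
  · intro t ht
    simp only [Finset.mem_insert, Finset.mem_singleton] at ht
    rcases ht with rfl | rfl
    · exact ⟨1, 0, by simp⟩
    · exact ⟨1, 2, by simp⟩
  set H := Subgroup.closure (({((List.finRange 4).map M.simple).prod} : Set M.Group) ∪
    ↑({M.simple 0, M.simple 2} : Finset M.Group))
  have hc : M.simple 0 * (M.simple 1 * (M.simple 2 * M.simple 3)) ∈ H := by
    refine Subgroup.subset_closure (Or.inl ?_)
    simp [List.finRange_succ]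
  have h0 : M.simple 0 ∈ H := Subgroup.subset_closure (Or.inr (by simp))
  have h2 : M.simple 2 ∈ H := Subgroup.subset_closure (Or.inr (by simp))
  have h1 : M.simple 1 ∈ H := by
    have := mul_mem (mul_mem hc h0) (inv_mem hc)
    rwa [show M.simple 0 * (M.simple 1 * (M.simple 2 * M.simple 3)) =
      1 * (M.simple 0 * (M.simple 1 * (M.simple 2 * M.simple 3))) by rw [one_mul],
      conj_step (rel_simple M 0 1) (sq_simple M 0) (sq_simple M 1)
        ((comm_simple M rfl).mul_left (comm_simple M rfl)) (Commute.one_left _)] at this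
  have h3 : M.simple 3 ∈ H := by
    have := mul_mem (inv_mem h2) (mul_mem (inv_mem h1) (mul_mem (inv_mem h0) hc))
    rwa [inv_mul_cancel_left, inv_mul_cancel_left, inv_mul_cancel_left] at this
  fin_cases i <;> assumption

/-- The common part of the three types E: from `s₃` and the product `s₀ s₁ s₂` one obtains `s₀`, `s₁`, `s₂`. -/
lemma e_small {n : ℕ} (M : CoxeterMatrix (Fin n)) (i0 i1 i2 i3 : Fin n) (h01 : M i0 i1 = 2) (h03 : M i0 i3 = 2)
    (h12 : M i1 i2 = 2) (h02 : M i0 i2 = 3) (h23 : M i2 i3 = 3) (H : Subgroup M.Group)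
    (h3 : M.simple i3 ∈ H) (hQ : M.simple i0 * (M.simple i1 * M.simple i2) ∈ H) :
    M.simple i0 ∈ H ∧ M.simple i1 ∈ H ∧ M.simple i2 ∈ H := by
  have h1 : M.simple i1 ∈ H := by
    have e : (M.simple i0 * (M.simple i1 * M.simple i2)) ^ 3 = M.simple i1 := by
      have hc : Commute (M.simple i1) (M.simple i0 * M.simple i2) :=
        (comm_simple M h01).symm.mul_right (comm_simple M h12)
      rw [← mul_assoc, (comm_simple M h01).eq, mul_assoc, hc.mul_pow,
        show (M.simple i0 * M.simple i2) ^ 3 = 1 by rw [← h02]; exact rel_simple M i0 i2, mul_one,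
        pow_succ, pow_two, sq_simple, one_mul]
    rw [← e]; exact pow_mem hQ 3
  have hB : M.simple i2 * M.simple i1 * M.simple i3 * M.simple i1 * M.simple i2 ∈ H := by
    have := mul_mem (mul_mem (inv_mem hQ) h3) hQ
    have e : (M.simple i0 * (M.simple i1 * M.simple i2))⁻¹ * M.simple i3 * (M.simple i0 * (M.simple i1 * M.simple i2)) =
        M.simple i2 * M.simple i1 * M.simple i3 * M.simple i1 * M.simple i2 := by
      rw [mul_inv_rev, mul_inv_rev, inv_simple, inv_simple, inv_simple]
      calc M.simple i2 * M.simple i1 * M.simple i0 * M.simple i3 * (M.simple i0 * (M.simple i1 * M.simple i2))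
          = M.simple i2 * M.simple i1 * ((M.simple i0 * M.simple i3) * M.simple i0) * M.simple i1 * M.simple i2 := by
            group
        _ = _ := by rw [(comm_simple M h03).eq, mul_assoc (M.simple i3) (M.simple i0), sq_simple, mul_one]
    rwa [e] at this
  have h2 : M.simple i2 ∈ H := by
    have := mul_mem (mul_mem h1 hB) h1
    have e : M.simple i1 * (M.simple i2 * M.simple i1 * M.simple i3 * M.simple i1 * M.simple i2) * M.simple i1 =
        M.simple i2 * M.simple i3 * M.simple i2 := by
      calc _ = (M.simple i1 * M.simple i2) * M.simple i1 * M.simple i3 * M.simple i1 * (M.simple i2 * M.simple i1) := by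
            group
        _ = (M.simple i2 * M.simple i1) * M.simple i1 * M.simple i3 * M.simple i1 * (M.simple i1 * M.simple i2) := by
            rw [(comm_simple M h12).eq]
        _ = M.simple i2 * (M.simple i1 * M.simple i1) * M.simple i3 * (M.simple i1 * M.simple i1) * M.simple i2 := by
            group
        _ = _ := by rw [sq_simple, mul_one, mul_one]
    rw [e, braid_simple M h23] at this
    have := mul_mem (mul_mem (inv_mem h3) this) (inv_mem h3)
    rwa [mul_assoc (M.simple i3), inv_mul_cancel_left, mul_inv_cancel_right] at this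
  refine ⟨?_, h1, h2⟩
  have := mul_mem (mul_mem hQ (inv_mem h2)) (inv_mem h1)
  rwa [← mul_assoc (M.simple i0), mul_inv_cancel_right, mul_inv_cancel_right] at this

lemma gen_E6 : GenByCoxeter CoxeterMatrix.E₆ 1 := by
  classical
  set M := CoxeterMatrix.E₆ with hM
  refine ⟨{M.simple 3}, rfl, fun t ht => ⟨1, 3, by simpa using ht⟩, top_of_simples M fun i => ?_⟩
  set H := Subgroup.closure (({((List.finRange 6).map M.simple).prod} : Set M.Group) ∪
    ↑({M.simple 3} : Finset M.Group))
  have h3 : M.simple 3 ∈ H := Subgroup.subset_closure (Or.inr (by simp))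
  have hc : (M.simple 0 * (M.simple 1 * M.simple 2)) * (M.simple 3 * (M.simple 4 * M.simple 5)) ∈ H := by
    refine Subgroup.subset_closure (Or.inl ?_)
    simp [List.finRange_succ, mul_assoc]
  have h4 : M.simple 4 ∈ H := by
    have := mul_mem (mul_mem hc h3) (inv_mem hc)
    rwa [conj_step (rel_simple M 3 4) (sq_simple M 3) (sq_simple M 4) (comm_simple M rfl)
      ((comm_simple M rfl).mul_left ((comm_simple M rfl).mul_left (comm_simple M rfl)))] at this
  have h5 : M.simple 5 ∈ H := by
    have := mul_mem (mul_mem hc h4) (inv_mem hc)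
    rwa [show (M.simple 0 * (M.simple 1 * M.simple 2)) * (M.simple 3 * (M.simple 4 * M.simple 5)) =
        ((M.simple 0 * (M.simple 1 * M.simple 2)) * M.simple 3) * (M.simple 4 * (M.simple 5 * 1)) by group,
      conj_step (rel_simple M 4 5) (sq_simple M 4) (sq_simple M 5) (Commute.one_left _)
      (((comm_simple M rfl).mul_left ((comm_simple M rfl).mul_left (comm_simple M rfl))).mul_left
        (comm_simple M rfl))] at this
  have hQ : M.simple 0 * (M.simple 1 * M.simple 2) ∈ H :=
    (Subgroup.mul_mem_cancel_right H (mul_mem h3 (mul_mem h4 h5))).1 hc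
  obtain ⟨h0, h1, h2⟩ := e_small M 0 1 2 3 rfl rfl rfl rfl rfl H h3 hQ
  fin_cases i <;> assumption

lemma gen_E7 : GenByCoxeter CoxeterMatrix.E₇ 1 := by
  classical
  set M := CoxeterMatrix.E₇ with hM
  refine ⟨{M.simple 3}, rfl, fun t ht => ⟨1, 3, by simpa using ht⟩, top_of_simples M fun i => ?_⟩
  set H := Subgroup.closure (({((List.finRange 7).map M.simple).prod} : Set M.Group) ∪
    ↑({M.simple 3} : Finset M.Group))
  set Q := M.simple 0 * (M.simple 1 * M.simple 2) with hQdef
  have hcomm : ∀ j : Fin 7, M 0 j = 2 → M 1 j = 2 → M 2 j = 2 → Commute Q (M.simple j) := fun j a b c =>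
    (comm_simple M a).mul_left ((comm_simple M b).mul_left (comm_simple M c))
  have h3 : M.simple 3 ∈ H := Subgroup.subset_closure (Or.inr (by simp))
  have hc : Q * (M.simple 3 * (M.simple 4 * (M.simple 5 * M.simple 6))) ∈ H := by
    refine Subgroup.subset_closure (Or.inl ?_)
    simp [Q, List.finRange_succ, mul_assoc]
  have h4 : M.simple 4 ∈ H := by
    have := mul_mem (mul_mem hc h3) (inv_mem hc)
    rwa [conj_step (rel_simple M 3 4) (sq_simple M 3) (sq_simple M 4)
      ((comm_simple M rfl).mul_left (comm_simple M rfl)) (hcomm 4 rfl rfl rfl)] at this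
  have h5 : M.simple 5 ∈ H := by
    have := mul_mem (mul_mem hc h4) (inv_mem hc)
    rwa [show Q * (M.simple 3 * (M.simple 4 * (M.simple 5 * M.simple 6))) =
        (Q * M.simple 3) * (M.simple 4 * (M.simple 5 * M.simple 6)) by group,
      conj_step (rel_simple M 4 5) (sq_simple M 4) (sq_simple M 5) (comm_simple M rfl)
      ((hcomm 5 rfl rfl rfl).mul_left (comm_simple M rfl))] at this
  have h6 : M.simple 6 ∈ H := by
    have := mul_mem (mul_mem hc h5) (inv_mem hc)
    rwa [show Q * (M.simple 3 * (M.simple 4 * (M.simple 5 * M.simple 6))) =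
        (Q * M.simple 3 * M.simple 4) * (M.simple 5 * (M.simple 6 * 1)) by group,
      conj_step (rel_simple M 5 6) (sq_simple M 5) (sq_simple M 6) (Commute.one_left _)
      (((hcomm 6 rfl rfl rfl).mul_left (comm_simple M rfl)).mul_left (comm_simple M rfl))] at this
  have hQ : Q ∈ H := (Subgroup.mul_mem_cancel_right H (mul_mem h3 (mul_mem h4 (mul_mem h5 h6)))).1 hc
  obtain ⟨h0, h1, h2⟩ := e_small M 0 1 2 3 rfl rfl rfl rfl rfl H h3 hQ
  fin_cases i <;> assumption

lemma gen_E8 : GenByCoxeter CoxeterMatrix.E₈ 1 := by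
  classical
  set M := CoxeterMatrix.E₈ with hM
  refine ⟨{M.simple 3}, rfl, fun t ht => ⟨1, 3, by simpa using ht⟩, top_of_simples M fun i => ?_⟩
  set H := Subgroup.closure (({((List.finRange 8).map M.simple).prod} : Set M.Group) ∪
    ↑({M.simple 3} : Finset M.Group))
  set Q := M.simple 0 * (M.simple 1 * M.simple 2) with hQdef
  have hcomm : ∀ j : Fin 8, M 0 j = 2 → M 1 j = 2 → M 2 j = 2 → Commute Q (M.simple j) := fun j a b c =>
    (comm_simple M a).mul_left ((comm_simple M b).mul_left (comm_simple M c))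
  have h3 : M.simple 3 ∈ H := Subgroup.subset_closure (Or.inr (by simp))
  have hc : Q * (M.simple 3 * (M.simple 4 * (M.simple 5 * (M.simple 6 * M.simple 7)))) ∈ H := by
    refine Subgroup.subset_closure (Or.inl ?_)
    simp [Q, List.finRange_succ, mul_assoc]
  have h4 : M.simple 4 ∈ H := by
    have := mul_mem (mul_mem hc h3) (inv_mem hc)
    rwa [conj_step (rel_simple M 3 4) (sq_simple M 3) (sq_simple M 4)
      ((comm_simple M rfl).mul_left ((comm_simple M rfl).mul_left (comm_simple M rfl))) (hcomm 4 rfl rfl rfl)] at this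
  have h5 : M.simple 5 ∈ H := by
    have := mul_mem (mul_mem hc h4) (inv_mem hc)
    rwa [show Q * (M.simple 3 * (M.simple 4 * (M.simple 5 * (M.simple 6 * M.simple 7)))) =
        (Q * M.simple 3) * (M.simple 4 * (M.simple 5 * (M.simple 6 * M.simple 7))) by group,
      conj_step (rel_simple M 4 5) (sq_simple M 4) (sq_simple M 5)
      ((comm_simple M rfl).mul_left (comm_simple M rfl))
      ((hcomm 5 rfl rfl rfl).mul_left (comm_simple M rfl))] at this
  have h6 : M.simple 6 ∈ H := by
    have := mul_mem (mul_mem hc h5) (inv_mem hc)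
    rwa [show Q * (M.simple 3 * (M.simple 4 * (M.simple 5 * (M.simple 6 * M.simple 7)))) =
        (Q * M.simple 3 * M.simple 4) * (M.simple 5 * (M.simple 6 * M.simple 7)) by group,
      conj_step (rel_simple M 5 6) (sq_simple M 5) (sq_simple M 6) (comm_simple M rfl)
      (((hcomm 6 rfl rfl rfl).mul_left (comm_simple M rfl)).mul_left (comm_simple M rfl))] at this
  have h7 : M.simple 7 ∈ H := by
    have := mul_mem (mul_mem hc h6) (inv_mem hc)
    rwa [show Q * (M.simple 3 * (M.simple 4 * (M.simple 5 * (M.simple 6 * M.simple 7)))) =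
        (Q * M.simple 3 * M.simple 4 * M.simple 5) * (M.simple 6 * (M.simple 7 * 1)) by group,
      conj_step (rel_simple M 6 7) (sq_simple M 6) (sq_simple M 7) (Commute.one_left _)
      ((((hcomm 7 rfl rfl rfl).mul_left (comm_simple M rfl)).mul_left (comm_simple M rfl)).mul_left
        (comm_simple M rfl))] at this
  have hQ : Q ∈ H :=
    (Subgroup.mul_mem_cancel_right H (mul_mem h3 (mul_mem h4 (mul_mem h5 (mul_mem h6 h7))))).1 hc
  obtain ⟨h0, h1, h2⟩ := e_small M 0 1 2 3 rfl rfl rfl rfl rfl H h3 hQ
  fin_cases i <;> assumption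

end Cfsg.Agent.H54
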