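import Mathlib

/-!
A Chevalley–Warning argument: products of powers of the corner minors of lower unitriangular matrices over a
finite field sum to zero unless all exponents equal `q - 1`.
-/

set_option autoImplicit false

namespace Cfsg.Agent.H54.MinorSum

open Matrix Finset

variable {n : ℕ}

/-- The last `j` indices. -/
def bot (j : ℕ) (hj : j ≤ n) (i : Fin j) : Fin n := ⟨n - j + i, by omega⟩

/-- The first `j` indices. -/
def top (j : ℕ) (hj : j ≤ n) (i : Fin j) : Fin n := ⟨i, by omega⟩

theorem bot_injective (j : ℕ) (hj : j ≤ n) : Function.Injective (bot j hj) := fun a b h => by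
  have := congrArg Fin.val h
  simp only [bot] at this
  exact Fin.ext (by omega)

theorem top_injective (j : ℕ) (hj : j ≤ n) : Function.Injective (top j hj) := fun a b h =>
  Fin.ext (by simpa [top] using congrArg Fin.val h)

/-- The bottom left minor of size `j`. -/
def minor {R : Type*} [CommRing R] (j : ℕ) (hj : j ≤ n) (x : Matrix (Fin n) (Fin n) R) : R :=
  (x.submatrix (bot j hj) (top j hj)).det

/-- Positions below the diagonal. -/
abbrev Low (n : ℕ) := {x : Fin n × Fin n // x.2 < x.1}

/-- The weight of a position. -/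
def wt (x : Low n) : ℕ := (x.1.1 : ℕ) - x.1.2

/-- The lower unitriangular matrix with given entries. -/
def lowMat {R : Type*} [CommRing R] (X : Low n → R) : Matrix (Fin n) (Fin n) R :=
  Matrix.of fun i j => if h : j < i then X ⟨(i, j), h⟩ else if i = j then 1 else 0

section poly

variable {R : Type*} [CommRing R]

/-- All monomials have weight at most `d`. -/
def Bd (d : ℕ) (P : MvPolynomial (Low n) R) : Prop := ∀ m ∈ P.support, Finsupp.weight wt m ≤ d

theorem Bd.zero (d : ℕ) : Bd (n := n) d (0 : MvPolynomial (Low n) R) := fun m hm => by simp at hm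

theorem Bd.C (a : R) (d : ℕ) : Bd (n := n) d (MvPolynomial.C a) := fun m hm => by
  classical
  rw [MvPolynomial.mem_support_iff, MvPolynomial.coeff_C] at hm
  split_ifs at hm with h
  · subst h; simp
  · exact absurd rfl hm

theorem Bd.one (d : ℕ) : Bd (n := n) d (1 : MvPolynomial (Low n) R) := by
  rw [← MvPolynomial.C_1]; exact Bd.C 1 d

theorem Bd.X (x : Low n) : Bd (R := R) (wt x) (MvPolynomial.X x) := fun m hm => by
  classical
  rw [MvPolynomial.mem_support_iff, MvPolynomial.coeff_X'] at hm
  split_ifs at hm with h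
  · subst h; simp [Finsupp.weight_single]
  · exact absurd rfl hm

theorem Bd.add {d : ℕ} {P Q : MvPolynomial (Low n) R} (hP : Bd d P) (hQ : Bd d Q) : Bd d (P + Q) :=
  fun m hm => by
    classical
    rcases Finset.mem_union.1 (MvPolynomial.support_add hm) with h | h
    · exact hP m h
    · exact hQ m h

theorem Bd.sum {d : ℕ} {ι : Type*} (s : Finset ι) (P : ι → MvPolynomial (Low n) R) (h : ∀ i ∈ s, Bd d (P i)) :
    Bd d (∑ i ∈ s, P i) := by
  classical
  induction s using Finset.induction_on with
  | empty => exact Bd.zero d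
  | insert a s ha ih =>
    rw [Finset.sum_insert ha]
    exact (h a (mem_insert_self _ _)).add (ih fun i hi => h i (mem_insert_of_mem hi))

theorem Bd.mul {d e : ℕ} {P Q : MvPolynomial (Low n) R} (hP : Bd d P) (hQ : Bd e Q) : Bd (d + e) (P * Q) :=
  fun m hm => by
    classical
    obtain ⟨a, ha, b, hb, rfl⟩ := Finset.mem_add.1 (MvPolynomial.support_mul P Q hm)
    rw [map_add]
    exact Nat.add_le_add (hP a ha) (hQ b hb)

theorem Bd.prod {ι : Type*} (s : Finset ι) (P : ι → MvPolynomial (Low n) R) (d : ι → ℕ)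
    (h : ∀ i ∈ s, Bd (d i) (P i)) : Bd (∑ i ∈ s, d i) (∏ i ∈ s, P i) := by
  classical
  induction s using Finset.induction_on with
  | empty => exact Bd.one _
  | insert a s ha ih =>
    rw [Finset.prod_insert ha, Finset.sum_insert ha]
    exact (h a (mem_insert_self _ _)).mul (ih fun i hi => h i (mem_insert_of_mem hi))

theorem Bd.pow {d : ℕ} {P : MvPolynomial (Low n) R} (hP : Bd d P) (e : ℕ) : Bd (e * d) (P ^ e) := by
  induction e with
  | zero => rw [pow_zero]; exact Bd.one _
  | succ e ih => rw [pow_succ, Nat.succ_mul]; exact ih.mul hP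

theorem bd_minor (j : ℕ) (hj : j ≤ n) :
    Bd (j * (n - j)) (minor j hj (lowMat (MvPolynomial.X : Low n → MvPolynomial (Low n) R))) := by
  classical
  rw [minor, Matrix.det_apply']
  refine Bd.sum _ _ fun σ _ => ?_
  rw [← Nat.zero_add (j * (n - j))]
  refine Bd.mul (by rw [show ((Equiv.Perm.sign σ : ℤ) : MvPolynomial (Low n) R) =
    MvPolynomial.C ((Equiv.Perm.sign σ : ℤ) : R) by simp]; exact Bd.C _ _) ?_
  set L := lowMat (MvPolynomial.X : Low n → MvPolynomial (Low n) R)
  by_cases h : ∀ i, (top j hj i : ℕ) ≤ bot j hj (σ i)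
  · have hb : Bd (∑ i, ((bot j hj (σ i) : ℕ) - top j hj i))
        (∏ i, (L.submatrix (bot j hj) (top j hj)) (σ i) i) := by
      refine Bd.prod _ _ _ fun i _ => ?_
      simp only [L, lowMat, Matrix.submatrix_apply, Matrix.of_apply]
      split_ifs
      · exact Bd.X _
      · exact Bd.one _
      · exact Bd.zero _
    have hs : ∑ i, ((bot j hj (σ i) : ℕ) - top j hj i) = j * (n - j) := by
      rw [Finset.sum_tsub_distrib _ fun i _ => h i, Equiv.sum_comp σ (fun i => (bot j hj i : ℕ))]
      simp only [bot, top, Finset.sum_add_distrib, Finset.sum_const, Finset.card_univ, Fintype.card_fin, smul_eq_mul]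
      rw [Nat.add_sub_cancel]
    rwa [hs] at hb
  · push Not at h
    obtain ⟨i, hi⟩ := h
    rw [Finset.prod_eq_zero (i := i) (mem_univ _)]
    · exact Bd.zero _
    · simp only [L, lowMat, Matrix.submatrix_apply, Matrix.of_apply]
      have hi' : ¬ top j hj i < bot j hj (σ i) := fun h => by
        rw [Fin.lt_def] at h; omega
      rw [dif_neg hi', if_neg (fun h => by rw [h] at hi; omega)]

theorem map_lowMat {S : Type*} [CommRing S] (f : R →+* S) (X : Low n → R) :
    (lowMat X).map f = lowMat (fun x => f (X x)) := by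
  ext i j
  simp only [lowMat, Matrix.map_apply, Matrix.of_apply]
  split_ifs <;> simp

end poly

theorem sum_wt (m : ℕ) : ∑ x : Low (m + 1), wt x = ∑ k : Fin m, ((k : ℕ) + 1) * (m - k) := by
  classical
  have h1 : ∀ x : Low (m + 1), wt x = #{k : Fin m | (x.1.2 : ℕ) ≤ k ∧ (k : ℕ) < x.1.1} := by
    intro x
    have hx := x.2
    rw [Fin.lt_def] at hx
    have hx1 := x.1.1.isLt
    rw [wt, ← Nat.card_Ico]
    refine (Finset.card_bij (fun (k : Fin m) _ => (k : ℕ)) (fun k hk => ?_) (by intro a _ b _ h; first | exact h | exact Fin.ext h) fun b hb => ?_).symm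
    · simp only [Finset.mem_filter, Finset.mem_univ, true_and] at hk
      simpa [Finset.mem_Ico] using hk
    · rw [Finset.mem_Ico] at hb
      exact ⟨⟨b, by omega⟩, by simp [hb.1, hb.2], rfl⟩
  simp only [h1, Finset.card_filter]
  rw [Finset.sum_comm]
  refine Finset.sum_congr rfl fun k _ => ?_
  rw [← Finset.card_filter]
  have hk := k.isLt
  have e : {x : Low (m + 1) // (x.1.2 : ℕ) ≤ (k : ℕ) ∧ (k : ℕ) < x.1.1} ≃ Fin ((k : ℕ) + 1) × Fin (m - (k : ℕ)) :=
    { toFun := fun x => (⟨x.1.1.2, by have := x.2.1; omega⟩, ⟨(x.1.1.1 : ℕ) - k - 1, by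
        have := x.2.2; have := x.1.1.1.isLt; omega⟩)
      invFun := fun y => ⟨⟨(⟨(k : ℕ) + 1 + y.2, by have := y.2.isLt; omega⟩, ⟨y.1, by have := y.1.isLt; omega⟩), by
        have := y.1.isLt; simp only [Fin.lt_def]; omega⟩, by
        have := y.1.isLt; simp only []; omega⟩
      left_inv := fun x => by
        have := x.2.2
        apply Subtype.ext; apply Subtype.ext
        ext <;> simp <;> omega
      right_inv := fun y => by
        ext <;> simp <;> omega }
  rw [← Fintype.card_subtype, Fintype.card_congr e]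
  simp

variable {F : Type*} [Field F] [Fintype F]

/-- The vanishing sum. -/
theorem sum_minor_pow {m : ℕ} (e : Fin m → ℕ) (he : ∀ k, e k ≤ Fintype.card F - 1)
    (hne : ∃ k, e k < Fintype.card F - 1) :
    ∑ X : Low (m + 1) → F, ∏ k : Fin m, minor ((k : ℕ) + 1) (by omega) (lowMat X) ^ e k = 0 := by
  classical
  set P : MvPolynomial (Low (m + 1)) F :=
    ∏ k : Fin m, minor ((k : ℕ) + 1) (by omega) (lowMat MvPolynomial.X) ^ e k with hP
  have heval : ∀ X : Low (m + 1) → F,
      MvPolynomial.eval X P = ∏ k : Fin m, minor ((k : ℕ) + 1) (by omega) (lowMat X) ^ e k := by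
    intro X
    rw [hP, map_prod]
    refine Finset.prod_congr rfl fun k _ => ?_
    rw [map_pow, minor, minor, RingHom.map_det]
    congr 2
    rw [RingHom.mapMatrix_apply, ← Matrix.submatrix_map, map_lowMat]
    simp
  have hbd : Bd (∑ k : Fin m, e k * (((k : ℕ) + 1) * (m - k))) P := by
    refine Bd.prod _ _ _ fun k _ => Bd.pow ?_ _
    have := bd_minor (R := F) ((k : ℕ) + 1) (show (k : ℕ) + 1 ≤ m + 1 by omega)
    rwa [show m + 1 - ((k : ℕ) + 1) = m - k by omega] at this
  rw [← Finset.sum_congr rfl fun X _ => heval X]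
  simp only [MvPolynomial.eval_eq']
  rw [Finset.sum_comm]
  refine Finset.sum_eq_zero fun d hd => ?_
  rw [← Finset.mul_sum]
  suffices h : ∃ x, d x < Fintype.card F - 1 by
    obtain ⟨x, hx⟩ := h
    have hprod : (∑ X : Low (m + 1) → F, ∏ i, X i ^ d i) = ∏ i, ∑ a : F, a ^ d i := by
      rw [Finset.prod_univ_sum, Fintype.piFinset_univ]
    rw [hprod, Finset.prod_eq_zero (Finset.mem_univ x) (FiniteField.sum_pow_lt_card_sub_one _ _ hx), mul_zero]
  by_contra hcon
  push Not at hcon
  have h1 := hbd d hd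
  have hw : Finsupp.weight wt d = ∑ x, d x * wt x := by
    rw [Finsupp.weight_apply, Finsupp.sum_fintype _ _ (fun _ => by simp)]
    simp [smul_eq_mul]
  rw [hw] at h1
  have h2 : (Fintype.card F - 1) * ∑ x : Low (m + 1), wt x ≤ ∑ x, d x * wt x := by
    rw [Finset.mul_sum]
    exact Finset.sum_le_sum fun x _ => Nat.mul_le_mul_right _ (hcon x)
  have h3 : ∑ k : Fin m, e k * (((k : ℕ) + 1) * (m - k)) < (Fintype.card F - 1) * ∑ x : Low (m + 1), wt x := by
    rw [sum_wt, Finset.mul_sum]
    obtain ⟨k, hk⟩ := hne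
    refine Finset.sum_lt_sum (fun i _ => Nat.mul_le_mul_right _ (he i)) ⟨k, Finset.mem_univ _, ?_⟩
    exact Nat.mul_lt_mul_of_pos_right hk (Nat.mul_pos (Nat.succ_pos _) (by omega))
  omega

end Cfsg.Agent.H54.MinorSum
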