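import Mathlib
import Cfsg.Agent.H54.MinorSum
import Cfsg.Agent.Linear.Unitriangular

/-!
`SL_n` over a finite field of characteristic `p` has at most one block of defect zero: functions behaving like
idempotents of defect zero, modulo `p`, are controlled by their sums over right cosets of the unitriangular group,
and these are polynomials in the corner minors.
-/

set_option autoImplicit false
set_option linter.unusedSectionVars false
set_option linter.style.haveILetI false

namespace Cfsg.Agent.H54.DZ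

open Matrix Finset MinorSum

section minors

variable {n : ℕ} {R : Type*} [CommRing R]

theorem mul_submatrix_bot {y : Matrix (Fin n) (Fin n) R} (hy : y.BlockTriangular id) (x : Matrix (Fin n) (Fin n) R)
    (j : ℕ) (hj : j ≤ n) :
    (y * x).submatrix (bot j hj) (top j hj) =
      y.submatrix (bot j hj) (bot j hj) * x.submatrix (bot j hj) (top j hj) := by
  ext i l
  simp only [Matrix.submatrix_apply, Matrix.mul_apply]
  refine (Fintype.sum_of_injective (bot j hj) (bot_injective j hj) _ _ (fun s hs => ?_) fun s => rfl).symm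
  have hlt : (s : ℕ) < n - j := by
    by_contra h
    exact hs ⟨⟨(s : ℕ) - (n - j), by omega⟩, Fin.ext (by simp [bot]; omega)⟩
  have h0 : y (bot j hj i) s = 0 := hy (show s < bot j hj i from Fin.lt_def.2 (by simp [bot]; omega))
  rw [h0, zero_mul]

theorem mul_submatrix_top {y : Matrix (Fin n) (Fin n) R} (hy : y.BlockTriangular id) (x : Matrix (Fin n) (Fin n) R)
    (j : ℕ) (hj : j ≤ n) :
    (x * y).submatrix (bot j hj) (top j hj) =
      x.submatrix (bot j hj) (top j hj) * y.submatrix (top j hj) (top j hj) := by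
  ext i l
  simp only [Matrix.submatrix_apply, Matrix.mul_apply]
  refine (Fintype.sum_of_injective (top j hj) (top_injective j hj) _ _ (fun s hs => ?_) fun s => rfl).symm
  have hlt : j ≤ (s : ℕ) := by
    by_contra h
    exact hs ⟨⟨(s : ℕ), by omega⟩, Fin.ext (by simp [top])⟩
  have h0 : y s (top j hj l) = 0 := hy (show top j hj l < s from Fin.lt_def.2 (by simp [top]; omega))
  rw [h0, mul_zero]

theorem minor_mul_left {y : Matrix (Fin n) (Fin n) R} (hy : y.BlockTriangular id) (x : Matrix (Fin n) (Fin n) R)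
    (j : ℕ) (hj : j ≤ n) : minor j hj (y * x) = (∏ i, y (bot j hj i) (bot j hj i)) * minor j hj x := by
  rw [minor, mul_submatrix_bot hy, Matrix.det_mul]
  congr 1
  refine Matrix.det_of_isUpperTriangular fun a b hab => hy (Fin.lt_def.2 ?_)
  have h : (b : ℕ) < a := Fin.lt_def.1 hab
  simp [bot]; omega

theorem minor_mul_right {y : Matrix (Fin n) (Fin n) R} (hy : y.BlockTriangular id) (x : Matrix (Fin n) (Fin n) R)
    (j : ℕ) (hj : j ≤ n) : minor j hj (x * y) = minor j hj x * ∏ i, y (top j hj i) (top j hj i) := by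
  rw [minor, mul_submatrix_top hy, Matrix.det_mul]
  congr 1
  refine Matrix.det_of_isUpperTriangular fun a b hab => hy (Fin.lt_def.2 ?_)
  have h : (b : ℕ) < a := Fin.lt_def.1 hab
  simp [top]; omega

end minors

variable {F : Type*} [Field F] [Fintype F] [DecidableEq F] {m : ℕ}

/-- `SL_{m+1}(F)`. -/
abbrev G (m : ℕ) (F : Type*) [Field F] := SpecialLinearGroup (Fin (m + 1)) F

/-- The unitriangular group. -/
abbrev U (m : ℕ) (F : Type*) [Field F] : Subgroup (G m F) := Linear.unitriSL (m + 1) F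

local notation "M'" => Matrix (Fin (m + 1)) (Fin (m + 1)) F

omit [Fintype F] [DecidableEq F] in
theorem coe_mul' (x y : G m F) : ((x * y : G m F) : M') = (x : M') * (y : M') := rfl

omit [Fintype F] [DecidableEq F] in
theorem coe_one' : ((1 : G m F) : M') = 1 := rfl

omit [Fintype F] [DecidableEq F] in
theorem coe_inv' (x : G m F) : ((x⁻¹ : G m F) : M') = Matrix.adjugate (x : M') := rfl

theorem mem_U {g : G m F} : g ∈ U m F ↔ (g : M').BlockTriangular id ∧ ∀ i, (g : M') i i = 1 := Iff.rfl

/-- The upper triangular group. -/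
def B (m : ℕ) (F : Type*) [Field F] : Subgroup (G m F) where
  carrier := {g | (g : Matrix (Fin (m + 1)) (Fin (m + 1)) F).BlockTriangular id}
  mul_mem' := fun {a b} ha hb => BlockTriangular.mul ha hb
  one_mem' := Matrix.blockTriangular_one
  inv_mem' := fun {a} ha => by
    have h := Linear.coe_inv_blockTriangular (g := SpecialLinearGroup.toGL a) ha
    rw [← map_inv] at h
    exact h

/-- The diagonal group. -/
def T (m : ℕ) (F : Type*) [Field F] : Subgroup (G m F) where
  carrier := {g | ∀ i j, i ≠ j → (g : Matrix (Fin (m + 1)) (Fin (m + 1)) F) i j = 0}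
  mul_mem' := fun {a b} ha hb i j hij => by
    show ((a : Matrix (Fin (m + 1)) (Fin (m + 1)) F) * b) i j = 0
    rw [Matrix.mul_apply]
    refine Finset.sum_eq_zero fun l _ => ?_
    rcases eq_or_ne i l with rfl | h
    · rw [hb i j hij, mul_zero]
    · rw [ha i l h, zero_mul]
  one_mem' := fun i j h => Matrix.one_apply_ne h
  inv_mem' := fun {a} ha i j hij => by
    have h : (a : Matrix (Fin (m + 1)) (Fin (m + 1)) F) = Matrix.diagonal (Matrix.diag (a : Matrix (Fin (m + 1)) (Fin (m + 1)) F)) :=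
      ((Matrix.isDiag_iff_diagonal_diag _).1 fun x y h => ha x y h).symm
    rw [coe_inv', h, Matrix.adjugate_diagonal]
    exact Matrix.diagonal_apply_ne _ hij

theorem T_le_B : T m F ≤ B m F := fun _ ht i j h => ht i j (ne_of_gt (show j < i from h))

theorem U_le_B : U m F ≤ B m F := fun _ hu => hu.1

/-- The diagonal part of a triangular matrix. -/
def dpart (b : B m F) : T m F :=
  ⟨⟨Matrix.diagonal fun i => (b.1 : M') i i, by
    rw [Matrix.det_diagonal, ← Linear.blockTriangular_det b.2]; exact b.1.2⟩,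
    fun i j h => Matrix.diagonal_apply_ne _ h⟩

theorem diag_mul {a b : G m F} (ha : a ∈ B m F) (hb : b ∈ B m F) (i : Fin (m + 1)) :
    ((a * b : G m F) : M') i i = (a : M') i i * (b : M') i i :=
  Linear.blockTriangular_mul_diag ha hb i

theorem conj_mem_U {b : G m F} (hb : b ∈ B m F) {u : G m F} (hu : u ∈ U m F) : b * u * b⁻¹ ∈ U m F := by
  refine mem_U.2 ⟨mul_mem (mul_mem hb (U_le_B hu)) (inv_mem hb), fun i => ?_⟩
  rw [diag_mul (mul_mem hb (U_le_B hu)) (inv_mem hb), diag_mul hb (U_le_B hu), (mem_U.1 hu).2, mul_one,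
    ← diag_mul hb (inv_mem hb), mul_inv_cancel, coe_one', Matrix.one_apply_eq]

theorem dpart_inv_mul_mem (b : B m F) : (dpart b : G m F)⁻¹ * b ∈ U m F := by
  have hd : (dpart b : G m F) ∈ B m F := T_le_B (dpart b).2
  refine mem_U.2 ⟨mul_mem (inv_mem hd) b.2, fun i => ?_⟩
  rw [diag_mul (inv_mem hd) b.2]
  have h := diag_mul (inv_mem hd) hd i
  rw [inv_mul_cancel, coe_one', Matrix.one_apply_eq] at h
  have h2 : ((dpart b : G m F) : M') i i = ((b : G m F) : M') i i := Matrix.diagonal_apply_eq _ _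
  rw [h2] at h
  exact h.symm

/-- Triangular = diagonal times unitriangular. -/
noncomputable def TU : T m F × U m F ≃ B m F :=
  Equiv.ofBijective (fun x => ⟨(x.1 : G m F) * x.2, mul_mem (T_le_B x.1.2) (U_le_B x.2.2)⟩) (by
    refine ⟨fun x y h => ?_, fun b => ⟨(dpart b, ⟨_, dpart_inv_mul_mem b⟩), Subtype.ext (mul_inv_cancel_left _ _)⟩⟩
    have h' : (x.1 : G m F) * x.2 = (y.1 : G m F) * y.2 := congrArg Subtype.val h
    have e : x.1 = y.1 := by
      refine Subtype.ext (Subtype.ext (Matrix.ext fun i j => ?_))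
      rcases eq_or_ne i j with rfl | hij
      · have h2 := congrArg (fun g : G m F => (g : M') i i) h'
        simp only [diag_mul (T_le_B x.1.2) (U_le_B x.2.2), diag_mul (T_le_B y.1.2) (U_le_B y.2.2),
          (mem_U.1 x.2.2).2, (mem_U.1 y.2.2).2, mul_one] at h2
        exact h2
      · rw [x.1.2 i j hij, y.1.2 i j hij]
    exact Prod.ext e (Subtype.ext (mul_left_cancel (a := (x.1 : G m F)) (h'.trans (by rw [e])))))

theorem TU_apply (x : T m F × U m F) : ((TU x : B m F) : G m F) = (x.1 : G m F) * x.2 := rfl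

/-- The signs of the longest element. -/
def sgn (i : Fin (m + 1)) : F :=
  if i = 0 then ((Equiv.Perm.sign (Fin.revPerm : Equiv.Perm (Fin (m + 1))) : ℤ) : F) else 1

theorem sgn_sq (i : Fin (m + 1)) : sgn (F := F) i * sgn i = 1 := by
  rw [sgn]
  split_ifs
  · rw [← Int.cast_mul, Int.units_coe_mul_self, Int.cast_one]
  · exact one_mul 1

theorem sgn_ne_zero (i : Fin (m + 1)) : sgn (F := F) i ≠ 0 := fun e => by
  simpa [e] using sgn_sq (F := F) i

/-- The longest element. -/
def w (m : ℕ) (F : Type*) [Field F] : G m F :=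
  ⟨Matrix.diagonal sgn * (Fin.revPerm : Equiv.Perm (Fin (m + 1))).permMatrix F, by
    rw [Matrix.det_mul, Matrix.det_diagonal, Matrix.det_permutation]
    rw [Finset.prod_eq_single (0 : Fin (m + 1)) (fun i _ hi => by rw [sgn, if_neg hi]) (by simp), sgn, if_pos rfl,
      ← Int.cast_mul, Int.units_coe_mul_self, Int.cast_one]⟩

theorem w_apply (i l : Fin (m + 1)) : ((w m F : G m F) : M') i l = if l = i.rev then sgn i else 0 := by
  show ((Matrix.diagonal sgn * (Fin.revPerm : Equiv.Perm (Fin (m + 1))).permMatrix F : M')) i l = _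
  rw [Matrix.diagonal_mul]
  simp [Equiv.Perm.permMatrix, PEquiv.toMatrix_apply, eq_comm]

theorem mul_w (x : M') (i l : Fin (m + 1)) : (x * (w m F : M')) i l = x i l.rev * sgn l.rev := by
  rw [Matrix.mul_apply, Finset.sum_eq_single l.rev]
  · rw [w_apply, if_pos (Fin.rev_rev l).symm]
  · intro b _ hb
    rw [w_apply, if_neg (fun h => hb (by rw [h, Fin.rev_rev])), mul_zero]
  · simp

theorem w_mul (x : M') (i l : Fin (m + 1)) : ((w m F : M') * x) i l = sgn i * x i.rev l := by
  rw [Matrix.mul_apply, Finset.sum_eq_single i.rev]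
  · rw [w_apply, if_pos rfl]
  · intro b _ hb
    rw [w_apply, if_neg hb, zero_mul]
  · simp

theorem winv_apply (i l : Fin (m + 1)) :
    (((w m F)⁻¹ : G m F) : M') i l = if l = i.rev then sgn l else 0 := by
  have h : ((w m F)⁻¹ : G m F) = ⟨(w m F : M')ᵀ, by rw [Matrix.det_transpose]; exact (w m F).2⟩ := by
    refine inv_eq_of_mul_eq_one_right (Subtype.ext (Matrix.ext fun a b => ?_))
    show ((w m F : M') * (w m F : M')ᵀ) a b = (1 : M') a b
    rw [w_mul, Matrix.transpose_apply, w_apply]
    rcases eq_or_ne a b with rfl | hab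
    · rw [if_pos rfl, sgn_sq, Matrix.one_apply_eq]
    · rw [if_neg (fun h => hab (Fin.rev_injective h)), mul_zero, Matrix.one_apply_ne hab]
  rw [h]
  show (w m F : M') l i = _
  rw [w_apply]
  by_cases hl : l = i.rev
  · rw [if_pos hl, if_pos (by rw [hl, Fin.rev_rev])]
  · rw [if_neg hl, if_neg (fun h => hl (by rw [h, Fin.rev_rev]))]

theorem conj_w (x : G m F) (i l : Fin (m + 1)) :
    ((((w m F)⁻¹ * x * w m F : G m F)) : M') i l = sgn i.rev * (x : M') i.rev l.rev * sgn l.rev := by
  rw [coe_mul', mul_w, coe_mul', Matrix.mul_apply, Finset.sum_eq_single i.rev]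
  · rw [winv_apply, if_pos rfl]
  · intro b _ hb
    rw [winv_apply, if_neg hb, zero_mul]
  · simp

theorem conj_w_mem_T {t : G m F} (ht : t ∈ T m F) : (w m F)⁻¹ * t * w m F ∈ T m F := fun i j h => by
  rw [conj_w, ht _ _ (fun e => h (Fin.rev_injective e)), mul_zero, zero_mul]

theorem conj_w_inv_mem_T {t : G m F} (ht : t ∈ T m F) : w m F * t * (w m F)⁻¹ ∈ T m F := by
  have h : Function.Bijective (fun t : T m F => (⟨_, conj_w_mem_T t.2⟩ : T m F)) := by
    rw [← Finite.injective_iff_bijective]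
    intro a b hab
    exact Subtype.ext (mul_left_cancel (mul_right_cancel (congrArg Subtype.val hab)))
  obtain ⟨s, hs⟩ := h.2 ⟨t, ht⟩
  have hs' : (w m F)⁻¹ * (s : G m F) * w m F = t := congrArg Subtype.val hs
  rw [← hs']
  convert s.2 using 1
  group

theorem conj_w_lower {u : G m F} (hu : u ∈ U m F) :
    (((w m F)⁻¹ * u * w m F : G m F) : M') =
      lowMat fun x : Low (m + 1) => (((w m F)⁻¹ * u * w m F : G m F) : M') x.1.1 x.1.2 := by
  ext i l
  rcases lt_trichotomy l i with h | rfl | h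
  · simp [lowMat, h]
  · simp [lowMat, conj_w, (mem_U.1 hu).2, sgn_sq]
  · simp only [lowMat, Matrix.of_apply, dif_neg (not_lt.2 h.le), if_neg h.ne]
    rw [conj_w, (mem_U.1 hu).1 (show id l.rev < id i.rev from Fin.rev_lt_rev.2 h), mul_zero, zero_mul]

theorem conj_w_bijective :
    Function.Bijective (fun u : U m F => fun x : Low (m + 1) =>
      (((w m F)⁻¹ * (u : G m F) * w m F : G m F) : M') x.1.1 x.1.2) := by
  classical
  rw [Nat.bijective_iff_injective_and_card]
  refine ⟨fun u v h => ?_, ?_⟩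
  · have hh : (w m F)⁻¹ * (u : G m F) * w m F = (w m F)⁻¹ * (v : G m F) * w m F := by
      refine Subtype.ext ?_
      rw [conj_w_lower u.2, conj_w_lower v.2]
      exact congrArg lowMat h
    exact Subtype.ext (mul_left_cancel (mul_right_cancel hh))
  · rw [Linear.card_unitriSL, Nat.card_fun, ← Linear.card_lt_pairs]
    congr 1
    exact Nat.card_congr ((Equiv.prodComm _ _).subtypeEquiv fun x => Iff.rfl)

/-- All corner minors are non-zero. -/
def Gen (x : G m F) : Prop := ∀ k : Fin m, minor ((k : ℕ) + 1) (by omega) (x : M') ≠ 0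

theorem minor_top (x : M') : minor (m + 1) le_rfl x = x.det := by
  rw [minor, show bot (m + 1) le_rfl = id from funext fun i => Fin.ext (by simp [bot]),
    show top (m + 1) le_rfl = id from funext fun i => Fin.ext (by simp [top]), Matrix.submatrix_id_id]

theorem minor_ne_zero {x : G m F} (hx : Gen x) (j : ℕ) (hj : j ≤ m + 1) : minor j hj (x : M') ≠ 0 := by
  rcases Nat.eq_zero_or_pos j with rfl | hj0
  · simp [minor]
  rcases Nat.lt_or_eq_of_le hj with h | rfl
  · obtain ⟨k, rfl⟩ := Nat.exists_eq_add_of_le hj0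
    have := hx ⟨k, by omega⟩
    simpa [Nat.add_comm] using this
  · rw [minor_top, x.2]; exact one_ne_zero

/-- Elements with non-zero corner minors lie in the big cell. -/
theorem exists_decomp {x : G m F} (hx : Gen x) :
    ∃ b ∈ B m F, ∃ u ∈ U m F, x = b * w m F * u := by
  classical
  have hcol : ∀ k : Fin (m + 1), ∃ v : Fin (m + 1) → F, v k = 1 ∧ (∀ i, k < i → v i = 0) ∧
      ∀ r : Fin (m + 1), k.rev < r → ((x : M') *ᵥ v) r = 0 := by
    intro k
    set S := (x : M').submatrix (bot k k.isLt.le) (top k k.isLt.le)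
    have hS : IsUnit S := (Matrix.isUnit_iff_isUnit_det S).2 (isUnit_iff_ne_zero.2 (minor_ne_zero hx k k.isLt.le))
    obtain ⟨c, hc⟩ := (Matrix.mulVec_surjective_iff_isUnit.2 hS) (fun r => -(x : M') (bot k k.isLt.le r) k)
    let v : Fin (m + 1) → F := fun i => if h : (i : ℕ) < k then c ⟨i, h⟩ else if i = k then 1 else 0
    refine ⟨v, by simp [v], fun i hi => by
      have hi' : ¬ (i : ℕ) < k := by rw [Fin.lt_def] at hi; omega
      show (if h : (i : ℕ) < k then c ⟨i, h⟩ else if i = k then 1 else 0) = 0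
      rw [dif_neg hi', if_neg hi.ne'], fun r hr => ?_⟩
    have hr' : (m + 1) - (k : ℕ) ≤ (r : ℕ) := by
      rw [Fin.lt_def, Fin.val_rev] at hr; omega
    let r' : Fin (k : ℕ) := ⟨(r : ℕ) - ((m + 1) - k), by omega⟩
    have hrr : bot k k.isLt.le r' = r := Fin.ext (by simp [bot, r']; omega)
    have hv : ∀ i, v i = (if h : (i : ℕ) < k then c ⟨i, h⟩ else 0) + (Pi.single k 1 : Fin (m + 1) → F) i := by
      intro i
      by_cases h : (i : ℕ) < k
      · show (if h : (i : ℕ) < k then c ⟨i, h⟩ else if i = k then 1 else 0) = _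
        rw [dif_pos h, dif_pos h, Pi.single_eq_of_ne (show i ≠ k from fun e => by rw [e] at h; omega), add_zero]
      · rcases eq_or_ne i k with rfl | h2
        · simp [v]
        · show (if h : (i : ℕ) < k then c ⟨i, h⟩ else if i = k then 1 else 0) = _
          rw [dif_neg h, dif_neg h, if_neg h2, Pi.single_eq_of_ne h2, add_zero]
    have h1 := congrFun hc r'
    simp only [Matrix.mulVec, dotProduct] at h1 ⊢
    simp only [hv, mul_add, Finset.sum_add_distrib, Pi.single_apply, mul_ite, mul_one, mul_zero, Finset.sum_ite_eq',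
      Finset.mem_univ, if_true]
    have hs : ∑ i, (x : M') r i * (if h : (i : ℕ) < k then c ⟨i, h⟩ else 0) = ∑ i, S r' i * c i := by
      refine (Fintype.sum_of_injective (top k k.isLt.le) (top_injective _ _) _ _ (fun i hi => ?_) fun i => ?_).symm
      · rw [dif_neg (fun h => hi ⟨⟨i, h⟩, Fin.ext rfl⟩), mul_zero]
      · simp [S, Matrix.submatrix_apply, hrr, top]
    rw [hs, h1, hrr]
    ring
  choose v hv1 hv2 hv3 using hcol
  let um : M' := Matrix.of fun i k => v k i
  have hum : um.BlockTriangular id := fun i k h => hv2 k i h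
  have humd : um.det = 1 := by
    rw [Linear.blockTriangular_det hum]
    exact Finset.prod_eq_one fun i _ => hv1 i
  let u : G m F := ⟨um, humd⟩
  have hu : u ∈ U m F := mem_U.2 ⟨hum, hv1⟩
  refine ⟨x * u * (w m F)⁻¹, fun i l (hil : l < i) => ?_, u⁻¹, inv_mem hu, by group⟩
  show ((x * u * (w m F)⁻¹ : G m F) : M') i l = 0
  rw [coe_mul', Matrix.mul_apply]
  refine Finset.sum_eq_zero fun s _ => ?_
  rw [winv_apply]
  by_cases hs : l = s.rev
  · have h1 : ((x * u : G m F) : M') i s = ((x : M') *ᵥ v s) i := rfl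
    rw [h1, hv3 s i (hs ▸ hil), zero_mul]
  · rw [if_neg hs, mul_zero]

theorem injective_bw : Function.Injective
    (fun b : B m F => ((((b : G m F) * w m F : G m F)) : G m F ⧸ U m F)) := by
  intro b c h
  rw [QuotientGroup.eq] at h
  have h2 : (b : G m F)⁻¹ * c ∈ B m F := mul_mem (inv_mem b.2) c.2
  set z := (b : G m F)⁻¹ * c with hz
  have h3 : (w m F)⁻¹ * z * w m F ∈ U m F := by
    rw [hz]; convert h using 1; group
  have hz1 : z = 1 := by
    refine Subtype.ext (Matrix.ext fun i l => ?_)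
    rcases lt_trichotomy i l with hil | rfl | hil
    · have h4 := (mem_U.1 h3).1 (show id l.rev < id i.rev from Fin.rev_lt_rev.2 hil)
      rw [conj_w, Fin.rev_rev, Fin.rev_rev] at h4
      rw [coe_one', Matrix.one_apply_ne hil.ne]
      have hne : ∀ i : Fin (m + 1), sgn (F := F) i ≠ 0 := fun i e => by simpa [e] using sgn_sq (F := F) i
      simpa [hne] using h4
    · have h4 := (mem_U.1 h3).2 i.rev
      rw [conj_w, Fin.rev_rev, mul_comm (sgn i), mul_assoc, sgn_sq, mul_one] at h4
      rw [h4, coe_one', Matrix.one_apply_eq]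
    · rw [h2 (show id l < id i from hil), coe_one', Matrix.one_apply_ne hil.ne']
  exact Subtype.ext (inv_mul_eq_one.1 hz1)

variable {k : Type*} [Field k] (ι : F →+* k)

/-- The conditions on the reduction of a central idempotent of defect zero. -/
structure IsDZ (p : ℕ) (a : G m F → k) : Prop where
  conj : ∀ g h, a (h * g * h⁻¹) = a g
  van : ∀ g, p ∣ Nat.card (Subgroup.centralizer ({g} : Set (G m F))) → a g = 0
  idem : ∀ y, ∑ x, a x * a (x⁻¹ * y) = a y
  ne : ∃ g, a g ≠ 0

variable {p : ℕ} [Fact p.Prime] [CharP F p]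

/-- Sums over the right cosets of the unitriangular group. -/
noncomputable def cs (a : G m F → k) (x : G m F) : k :=
  letI : Fintype (U m F) := Fintype.ofFinite _
  ∑ u : U m F, a (x * u)

section props

variable {a : G m F → k} (ha : IsDZ p a)
include ha

theorem comm' (g h : G m F) : a (g * h) = a (h * g) := by
  rw [← ha.conj (h * g) g]; congr 1; group

theorem cs_right (x : G m F) {u : G m F} (hu : u ∈ U m F) : cs a (x * u) = cs a x := by
  letI : Fintype (U m F) := Fintype.ofFinite _
  refine Fintype.sum_equiv (Equiv.mulLeft (⟨u, hu⟩ : U m F)) _ _ fun v => ?_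
  simp [mul_assoc]

theorem cs_left (x : G m F) {u : G m F} (hu : u ∈ U m F) : cs a (u * x) = cs a x := by
  letI : Fintype (U m F) := Fintype.ofFinite _
  refine Fintype.sum_equiv (Equiv.mulRight (⟨u, hu⟩ : U m F)) _ _ fun v => ?_
  rw [mul_assoc, comm' ha u]
  simp [mul_assoc]

include ι in
theorem cs_eq_zero {x : G m F} (hx : ¬ Gen x) : cs a x = 0 := by
  classical
  haveI : CharP k p := charP_of_injective_ringHom ι.injective p
  letI : Fintype (U m F) := Fintype.ofFinite _
  simp only [Gen, not_forall, not_not] at hx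
  obtain ⟨⟨j, hjm⟩, hj⟩ := hx
  have hjn : j + 1 ≤ m + 1 := by omega
  change minor (j + 1) hjn (x : M') = 0 at hj
  obtain ⟨c, hc0, hc⟩ := Matrix.exists_mulVec_eq_zero_iff.2 hj
  obtain ⟨r, hr0, hr⟩ := Matrix.exists_vecMul_eq_zero_iff.2 hj
  let v : Fin (m + 1) → F := fun i => if h : (i : ℕ) < j + 1 then c ⟨i, h⟩ else 0
  let η : Fin (m + 1) → F := fun i =>
    if h : m - j ≤ (i : ℕ) then r ⟨(i : ℕ) - (m - j), by omega⟩ else 0
  have hbot : ∀ i : Fin (j + 1), (bot (j + 1) hjn i : ℕ) = m - j + i := fun i => by simp [bot]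
  have hxv : ∀ i : Fin (m + 1), m - j ≤ (i : ℕ) → ((x : M') *ᵥ v) i = 0 := by
    intro i hi
    let i' : Fin (j + 1) := ⟨(i : ℕ) - (m - j), by omega⟩
    have hii : bot (j + 1) hjn i' = i := Fin.ext (by rw [hbot]; simp [i']; omega)
    refine Eq.trans ?_ (congrFun hc i')
    simp only [Matrix.mulVec, dotProduct]
    refine (Fintype.sum_of_injective (top (j + 1) hjn) (top_injective _ _) _ _ (fun l hl => ?_) fun l => ?_).symm
    · simp only [v]
      rw [dif_neg (fun h => hl ⟨⟨l, h⟩, Fin.ext rfl⟩), mul_zero]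
    · simp only [v, top, Matrix.submatrix_apply]
      rw [dif_pos l.isLt]
      exact congrArg (· * c l) (congrArg (fun i => (x : M') i _) hii)
  have hηx : ∀ l : Fin (m + 1), (l : ℕ) < j + 1 → (η ᵥ* (x : M')) l = 0 := by
    intro l hl
    let l' : Fin (j + 1) := ⟨l, hl⟩
    refine Eq.trans ?_ (congrFun hr l')
    simp only [Matrix.vecMul, dotProduct]
    refine (Fintype.sum_of_injective (bot (j + 1) hjn) (bot_injective _ _) _ _ (fun i hi => ?_) fun i => ?_).symm
    · simp only [η]
      rw [dif_neg (fun h => hi ⟨⟨(i : ℕ) - (m - j), by omega⟩, Fin.ext (by rw [hbot]; simp; omega)⟩), zero_mul]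
    · simp only [η]
      rw [dif_pos (by rw [hbot]; omega)]
      congr 1
      exact congrArg r (Fin.ext (by simp [hbot]))
  have mk : ∀ (s t : Fin (m + 1) → F), (∀ i l : Fin (m + 1), l ≤ i → s i * t l = 0) →
      ∃ g ∈ U m F, (g : M') = 1 + vecMulVec s t := by
    intro s t hst
    have hbt : (1 + vecMulVec s t : M').BlockTriangular id := fun i l h => by
      simp [Matrix.one_apply_ne (show i ≠ l from ne_of_gt h), vecMulVec_apply, hst i l (le_of_lt h)]
    have hdiag : ∀ i, (1 + vecMulVec s t : M') i i = 1 := fun i => by simp [vecMulVec_apply, hst i i le_rfl]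
    exact ⟨⟨1 + vecMulVec s t, by rw [Linear.blockTriangular_det hbt]; exact Finset.prod_eq_one fun i _ => hdiag i⟩,
      mem_U.2 ⟨hbt, hdiag⟩, rfl⟩
  obtain ⟨d', hd'U, hd'⟩ := mk v (η ᵥ* (x : M')) fun i l hli => by
    by_cases h : (i : ℕ) < j + 1
    · rw [hηx l (by rw [Fin.le_def] at hli; omega), mul_zero]
    · simp only [v]
      rw [dif_neg h, zero_mul]
  obtain ⟨d, hdU, hd⟩ := mk ((x : M') *ᵥ v) η fun i l hli => by
    by_cases h : m - j ≤ (l : ℕ)
    · rw [hxv i (by rw [Fin.le_def] at hli; omega), zero_mul]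
    · simp only [η]
      rw [dif_neg h, mul_zero]
  have hxd : x * d' = d * x := Subtype.ext (by
    rw [coe_mul', coe_mul', hd', hd, mul_add, add_mul, mul_one, one_mul, Matrix.mul_vecMulVec, Matrix.vecMulVec_mul])
  have hd1 : d' ≠ 1 := by
    intro h
    rw [h, coe_one'] at hd'
    have h0 := (left_eq_add.1 hd')
    have hv0 : v ≠ 0 := by
      intro hv
      refine hc0 (funext fun i => ?_)
      have := congrFun hv (top (j + 1) hjn i)
      simp only [v, top, Pi.zero_apply] at this
      rw [dif_pos i.isLt] at this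
      exact this
    have hη0 : η ≠ 0 := by
      intro hη
      refine hr0 (funext fun i => ?_)
      have := congrFun hη (bot (j + 1) hjn i)
      simp only [η] at this
      rw [dif_pos (by rw [hbot]; omega)] at this
      exact (congrArg r (Fin.ext (by simp [hbot]))).trans this
    have hηx0 : η ᵥ* (x : M') ≠ 0 := fun e => hη0 (by
      have := congrArg (fun y => y ᵥ* ((x⁻¹ : G m F) : M')) e
      rwa [Matrix.vecMul_vecMul, ← coe_mul', mul_inv_cancel, coe_one', Matrix.vecMul_one, Matrix.zero_vecMul] at this)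
    rcases Matrix.vecMulVec_eq_zero.1 h0 with h1 | h1
    · exact hv0 h1
    · exact hηx0 h1
  have hU : IsPGroup p (U m F) := (Linear.unitriSylowSL (m + 1) F p).isPGroup'
  obtain ⟨e, he⟩ := hU ⟨d, hdU⟩
  obtain ⟨e', he'⟩ := hU ⟨d', hd'U⟩
  let σ : U m F → U m F := fun u => ⟨d', hd'U⟩ * u * (⟨d, hdU⟩ : U m F)⁻¹
  have hσ : ∀ u : U m F, a (x * ((σ u : U m F) : G m F)) = a (x * u) := by
    intro u
    show a (x * (d' * (u : G m F) * d⁻¹)) = a (x * u)
    rw [show x * (d' * (u : G m F) * d⁻¹) = d * (x * u) * d⁻¹ by rw [← mul_assoc, ← mul_assoc, hxd]; group, ha.conj]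
  have hiter : ∀ s : ℕ, ∀ u : U m F,
      σ^[s] u = (⟨d', hd'U⟩ : U m F) ^ s * u * ((⟨d, hdU⟩ : U m F) ^ s)⁻¹ := by
    intro s
    induction s with
    | zero => intro u; simp
    | succ s ih =>
      intro u
      rw [Function.iterate_succ_apply', ih, pow_succ', pow_succ']
      simp only [σ]
      group
  have key : ∀ z : k, z ≠ 0 → ((Finset.univ.filter fun u : U m F => a (x * u) = z).card : k) = 0 := by
    intro z hz
    let X := {u : U m F // a (x * u) = z}
    let f : Function.End X := fun u => ⟨σ u.1, by rw [hσ]; exact u.2⟩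
    have hf : f ^ p ^ (e + e') = 1 := by
      funext u
      apply Subtype.ext
      have hfi : ∀ s : ℕ, ∀ u : X, (((f ^ s) u : X) : U m F) = σ^[s] u.1 := by
        intro s
        induction s with
        | zero => intro u; rfl
        | succ s ih =>
          intro u
          rw [pow_succ', Function.iterate_succ_apply', ← ih]
          rfl
      show _ = (u.1 : U m F)
      rw [hfi, hiter, pow_add, pow_mul (⟨d, hdU⟩ : U m F), he, one_pow, inv_one, mul_one, mul_comm, pow_mul, he', one_pow, one_mul]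
    have hfix : IsEmpty f.fixedPoints := ⟨fun ⟨u, hu⟩ => by
      have hu' : ((σ u.1 : U m F) : G m F) = ((u.1 : U m F) : G m F) := congrArg Subtype.val (congrArg Subtype.val hu)
      have hcomm : d * (x * (u.1 : G m F)) = x * (u.1 : G m F) * d := by
        change d' * (u.1 : G m F) * d⁻¹ = (u.1 : G m F) at hu'
        rw [← mul_assoc, ← hxd, mul_assoc, mul_assoc x]
        congr 1
        exact mul_inv_eq_iff_eq_mul.1 hu'
      refine hz (u.2.symm.trans (ha.van _ ?_))
      have hdne : d ≠ 1 := by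
        intro h
        rw [h, one_mul] at hxd
        exact hd1 (mul_left_cancel (a := x) (by rw [hxd, mul_one]))
      have hmem : d ∈ Subgroup.centralizer ({x * (u.1 : G m F)} : Set (G m F)) :=
        Subgroup.mem_centralizer_singleton_iff.2 hcomm
      have hpd : p ∣ orderOf d := by
        have h1 : d ^ p ^ e = 1 := congrArg Subtype.val he
        obtain ⟨i, -, hi⟩ := (Nat.dvd_prime_pow Fact.out).1 (orderOf_dvd_of_pow_eq_one h1)
        rw [hi]
        refine dvd_pow_self p fun h0 => hdne ?_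
        rw [h0, pow_zero] at hi
        exact orderOf_eq_one_iff.1 hi
      exact hpd.trans (Subgroup.orderOf_dvd_natCard _ hmem)⟩
    have h := Equiv.Perm.card_fixedPoints_modEq (p := p) hf
    have h0 : Fintype.card f.fixedPoints = 0 := Fintype.card_eq_zero
    rw [h0, Nat.modEq_zero_iff_dvd, Fintype.card_subtype] at h
    exact (CharP.cast_eq_zero_iff k p _).2 h
  rw [cs, ← Finset.sum_fiberwise_of_maps_to (g := fun u : U m F => a (x * u))
    (t := Finset.univ.image fun u : U m F => a (x * u)) (fun u hu => Finset.mem_image_of_mem _ hu)]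
  refine Finset.sum_eq_zero fun z _ => ?_
  rw [Finset.sum_congr rfl (fun u hu => (Finset.mem_filter.1 hu).2), Finset.sum_const, nsmul_eq_mul]
  rcases eq_or_ne z 0 with rfl | hz
  · rw [mul_zero]
  · rw [key z hz, zero_mul]

theorem sum_coset (f : G m F → k) [Fintype (G m F ⧸ U m F)] :
    ∑ x, f x = ∑ q : G m F ⧸ U m F,
      letI : Fintype (U m F) := Fintype.ofFinite _
      ∑ u : U m F, f (q.out * u) := by
  letI : Fintype (U m F) := Fintype.ofFinite _
  rw [← Fintype.sum_prod_type']
  refine (Fintype.sum_bijective (fun z : (G m F ⧸ U m F) × U m F => z.1.out * (z.2 : G m F)) ?_ _ _ fun z => rfl).symm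
  refine ⟨fun z z' h => ?_, fun x => ⟨((x : G m F ⧸ U m F), ⟨_, QuotientGroup.eq.1
    (QuotientGroup.out_eq' (x : G m F ⧸ U m F))⟩), mul_inv_cancel_left _ _⟩⟩
  have h1 : z.1 = z'.1 := by
    rw [← QuotientGroup.out_eq' z.1, ← QuotientGroup.out_eq' z'.1, QuotientGroup.eq]
    have h' : z.1.out⁻¹ * z'.1.out = (z.2 : G m F) * (z'.2 : G m F)⁻¹ := by
      rw [eq_mul_inv_iff_mul_eq, mul_assoc, inv_mul_eq_iff_eq_mul]
      exact h.symm
    rw [h']
    exact mul_mem z.2.2 (inv_mem z'.2.2)
  refine Prod.ext h1 (Subtype.ext ?_)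
  simp only [h1, mul_right_inj] at h
  exact h

include ι in
theorem exists_cs_ne_zero : ∃ x, cs a x ≠ 0 := by
  classical
  haveI : CharP k p := charP_of_injective_ringHom ι.injective p
  letI : Fintype (U m F) := Fintype.ofFinite _
  haveI : Fintype (G m F ⧸ U m F) := Fintype.ofFinite _
  by_contra hall
  push Not at hall
  let L : (U m F → ZMod p) →+ (G m F → k) :=
    { toFun := fun c y => ∑ v : U m F, (ZMod.castHom dvd_rfl k) (c v) * a (y * v)
      map_zero' := by funext y; simp
      map_add' := fun c c' => by funext y; simp [add_mul, Finset.sum_add_distrib] }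
  have hL : ∀ s ∈ L.range, ∀ y, ∑ x, a (y * x⁻¹) * s x = s y := by
    rintro _ ⟨c, rfl⟩ y
    simp only [L, AddMonoidHom.coe_mk, ZeroHom.coe_mk, Finset.mul_sum]
    rw [Finset.sum_comm]
    refine Finset.sum_congr rfl fun v _ => ?_
    rw [← ha.idem (y * v), Finset.mul_sum]
    refine Fintype.sum_equiv ((Equiv.inv (G m F)).trans (Equiv.mulLeft y)) _ _ fun x => ?_
    simp only [Equiv.trans_apply, Equiv.inv_apply, Equiv.coe_mulLeft]
    rw [show (y * x⁻¹)⁻¹ * (y * v) = x * v by group]
    ring
  haveI : Finite L.range := Finite.of_surjective (fun c => (⟨L c, c, rfl⟩ : L.range))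
    (fun ⟨_, c, hc⟩ => ⟨c, Subtype.ext hc⟩)
  have hU : IsPGroup p (U m F) := (Linear.unitriSylowSL (m + 1) F p).isPGroup'
  letI act : MulAction (U m F) L.range :=
    { smul := fun v s => ⟨fun y => s.1 (y * v), by
        obtain ⟨c, hc⟩ := s.2
        refine ⟨fun z => c (v⁻¹ * z), funext fun y => ?_⟩
        rw [← hc]
        refine Fintype.sum_equiv (Equiv.mulLeft v⁻¹) _ _ fun z => ?_
        simp [mul_assoc]⟩
      one_smul := fun s => Subtype.ext (funext fun y => by show s.1 (y * _) = s.1 y; simp)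
      mul_smul := fun v v' s => Subtype.ext (funext fun y => by
        show s.1 (y * _) = s.1 (y * _ * _)
        simp [mul_assoc]) }
  have ha1 : (⟨a, ⟨Pi.single 1 1, funext fun y => by
      show (∑ v : U m F, (ZMod.castHom dvd_rfl k) ((Pi.single (1 : U m F) (1 : ZMod p) : U m F → ZMod p) v) * a (y * v)) = a y
      rw [Finset.sum_eq_single (1 : U m F) (fun v _ hv => by simp [Pi.single_eq_of_ne hv]) (by simp)]
      simp⟩⟩ : L.range) ≠ 0 := by
    obtain ⟨g, hg⟩ := ha.ne
    exact fun h => hg (congrFun (congrArg Subtype.val h) g)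
  have hdvd : p ∣ Nat.card L.range := by
    haveI : Nontrivial L.range := ⟨⟨_, _, ha1⟩⟩
    have h1 : Nat.card L.range ∣ p ^ Nat.card (U m F) := by
      refine dvd_trans (AddSubgroup.card_dvd_of_surjective L.rangeRestrict L.rangeRestrict_surjective) ?_
      rw [Nat.card_fun, Nat.card_zmod]
    obtain ⟨i, -, hi⟩ := (Nat.dvd_prime_pow Fact.out).1 h1
    rw [hi]
    refine dvd_pow_self p fun h0 => ?_
    rw [h0, pow_zero] at hi
    exact (Finite.one_lt_card (α := L.range)).ne' hi
  have h0fix : (0 : L.range) ∈ MulAction.fixedPoints (U m F) L.range := fun v => Subtype.ext rfl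
  obtain ⟨s, hs, hs0⟩ := hU.exists_fixed_point_of_prime_dvd_card_of_fixed_point L.range hdvd h0fix
  refine hs0 (Subtype.ext (funext fun y => ?_)).symm
  rw [← hL s.1 s.2 y, sum_coset ha]
  refine Finset.sum_eq_zero fun q _ => ?_
  have hinv : ∀ u : U m F, s.1 (q.out * u) = s.1 q.out := fun u => congrFun (congrArg Subtype.val (hs u)) q.out
  simp only [hinv, ← Finset.sum_mul]
  rw [show (∑ u : U m F, a (y * (q.out * (u : G m F))⁻¹)) = cs a (q.out⁻¹ * y) from
    Fintype.sum_equiv (Equiv.inv _) _ _ fun u => by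
      rw [_root_.mul_inv_rev, ← mul_assoc, comm' ha, ← mul_assoc]; rfl, hall, zero_mul]

end props

/-- The monomials in the corner minors. -/
def phi (e : Fin m → Fin (Fintype.card F - 1)) (x : G m F) : k :=
  ι (∏ l : Fin m, minor ((l : ℕ) + 1) (by omega) (x : M') ^ ((e l : ℕ) + 1))

theorem phi_eq_zero (e : Fin m → Fin (Fintype.card F - 1)) {x : G m F} (hx : ¬ Gen x) : phi ι e x = 0 := by
  simp only [Gen, not_forall, not_not] at hx
  obtain ⟨l, hl⟩ := hx
  rw [phi, Finset.prod_eq_zero (Finset.mem_univ l) (by rw [hl, zero_pow (Nat.succ_ne_zero _)]), map_zero]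

theorem phi_left_U (e : Fin m → Fin (Fintype.card F - 1)) (x : G m F) {u : G m F} (hu : u ∈ U m F) :
    phi ι e (u * x) = phi ι e x := by
  simp only [phi, coe_mul', minor_mul_left (mem_U.1 hu).1, (mem_U.1 hu).2, Finset.prod_const_one, one_mul]

theorem phi_right_U (e : Fin m → Fin (Fintype.card F - 1)) (x : G m F) {u : G m F} (hu : u ∈ U m F) :
    phi ι e (x * u) = phi ι e x := by
  simp only [phi, coe_mul', minor_mul_right (mem_U.1 hu).1, (mem_U.1 hu).2, Finset.prod_const_one, mul_one]

theorem gen_w_mul {t : G m F} (ht : t ∈ B m F) : Gen (w m F * t) := by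
  intro l
  rw [coe_mul', minor_mul_right ht]
  refine mul_ne_zero ?_ (Finset.prod_ne_zero_iff.2 fun i _ => ?_)
  · rw [minor]
    set S := (w m F : M').submatrix (bot ((l : ℕ) + 1) (by omega)) (top ((l : ℕ) + 1) (by omega))
    intro hS
    obtain ⟨c, hc0, hc⟩ := Matrix.exists_mulVec_eq_zero_iff.2 hS
    refine hc0 (funext fun i => ?_)
    have h := congrFun hc ⟨(l : ℕ) - i, by omega⟩
    simp only [Matrix.mulVec, dotProduct, S, Matrix.submatrix_apply, w_apply, Pi.zero_apply] at h
    rw [Finset.sum_eq_single i] at h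
    · rw [if_pos (Fin.ext (by simp [bot, top, Fin.val_rev]; omega))] at h
      exact (mul_eq_zero.1 h).resolve_left (sgn_ne_zero _)
    · intro b _ hb
      rw [if_neg, zero_mul]
      intro e
      simp [bot, top, Fin.ext_iff, Fin.val_rev] at e
      exact hb (Fin.ext (by omega))
    · simp
  · intro h0
    have := Finset.prod_eq_zero (Finset.mem_univ (top ((l : ℕ) + 1) (show (l : ℕ) + 1 ≤ m + 1 by omega) i)) h0
      (f := fun i => (t : M') i i)
    rw [← Linear.blockTriangular_det ht, t.2] at this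
    exact one_ne_zero this

theorem minor_w_mul_congr {t t0 : T m F}
    (h : ∀ l : Fin m, minor ((l : ℕ) + 1) (by omega) ((w m F * t : G m F) : M') =
      minor ((l : ℕ) + 1) (by omega) ((w m F * t0 : G m F) : M')) : t = t0 := by
  have hd : ∀ (s : T m F) (j : ℕ) (hj : j ≤ m + 1), minor j hj ((w m F * s : G m F) : M') =
      minor j hj (w m F : M') * ∏ i : Fin j, ((s : G m F) : M') (top j hj i) (top j hj i) := fun s j hj => by
    rw [coe_mul', minor_mul_right (T_le_B s.2)]
  have hw : ∀ (j : ℕ) (hj : j ≤ m + 1), minor j hj (w m F : M') ≠ 0 := fun j hj => by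
    have h := minor_ne_zero (gen_w_mul (one_mem (B m F))) j hj
    rwa [mul_one] at h
  have hP : ∀ (j : ℕ) (hj : j ≤ m + 1), ∏ i : Fin j, ((t : G m F) : M') (top j hj i) (top j hj i) =
      ∏ i : Fin j, ((t0 : G m F) : M') (top j hj i) (top j hj i) := by
    intro j hj
    rcases Nat.eq_zero_or_pos j with rfl | hj0
    · rfl
    refine mul_left_cancel₀ (hw j hj) ?_
    rw [← hd, ← hd]
    rcases Nat.lt_or_eq_of_le hj with hlt | rfl
    · obtain ⟨l, rfl⟩ := Nat.exists_eq_add_of_le hj0
      have h2 := h ⟨l, by omega⟩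
      simpa [Nat.add_comm] using h2
    · rw [minor_top, minor_top, (w m F * t : G m F).2, (w m F * t0 : G m F).2]
  refine Subtype.ext (Subtype.ext (Matrix.ext fun i l => ?_))
  rcases eq_or_ne i l with rfl | hil
  · have h1 := hP ((i : ℕ) + 1) i.isLt
    rw [Fin.prod_univ_castSucc, Fin.prod_univ_castSucc] at h1
    have h2 := hP (i : ℕ) i.isLt.le
    have h3 : ∀ s : M', ∏ x : Fin (i : ℕ), s (top _ i.isLt x.castSucc) (top _ i.isLt x.castSucc) =
        ∏ x : Fin (i : ℕ), s (top (i : ℕ) i.isLt.le x) (top (i : ℕ) i.isLt.le x) := fun s => rfl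
    have h4 : top ((i : ℕ) + 1) i.isLt (Fin.last _) = i := Fin.ext rfl
    rw [h3, h3, h4, h2] at h1
    refine mul_left_cancel₀ (Finset.prod_ne_zero_iff.2 fun x _ h0 => ?_) h1
    have := Finset.prod_eq_zero (Finset.mem_univ (top (i : ℕ) i.isLt.le x)) h0
      (f := fun i => ((t0 : G m F) : M') i i)
    rw [← Linear.blockTriangular_det (T_le_B t0.2), (t0 : G m F).2] at this
    exact one_ne_zero this
  · rw [t.2 i l hil, t0.2 i l hil]

theorem sum_pow_succ {z : F} (hz : z ≠ 0) :
    ∑ i : Fin (Fintype.card F - 1), z ^ ((i : ℕ) + 1) = if z = 1 then -1 else 0 := by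
  rw [Fin.sum_univ_eq_sum_range (fun i => z ^ (i + 1))]
  split_ifs with h
  · simp [h, Nat.cast_sub (Fintype.card_pos : 0 < Fintype.card F), FiniteField.cast_card_eq_zero]
  · simp only [pow_succ, ← Finset.sum_mul]
    rw [geom_sum_eq h, FiniteField.pow_card_sub_one_eq_one z hz, sub_self, zero_div, zero_mul]

/-- The coefficient of a monomial. -/
noncomputable def coef (C : G m F → k) (e : Fin m → Fin (Fintype.card F - 1)) : k :=
  letI : Fintype (T m F) := Fintype.ofFinite _
  (-1) ^ m * ∑ t : T m F, C (w m F * t) * (phi ι e (w m F * t))⁻¹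

section expansion

variable {a : G m F → k} (ha : IsDZ p a)
include ha

theorem expansion (x : G m F) : cs a x = ∑ e, coef ι (cs a) e * phi ι e x := by
  classical
  letI : Fintype (T m F) := Fintype.ofFinite _
  by_cases hx : Gen x
  swap
  · rw [cs_eq_zero ι ha hx]
    exact (Finset.sum_eq_zero fun e _ => by rw [phi_eq_zero ι e hx, mul_zero]).symm
  obtain ⟨b, hb, u, hu, rfl⟩ := exists_decomp hx
  obtain ⟨⟨t, u1⟩, htu⟩ := TU.surjective ⟨b, hb⟩
  have hbt : b = (t : G m F) * u1 := (congrArg Subtype.val htu).symm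
  set t0 : T m F := ⟨(w m F)⁻¹ * t * w m F, conj_w_mem_T t.2⟩
  have hx' : b * w m F * u = (t * u1 * (t : G m F)⁻¹) * (w m F * t0) * u := by
    rw [hbt]; simp only [t0]; group
  have h1 : (t : G m F) * u1 * (t : G m F)⁻¹ ∈ U m F := conj_mem_U (T_le_B t.2) u1.2
  rw [hx', cs_right ha _ hu, cs_left ha _ h1]
  simp only [phi_right_U ι _ _ hu, phi_left_U ι _ _ h1]
  simp only [coef, mul_assoc, ← Finset.mul_sum]
  simp only [Finset.sum_mul]
  rw [Finset.sum_comm]
  have key : ∀ s : T m F, ∑ e : Fin m → Fin (Fintype.card F - 1), cs a (w m F * s) * (phi ι e (w m F * s))⁻¹ * phi ι e (w m F * t0) =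
      if s = t0 then (-1) ^ m * cs a (w m F * t0) else 0 := by
    intro s
    have hne : ∀ r : T m F, ∀ l : Fin m, minor ((l : ℕ) + 1) (by omega) ((w m F * r : G m F) : M') ≠ 0 :=
      fun r => gen_w_mul (T_le_B r.2)
    let z : Fin m → F := fun l => minor ((l : ℕ) + 1) (by omega) ((w m F * t0 : G m F) : M') *
      (minor ((l : ℕ) + 1) (by omega) ((w m F * s : G m F) : M'))⁻¹
    have hz : ∀ l, z l ≠ 0 := fun l => mul_ne_zero (hne t0 l) (inv_ne_zero (hne s l))
    have h2 : ∀ e : Fin m → Fin (Fintype.card F - 1),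
        (phi ι e (w m F * s))⁻¹ * phi ι e (w m F * t0) = ι (∏ l, z l ^ ((e l : ℕ) + 1)) := by
      intro e
      rw [phi, phi, ← map_inv₀, ← map_mul, ← Finset.prod_inv_distrib, ← Finset.prod_mul_distrib]
      congr 1
      refine Finset.prod_congr rfl fun l _ => ?_
      rw [mul_comm, ← inv_pow, ← mul_pow]
    have h3 : ∑ e : Fin m → Fin (Fintype.card F - 1), ∏ l, z l ^ ((e l : ℕ) + 1) =
        ∏ l, ∑ i : Fin (Fintype.card F - 1), z l ^ ((i : ℕ) + 1) := by
      rw [Finset.prod_univ_sum, Fintype.piFinset_univ]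
    simp only [mul_assoc, ← Finset.mul_sum, h2, ← map_sum, h3, sum_pow_succ (hz _)]
    split_ifs with hs
    · subst hs
      rw [Finset.prod_congr rfl (fun l _ => if_pos (by simp only [z]; exact mul_inv_cancel₀ (hne _ l))),
        Finset.prod_const, Finset.card_univ, Fintype.card_fin, map_pow, map_neg, map_one, mul_comm]
    · obtain ⟨l, hl⟩ : ∃ l, z l ≠ 1 := by
        by_contra! hall
        exact hs (minor_w_mul_congr fun l => ((mul_inv_eq_one₀ (hne s l)).1 (hall l)).symm)
      rw [Finset.prod_eq_zero (Finset.mem_univ l) (if_neg hl), map_zero, mul_zero]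
  rw [Finset.sum_congr rfl fun s _ => key s, Finset.sum_ite_eq' Finset.univ t0, if_pos (Finset.mem_univ _),
    ← mul_assoc ((-1 : k) ^ m), ← mul_pow, neg_mul_neg, one_mul, one_pow, one_mul]

end expansion

/-- The top exponents. -/
noncomputable def topE : Fin m → Fin (Fintype.card F - 1) :=
  fun _ => ⟨Fintype.card F - 2, by have := Fintype.one_lt_card (α := F); omega⟩

/-- The coefficient of the only surviving monomial. -/
noncomputable def surv (A : G m F → k) (y : G m F) : k :=
  letI : Fintype (B m F) := Fintype.ofFinite _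
  ∑ b : B m F, A ((b : G m F) * w m F) * phi ι topE (((b : G m F) * w m F)⁻¹ * y)

theorem sum_phi_eq_zero {e : Fin m → Fin (Fintype.card F - 1)} (he : e ≠ topE) :
    letI : Fintype (U m F) := Fintype.ofFinite _
    ∑ u : U m F, phi ι e ((w m F)⁻¹ * (u : G m F) * w m F) = 0 := by
  classical
  letI : Fintype (U m F) := Fintype.ofFinite _
  have hlt : ∀ l, (e l : ℕ) < Fintype.card F - 1 := fun l => (e l).isLt
  have h := sum_minor_pow (F := F) (fun l => (e l : ℕ) + 1) (fun l => hlt l) (by
    by_contra! h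
    refine he (funext fun l => Fin.ext ?_)
    have := h l
    have := hlt l
    simp only [topE]; omega)
  simp only [phi, ← map_sum]
  rw [← map_zero ι]
  congr 1
  refine Eq.trans (Fintype.sum_bijective _ conj_w_bijective _ _ fun u => ?_) h
  conv_lhs => rw [conj_w_lower u.2]

theorem conv_eq {a b : G m F → k} (ha : IsDZ p a) (hb : IsDZ p b) (t0 : T m F) :
    letI : Fintype (U m F) := Fintype.ofFinite _
    ∑ u : U m F, ∑ x, a x * b (x⁻¹ * ((t0 : G m F) * w m F * u)) =
      coef ι (cs b) topE * surv ι (cs a) ((t0 : G m F) * w m F) := by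
  classical
  letI : Fintype (U m F) := Fintype.ofFinite _
  letI : Fintype (B m F) := Fintype.ofFinite _
  letI : Fintype (T m F) := Fintype.ofFinite _
  haveI : Fintype (G m F ⧸ U m F) := Fintype.ofFinite _
  set y := (t0 : G m F) * w m F
  rw [Finset.sum_comm]
  have h1 : ∀ x, ∑ u : U m F, a x * b (x⁻¹ * (y * u)) = a x * cs b (x⁻¹ * y) := fun x => by
    rw [cs, Finset.mul_sum]
    simp [mul_assoc]
  rw [Finset.sum_congr rfl fun x _ => h1 x, sum_coset ha]
  have h2 : ∀ q : G m F ⧸ U m F, ∑ u : U m F, a (q.out * u) * cs b ((q.out * (u : G m F))⁻¹ * y) =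
      cs a q.out * cs b (q.out⁻¹ * y) := by
    intro q
    rw [show cs a q.out = ∑ u : U m F, a (q.out * u) from rfl, Finset.sum_mul]
    refine Finset.sum_congr rfl fun u _ => ?_
    rw [_root_.mul_inv_rev, mul_assoc, cs_left hb _ (inv_mem u.2)]
  rw [Finset.sum_congr rfl fun q _ => h2 q]
  have hout : ∀ g : G m F, cs a (g : G m F ⧸ U m F).out * cs b ((g : G m F ⧸ U m F).out⁻¹ * y) =
      cs a g * cs b (g⁻¹ * y) := by
    intro g
    obtain ⟨v, hv⟩ := QuotientGroup.mk_out_eq_mul (U m F) g
    rw [hv, cs_right ha _ v.2, _root_.mul_inv_rev, mul_assoc, cs_left hb _ (inv_mem v.2)]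
  have h3 : ∑ q : G m F ⧸ U m F, cs a q.out * cs b (q.out⁻¹ * y) =
      ∑ c : B m F, cs a ((c : G m F) * w m F) * cs b (((c : G m F) * w m F)⁻¹ * y) := by
    refine (Fintype.sum_of_injective _ injective_bw _ _ (fun q hq => ?_) fun c => (hout _).symm).symm
    suffices h : ¬ Gen q.out by rw [cs_eq_zero ι ha h, zero_mul]
    intro hg
    obtain ⟨c, hc, u, hu, e⟩ := exists_decomp hg
    refine hq ⟨⟨c, hc⟩, ?_⟩
    show ((c * w m F : G m F) : G m F ⧸ U m F) = q
    rw [← QuotientGroup.out_eq' q, QuotientGroup.eq, e]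
    simpa [mul_assoc] using hu
  rw [h3]
  simp only [expansion ι hb, Finset.mul_sum]
  rw [Finset.sum_comm, Finset.sum_eq_single topE]
  · rw [surv, Finset.mul_sum]
    exact Finset.sum_congr rfl fun c _ => by ring
  · intro e _ he
    rw [← TU.sum_comp, Fintype.sum_prod_type]
    refine Finset.sum_eq_zero fun t _ => ?_
    set s : G m F := (w m F)⁻¹ * ((t : G m F)⁻¹ * t0) * w m F
    have hs : s ∈ B m F := T_le_B (conj_w_mem_T (mul_mem (inv_mem t.2) t0.2))
    have h4 : ∀ u : U m F, cs a (((TU (t, u) : B m F) : G m F) * w m F) *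
        (coef ι (cs b) e * phi ι e ((((TU (t, u) : B m F) : G m F) * w m F)⁻¹ * y)) =
      cs a ((t : G m F) * w m F) * coef ι (cs b) e *
        ι (∏ l : Fin m, (∏ i, (s : M') (top ((l : ℕ) + 1) (by omega) i) (top ((l : ℕ) + 1) (by omega) i)) ^ ((e l : ℕ) + 1)) *
        phi ι e ((w m F)⁻¹ * ((u⁻¹ : U m F) : G m F) * w m F) := by
      intro u
      rw [TU_apply]
      have e1 : (t : G m F) * u * w m F = ((t : G m F) * u * (t : G m F)⁻¹) * ((t : G m F) * w m F) := by group
      have e2 : ((t : G m F) * u * w m F)⁻¹ * y = (w m F)⁻¹ * ((u⁻¹ : U m F) : G m F) * w m F * s := by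
        simp only [y, s, Subgroup.coe_inv]; group
      rw [e2, e1, cs_left ha _ (conj_mem_U (T_le_B t.2) u.2)]
      simp only [phi, coe_mul' _ s, minor_mul_right hs, mul_pow, Finset.prod_mul_distrib, map_mul]
      ring
    simp only [h4, ← Finset.mul_sum]
    rw [show (∑ u : U m F, phi ι e ((w m F)⁻¹ * ((u⁻¹ : U m F) : G m F) * w m F)) = 0 from
      (Fintype.sum_equiv (Equiv.inv _) _ _ fun u => rfl).trans (sum_phi_eq_zero ι he), mul_zero]
  · simp

theorem exists_torus_cs_ne_zero {a : G m F → k} (ha : IsDZ p a) (hι : Function.Injective ι) :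
    ∃ t0 : T m F, cs a ((t0 : G m F) * w m F) ≠ 0 := by
  obtain ⟨x, hx⟩ := exists_cs_ne_zero ι ha
  have hg : Gen x := by
    by_contra h
    exact hx (cs_eq_zero ι ha h)
  obtain ⟨b, hb, u, hu, rfl⟩ := exists_decomp hg
  obtain ⟨⟨t, u1⟩, htu⟩ := TU.surjective ⟨b, hb⟩
  have hbt : b = (t : G m F) * u1 := (congrArg Subtype.val htu).symm
  refine ⟨t, fun h => hx ?_⟩
  rw [cs_right ha _ hu, hbt,
    show (t : G m F) * u1 * w m F = ((t : G m F) * u1 * (t : G m F)⁻¹) * ((t : G m F) * w m F) by group,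
    cs_left ha _ (conj_mem_U (T_le_B t.2) u1.2), h]

include ι in
/-- Two orthogonal such functions do not exist. -/
theorem not_orthogonal {a b : G m F → k} (ha : IsDZ p a) (hb : IsDZ p b)
    (hab : ∀ y, ∑ x, a x * b (x⁻¹ * y) = 0) (hba : ∀ y, ∑ x, b x * a (x⁻¹ * y) = 0) : False := by
  letI : Fintype (U m F) := Fintype.ofFinite _
  obtain ⟨ta, hta⟩ := exists_torus_cs_ne_zero ι ha ι.injective
  have h1 := conv_eq ι ha ha ta
  simp only [ha.idem] at h1
  have h2 := conv_eq ι ha hb ta
  simp only [hab, Finset.sum_const_zero] at h2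
  have hca : surv ι (cs a) ((ta : G m F) * w m F) ≠ 0 := fun h => hta (by
    rw [h, mul_zero] at h1
    exact h1)
  have hcb : coef ι (cs b) topE = 0 := (mul_eq_zero.1 h2.symm).resolve_right hca
  obtain ⟨tb, htb⟩ := exists_torus_cs_ne_zero ι hb ι.injective
  have h3 := conv_eq ι hb hb tb
  simp only [hb.idem] at h3
  rw [hcb, zero_mul] at h3
  exact htb h3

end Cfsg.Agent.H54.DZ
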