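import Cfsg.Agent.H37.Chev.Struct
import Cfsg.Agent.Chevalley.DataF4
import Cfsg.Prelude.Def_LieTwisted

/-!
The 2-elements of `F₄(2^f)` and of `²F₄(q)` have order at most 32.
-/

set_option autoImplicit false

namespace Cfsg.Agent.H54.F4Two

open Cfsg.Lie Cfsg.Agent.Chevalley Cfsg.Agent.H37

variable {K : Type*} [Field K]

/-- Height of a root. -/
def ht (r : ℕ) : ℤ := ((List.range 4).map (F4.cert.cf r)).sum

theorem ht_check : ((List.range 48).all fun r =>
    decide (-11 ≤ ht r) && decide (ht r ≤ 11) && (decide (r < 24) || decide (1 ≤ ht r))) = true := by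
  decide +kernel

theorem ht_spec {r : ℕ} (hr : r < 48) : -11 ≤ ht r ∧ ht r ≤ 11 ∧ (24 ≤ r → 1 ≤ ht r) := by
  have h := List.all_eq_true.1 ht_check r (List.mem_range.2 hr)
  simp only [Bool.and_eq_true, Bool.or_eq_true, decide_eq_true_eq] at h
  exact ⟨h.1.1, h.1.2, fun h' => h.2.resolve_left (by omega)⟩

/-- Height of a coordinate. -/
def htI (a : chevF4.Idx) : ℤ := ((List.range 4).map (F4.cert.cfI a)).sum

theorem htI_bound (a : chevF4.Idx) : -11 ≤ htI a ∧ htI a ≤ 11 := by
  rcases a with i | s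
  · have h0 : ∀ k, F4.cert.cfI (Sum.inl i) k = 0 := fun k => rfl
    simp [htI, h0, List.range_succ]
  · have := ht_spec (show (s : ℕ) < 48 from s.isLt)
    exact ⟨this.1, this.2.1⟩

/-- Rank of a coordinate. -/
def rk (a : chevF4.Idx) : ℕ := (htI a + 11).toNat

theorem rk_lt (a : chevF4.Idx) : rk a < 23 := by
  have := htI_bound a
  rw [rk]
  omega

theorem x_raises {r : ℕ} (hr : r < 48) (hp : 24 ≤ r) (t : K) :
    Raises rk 1 (chevF4.x K r t - 1) := by
  intro a b hab
  rw [F4.cert.x_eq (F := K) (show r < chevF4.nroots from hr), xR_eq_sum, Finset.sum_range_succ',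
    F4.cert.aMat_zero, Matrix.map_one _ Int.cast_zero Int.cast_one, pow_zero, one_smul,
    add_sub_cancel_right, Matrix.sum_apply] at hab
  obtain ⟨k, hk, hne⟩ := Finset.exists_ne_zero_of_sum_ne_zero hab
  have hA : aMat chevF4 r (k + 1) a b ≠ 0 := by
    intro h
    simp [h] at hne
  have h := F4.cert.aMat_homog (show r < chevF4.nroots from hr) (k + 1) a b hA
  have e : htI a = ((k + 1 : ℕ) : ℤ) * ht r + htI b := by
    simp only [htI, ht]
    rw [← List.sum_map_mul_left, ← List.sum_map_add]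
    exact congrArg List.sum (List.map_congr_left fun i hi => h i (List.mem_range.1 hi))
  have hk1 : (1 : ℤ) ≤ ((k + 1 : ℕ) : ℤ) * ht r := by
    have := (ht_spec hr).2.2 hp
    push_cast
    nlinarith
  have := htI_bound b
  simp only [rk]
  omega

/-- The unipotent subgroup of the height filtration. -/
noncomputable def uni (K : Type*) [Field K] : Subgroup (GL chevF4.Idx K) := uniGroup K rk 23 rk_lt 0

theorem posUnipotent_le : chevF4.posUnipotent K ≤ uni K := by
  refine (Subgroup.closure_le _).2 ?_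
  rintro g ⟨r, t, hr, hg⟩
  show Raises rk 1 _
  rw [hg]
  exact x_raises hr.1 ((F4.cert.pos_iff r hr.1).1.1 hr) t

theorem uni_pow [CharP K 2] {g : GL chevF4.Idx K} (hg : g ∈ uni K) : g ^ 32 = 1 := by
  have hg' : Raises rk 1 ((g : Matrix chevF4.Idx chevF4.Idx K) - 1) := hg
  have h0 : ((g : Matrix chevF4.Idx chevF4.Idx K) - 1) ^ 32 = 0 :=
    pow_eq_zero_of_le (by norm_num) (hg'.pow_eq_zero rk_lt (le_refl 23))
  haveI : Nonempty chevF4.Idx := ⟨.inr ⟨0, by show 0 < 48; norm_num⟩⟩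
  haveI : CharP (Matrix chevF4.Idx chevF4.Idx K) 2 := Matrix.charP 2
  haveI : Fact (Nat.Prime 2) := ⟨Nat.prime_two⟩
  rw [show 32 = 2 ^ 5 by norm_num, sub_pow_char_pow_of_commute 2 5 (Commute.one_right _), one_pow, sub_eq_zero] at h0
  exact Units.ext (by simpa using h0)

theorem diag_pow [Fintype K] {g : GL chevF4.Idx K}
    (h : ∀ a b : chevF4.Idx, a ≠ b → (g : Matrix chevF4.Idx chevF4.Idx K) a b = 0) :
    g ^ (Fintype.card K - 1) = 1 := by
  set d : chevF4.Idx → K := fun a => (g : Matrix chevF4.Idx chevF4.Idx K) a a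
  have e : (g : Matrix chevF4.Idx chevF4.Idx K) = Matrix.diagonal d := by
    ext a b
    by_cases hab : a = b
    · subst hab; simp [d]
    · simp [Matrix.diagonal_apply_ne _ hab, h a b hab]
  have hdet := (Matrix.isUnit_iff_isUnit_det _).1 g.isUnit
  rw [e, Matrix.det_diagonal, isUnit_iff_ne_zero, Finset.prod_ne_zero_iff] at hdet
  refine Units.ext ?_
  rw [Units.val_pow_eq_pow_val, e, Matrix.diagonal_pow, Units.val_one, ← Matrix.diagonal_one]
  congr 1
  funext a
  exact FiniteField.pow_card_sub_one_eq_one (d a) (hdet a (Finset.mem_univ _))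

variable [Fintype K]

/-- In `F₄(2^f)` every 2-element lies in a conjugate of `U`, so has order dividing 32. -/
theorem two_element_pow (Q : Chev.Data chevF4 K) {f : ℕ} (hK : Fintype.card K = 2 ^ f) (hf : 0 < f)
    (x : ↥(chevF4.group K)) {j : ℕ} (hx : x ^ 2 ^ j = 1) : x ^ 32 = 1 := by
  classical
  haveI : Fact (Nat.Prime 2) := ⟨Nat.prime_two⟩
  haveI : CharP K 2 := charP_of_card_eq_prime_pow (f := f) hK
  have hq : 1 < Nat.card K := by rw [Nat.card_eq_fintype_card]; exact Fintype.one_lt_card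
  set A := Q.amb
  have hU : IsPGroup 2 A.U := IsPGroup.of_card (n := f * (chevF4.nroots / 2)) (by
    rw [Q.card_U, Nat.card_eq_fintype_card, hK, pow_mul])
  -- odd torus
  have hH : ∀ h ∈ A.H, ∀ i : ℕ, h ^ 2 ^ i = 1 → h = 1 := by
    intro h hh i hi
    have h1 : h ^ (Fintype.card K - 1) = 1 :=
      Subtype.ext (by rw [Subgroup.coe_pow, Subgroup.coe_one]; exact diag_pow (Q.T.off _ hh))
    have hcop : Nat.Coprime (2 ^ i) (Fintype.card K - 1) := by
      refine Nat.Coprime.pow_left _ (Nat.coprime_two_left.2 ?_)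
      rw [hK]
      have : 2 ≤ 2 ^ f := Nat.le_self_pow hf.ne' 2
      exact Nat.Even.sub_odd (by omega) ((Nat.even_pow' hf.ne').2 even_two) odd_one
    have := pow_gcd_eq_one.2 ⟨hi, h1⟩
    rwa [hcop, pow_one] at this
  -- normaliser of U
  have hNU : ∀ g ∈ Subgroup.normalizer (A.U : Set ↥(chevF4.group K)), g ∈ A.B := by
    intro g hg
    obtain ⟨u, hu, h, hh, w, v, hv, rfl⟩ := A.exists_eq g
    have hhN : h ∈ Subgroup.normalizer (A.U : Set ↥(chevF4.group K)) := by
      rw [Subgroup.mem_normalizer_iff]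
      intro y
      refine ⟨fun hy => A.H_conj_U h hh y hy, fun hy => ?_⟩
      have := A.H_conj_U h⁻¹ (inv_mem hh) _ hy
      simpa [mul_assoc] using this
    have huN := Subgroup.le_normalizer (H := A.U) hu
    have hvN := Subgroup.le_normalizer (H := A.U) (A.Uw_le w hv)
    have hn : A.n w ∈ Subgroup.normalizer (A.U : Set ↥(chevF4.group K)) := by
      have := mul_mem (mul_mem (inv_mem (mul_mem huN hhN)) hg) (inv_mem hvN)
      rwa [show (u * h)⁻¹ * (u * h * A.n w * v) * v⁻¹ = A.n w by group] at this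
    have hw : w = 1 := by
      refine Q.X.good.eq_one_of_inv_eq_zero (by_contra fun hne => ?_)
      have hbot : A.Uw w = ⊥ := by
        rw [eq_bot_iff]
        intro y hy
        have h1 : A.n w * y * (A.n w)⁻¹ ∈ A.U := (Subgroup.mem_normalizer_iff.1 hn y).1 (A.Uw_le w hy)
        have h2 := Q.sys.flip_conj w hy
        have h3 := Q.sys.UHV _ h1 1 (one_mem _) _ h2 (mul_one _)
        exact conj_eq_one_iff.1 h3
      have hc := Q.card_Uw w
      rw [hbot, Subgroup.card_bot] at hc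
      exact absurd hc.symm (Nat.one_lt_pow hne hq).ne'
    subst hw
    rw [A.n_one, mul_one]
    exact mul_mem (mul_mem (A.U_le_B hu) (A.H_le_B hh)) (A.U_le_B (A.Uw_le _ hv))
  -- U is a Sylow subgroup
  obtain ⟨P, hUP⟩ := hU.exists_le_sylow
  have hPU : (P : Subgroup ↥(chevF4.group K)) = A.U := by
    by_contra hne
    haveI : Group.IsNilpotent (P : Subgroup ↥(chevF4.group K)) := P.isPGroup'.isNilpotent
    have hlt : A.U.subgroupOf P < ⊤ := by
      rw [lt_top_iff_ne_top, Ne, Subgroup.subgroupOf_eq_top]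
      exact fun h => hne (le_antisymm h hUP)
    obtain ⟨y, hyN, hyU⟩ := SetLike.exists_of_lt (Group.normalizerCondition_of_isNilpotent _ hlt)
    have hyN' : (y : ↥(chevF4.group K)) ∈ Subgroup.normalizer (A.U : Set ↥(chevF4.group K)) := by
      rw [Subgroup.mem_normalizer_iff]
      intro z
      rw [Subgroup.mem_normalizer_iff] at hyN
      constructor
      · intro hz
        exact (hyN ⟨z, hUP hz⟩).1 hz
      · intro hz
        have hzP : z ∈ (P : Subgroup ↥(chevF4.group K)) := by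
          have := mul_mem (mul_mem (inv_mem y.2) (hUP hz)) y.2
          simpa [mul_assoc] using this
        exact (hyN ⟨z, hzP⟩).2 hz
    obtain ⟨u, hu, h, hh, e⟩ : ∃ u ∈ A.U, ∃ h ∈ A.H, (y : ↥(chevF4.group K)) = u * h := by
      obtain ⟨u, hu, h, hh, e⟩ := hNU _ hyN'
      exact ⟨u, hu, h, hh, e⟩
    have hhP : h ∈ (P : Subgroup ↥(chevF4.group K)) := by
      rw [show h = u⁻¹ * (y : ↥(chevF4.group K)) by rw [e]; group]
      exact mul_mem (inv_mem (hUP hu)) y.2
    obtain ⟨i, hi⟩ := P.isPGroup' ⟨h, hhP⟩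
    have h1 := hH h hh i (congrArg Subtype.val hi)
    exact hyU (by rw [Subgroup.mem_subgroupOf, e, h1, mul_one]; exact hu)
  have hxP : IsPGroup 2 (Subgroup.zpowers x) := by
    intro z
    obtain ⟨k, hk⟩ := Subgroup.mem_zpowers_iff.1 z.2
    refine ⟨j, Subtype.ext ?_⟩
    rw [Subgroup.coe_pow, ← hk, ← zpow_natCast, ← zpow_mul, mul_comm, zpow_mul, zpow_natCast, hx, one_zpow]
    rfl
  obtain ⟨P', hP'⟩ := hxP.exists_le_sylow
  obtain ⟨g, hg⟩ := MulAction.exists_smul_eq (↥(chevF4.group K)) P P'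
  have hxg : g⁻¹ * x * g ∈ A.U := by
    have h1 : x ∈ ((g • P : Sylow 2 _) : Subgroup ↥(chevF4.group K)) := by
      rw [hg]; exact hP' (Subgroup.mem_zpowers x)
    rw [Sylow.coe_subgroup_smul, Subgroup.mem_pointwise_smul_iff_inv_smul_mem] at h1
    rw [← hPU]
    simpa [MulAut.smul_def] using h1
  rw [Q.amb_U, Subgroup.mem_subgroupOf] at hxg
  have h32 : (g⁻¹ * x * g) ^ 32 = 1 :=
    Subtype.ext (by rw [Subgroup.coe_pow, Subgroup.coe_one]; exact uni_pow (posUnipotent_le hxg))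
  have e : (g⁻¹ * x * g⁻¹⁻¹) ^ 32 = g⁻¹ * x ^ 32 * g⁻¹⁻¹ := conj_pow
  rw [inv_inv] at e
  rw [e] at h32
  calc x ^ 32 = g * (g⁻¹ * x ^ 32 * g) * g⁻¹ := by group
    _ = 1 := by rw [h32]; group

theorem twisted_le (e : ℕ) : twistedF4 K e ≤ chevF4.group K := by
  refine (Subgroup.closure_le _).2 ?_
  rintro g ⟨w, -, hg⟩
  have : g = F4.cert.wU K w := Units.ext (hg.trans (F4.cert.coe_wU K w).symm)
  rw [this]
  exact F4.cert.wU_mem K fun p _ => F4.cert.xU_mem_group K p.1 p.2

/-- `²F₄(q)`: the statement, given the facts on the torus. -/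
theorem orderOf_le_of_data (Q : Chev.Data chevF4 K) (m : ℕ) (hK : Fintype.card K = 2 ^ (2 * m + 1))
    (x : ↥(twistedF4 K (2 ^ m))) (hx : ∃ j : ℕ, orderOf x = 2 ^ j) : orderOf x ≤ 32 := by
  obtain ⟨j, hj⟩ := hx
  let y : ↥(chevF4.group K) := ⟨x.1, twisted_le (2 ^ m) x.2⟩
  have hy : y ^ 2 ^ j = 1 := Subtype.ext (by
    rw [Subgroup.coe_pow, Subgroup.coe_one]
    show (x : GL chevF4.Idx K) ^ 2 ^ j = 1
    rw [← Subgroup.coe_pow, ← hj, pow_orderOf_eq_one, Subgroup.coe_one])
  have h32 := two_element_pow Q hK (by omega) y hy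
  refine Nat.le_of_dvd (by norm_num) (orderOf_dvd_of_pow_eq_one (Subtype.ext ?_))
  rw [Subgroup.coe_pow, Subgroup.coe_one]
  exact congrArg Subtype.val h32

end Cfsg.Agent.H54.F4Two
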