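import Mathlib

/-!
The flag of iterated fixed spaces of a p-group of matrices in characteristic p.
-/

set_option autoImplicit false

namespace Cfsg.Agent.H54

open Matrix

variable {F : Type*} [Field F] {n : ℕ} (U : Subgroup (Matrix.SpecialLinearGroup (Fin n) F))

/-- The preimage of the fixed points of `U` on `F^n / W`. -/
def fixStep (W : Submodule F (Fin n → F)) : Submodule F (Fin n → F) where
  carrier := {v | ∀ u ∈ U, (u : Matrix (Fin n) (Fin n) F) *ᵥ v - v ∈ W}
  add_mem' := fun {a b} ha hb u hu => by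
    have := W.add_mem (ha u hu) (hb u hu)
    rwa [Matrix.mulVec_add, add_sub_add_comm]
  zero_mem' := fun u _ => by simp
  smul_mem' := fun c {a} ha u hu => by
    have := W.smul_mem c (ha u hu)
    rwa [Matrix.mulVec_smul, ← smul_sub]

/-- Iterated fixed spaces. -/
def fixFlag : ℕ → Submodule F (Fin n → F)
  | 0 => ⊥
  | i + 1 => fixStep U (fixFlag i)

lemma fixStep_mono {W W' : Submodule F (Fin n → F)} (h : W ≤ W') : fixStep U W ≤ fixStep U W' :=
  fun _ hv u hu => h (hv u hu)

lemma fixFlag_le_succ : ∀ i, fixFlag U i ≤ fixFlag U (i + 1)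
  | 0 => bot_le
  | i + 1 => fixStep_mono U (fixFlag_le_succ i)

lemma fixFlag_invariant {g : Matrix.SpecialLinearGroup (Fin n) F}
    (hg : g ∈ Subgroup.normalizer (U : Set (Matrix.SpecialLinearGroup (Fin n) F))) :
    ∀ i, ∀ v ∈ fixFlag U i, (g : Matrix (Fin n) (Fin n) F) *ᵥ v ∈ fixFlag U i := by
  intro i
  induction i with
  | zero => intro v hv; rw [fixFlag, Submodule.mem_bot] at hv ⊢; simp [hv]
  | succ i ih =>
    intro v hv u hu
    have hu' : g⁻¹ * u * g ∈ U := by
      have := (Subgroup.mem_normalizer_iff.1 hg (g⁻¹ * u * g)).2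
      rw [show g * (g⁻¹ * u * g) * g⁻¹ = u by group] at this
      exact this hu
    have h1 := ih _ (hv _ hu')
    have e : (g : Matrix (Fin n) (Fin n) F) * (g⁻¹ * u * g : Matrix.SpecialLinearGroup (Fin n) F) =
        (u : Matrix (Fin n) (Fin n) F) * (g : Matrix (Fin n) (Fin n) F) := by
      rw [← Matrix.SpecialLinearGroup.coe_mul, ← Matrix.SpecialLinearGroup.coe_mul]
      congr 1
      rw [mul_assoc g⁻¹, mul_inv_cancel_left]
    rw [Matrix.mulVec_sub, Matrix.mulVec_mulVec, e, ← Matrix.mulVec_mulVec] at h1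
    exact h1

variable [Finite F] (p : ℕ) [Fact p.Prime] [CharP F p]

lemma fixFlag_lt_succ (hU : IsPGroup p ↥U) (i : ℕ) (hi : fixFlag U i ≠ ⊤) :
    fixFlag U i < fixFlag U (i + 1) := by
  refine lt_of_le_of_ne (fixFlag_le_succ U i) (fun heq => ?_)
  set W := fixFlag U i with hW
  have hinv : ∀ u : U, W ≤ W.comap (Matrix.mulVecLin (u.1 : Matrix (Fin n) (Fin n) F)) := fun u v hv =>
    fixFlag_invariant U (Subgroup.le_normalizer u.2) i v hv
  let act : U →* Function.End ((Fin n → F) ⧸ W) :=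
    { toFun := fun u => (W.mapQ W (Matrix.mulVecLin (u.1 : Matrix (Fin n) (Fin n) F)) (hinv u) : _ → _)
      map_one' := by
        funext x
        obtain ⟨v, rfl⟩ := Submodule.mkQ_surjective W x
        show Submodule.Quotient.mk _ = Submodule.Quotient.mk v
        simp
      map_mul' := fun a b => by
        funext x
        obtain ⟨v, rfl⟩ := Submodule.mkQ_surjective W x
        show Submodule.Quotient.mk _ = Submodule.Quotient.mk _
        simp [Matrix.mulVec_mulVec] }
  letI : MulAction U ((Fin n → F) ⧸ W) := MulAction.compHom _ act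
  have hdvd : p ∣ Nat.card ((Fin n → F) ⧸ W) := by
    haveI : Nontrivial ((Fin n → F) ⧸ W) := Submodule.Quotient.nontrivial_iff.2 hi
    obtain ⟨x, hx⟩ := exists_ne (0 : (Fin n → F) ⧸ W)
    have hord : addOrderOf x = p := addOrderOf_eq_prime (by
      rw [← Nat.cast_smul_eq_nsmul F, CharP.cast_eq_zero, zero_smul]) hx
    rw [← hord]
    exact addOrderOf_dvd_natCard x
  have h0 : (0 : (Fin n → F) ⧸ W) ∈ MulAction.fixedPoints U ((Fin n → F) ⧸ W) := fun u =>
    map_zero (W.mapQ W (Matrix.mulVecLin (u.1 : Matrix (Fin n) (Fin n) F)) (hinv u))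
  haveI : Finite ((Fin n → F) ⧸ W) := Finite.of_surjective _ W.mkQ_surjective
  obtain ⟨x, hx, hne⟩ := hU.exists_fixed_point_of_prime_dvd_card_of_fixed_point _ hdvd h0
  obtain ⟨v, rfl⟩ := Submodule.mkQ_surjective W x
  have hv : v ∈ fixFlag U (i + 1) := fun u hu => (Submodule.Quotient.eq W).1 (hx ⟨u, hu⟩)
  rw [← heq] at hv
  exact hne ((Submodule.Quotient.mk_eq_zero W).2 hv).symm

end Cfsg.Agent.H54
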