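import Mathlib

/-!
A lower bound for the number of joint eigencharacters of commuting operators permuted by coordinate inversions.
-/

set_option autoImplicit false

namespace Cfsg.Agent.H54

open Finset

/-- A finite set of functions closed under inverting single coordinates in `S`, such that every coordinate in `S`
is moved somewhere, has at least `2 * #S` members. -/
theorem card_flip_closed {ι K : Type*} [DecidableEq ι] [DecidableEq K] [InvolutiveInv K] [One K] :
    ∀ (S : Finset ι) (X : Finset (ι → K)),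
      (∀ i ∈ S, ∀ χ ∈ X, Function.update χ i (χ i)⁻¹ ∈ X) →
      (∀ i ∈ S, ∃ χ ∈ X, χ i ≠ (χ i)⁻¹) → 2 * S.card ≤ X.card := by
  intro S
  induction S using Finset.strongInduction with
  | _ S ih =>
    intro X hclosed hmove
    rcases S.eq_empty_or_nonempty with rfl | ⟨i, hi⟩
    · simp
    classical
    let X0 := X.filter (fun χ => χ i = (χ i)⁻¹)
    let X1 := X.filter (fun χ => χ i ≠ (χ i)⁻¹)
    let S1 := (S.erase i).filter (fun j => ∃ χ ∈ X0, χ j ≠ (χ j)⁻¹)
    let S2 := (S.erase i).filter (fun j => ¬ ∃ χ ∈ X0, χ j ≠ (χ j)⁻¹)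
    have hsub1 : S1 ⊂ S := lt_of_le_of_lt (filter_subset _ _) (erase_ssubset hi)
    have hsub2 : S2 ⊂ S := lt_of_le_of_lt (filter_subset _ _) (erase_ssubset hi)
    have hS : S1.card + S2.card + 1 = S.card := by
      rw [card_filter_add_card_filter_not, card_erase_add_one hi]
    have hX : X0.card + X1.card = X.card := card_filter_add_card_filter_not _
    have hpres : ∀ j ∈ S, j ≠ i → ∀ χ : ι → K, (Function.update χ j (χ j)⁻¹) i = χ i := fun j _ hj χ =>
      Function.update_of_ne hj.symm _ _
    have h0 : 2 * S1.card ≤ X0.card := by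
      refine ih S1 hsub1 X0 (fun j hj χ hχ => ?_) (fun j hj => (mem_filter.1 hj).2)
      obtain ⟨hjS, -⟩ := mem_filter.1 hj
      obtain ⟨hji, hjS⟩ := mem_erase.1 hjS
      obtain ⟨hχX, hχi⟩ := mem_filter.1 hχ
      exact mem_filter.2 ⟨hclosed j hjS χ hχX, by rw [hpres j hjS hji]; exact hχi⟩
    let f : (ι → K) → (ι → K) := fun χ => Function.update χ i 1
    have hfib : ∀ y ∈ X1.image f, 2 ≤ (X1.filter fun χ => f χ = y).card := by
      intro y hy
      obtain ⟨χ, hχ, rfl⟩ := mem_image.1 hy
      obtain ⟨hχX, hχi⟩ := mem_filter.1 hχ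
      let χ' := Function.update χ i (χ i)⁻¹
      have hne : χ ≠ χ' := fun h => hχi (by
        have := congrFun h i
        simpa [χ'] using this)
      rw [← card_pair hne]
      refine card_le_card (fun z hz => ?_)
      simp only [mem_insert, mem_singleton] at hz
      rcases hz with rfl | rfl
      · exact mem_filter.2 ⟨hχ, rfl⟩
      · refine mem_filter.2 ⟨mem_filter.2 ⟨hclosed i hi χ hχX, ?_⟩, Function.update_idem _ _ _⟩
        show Function.update χ i (χ i)⁻¹ i ≠ (Function.update χ i (χ i)⁻¹ i)⁻¹
        rw [Function.update_self, inv_inv]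
        exact Ne.symm hχi
    have h1 : 2 * (X1.image f).card ≤ X1.card := by
      rw [card_eq_sum_card_fiberwise (f := f) (t := X1.image f) (fun χ hχ => mem_image_of_mem f hχ)]
      calc 2 * (X1.image f).card = ∑ _y ∈ X1.image f, 2 := by rw [sum_const, smul_eq_mul, mul_comm]
        _ ≤ _ := sum_le_sum hfib
    have h2 : 2 * S2.card ≤ (X1.image f).card := by
      refine ih S2 hsub2 _ (fun j hj χ hχ => ?_) (fun j hj => ?_)
      · obtain ⟨hjS, -⟩ := mem_filter.1 hj
        obtain ⟨hji, hjS⟩ := mem_erase.1 hjS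
        obtain ⟨ψ, hψ, rfl⟩ := mem_image.1 hχ
        obtain ⟨hψX, hψi⟩ := mem_filter.1 hψ
        refine mem_image.2 ⟨Function.update ψ j (ψ j)⁻¹,
          mem_filter.2 ⟨hclosed j hjS ψ hψX, by rw [hpres j hjS hji]; exact hψi⟩, ?_⟩
        simp only [f]
        rw [Function.update_of_ne hji, Function.update_comm hji]
      · obtain ⟨hjS, hj0⟩ := mem_filter.1 hj
        obtain ⟨hji, hjS⟩ := mem_erase.1 hjS
        obtain ⟨χ, hχX, hχj⟩ := hmove j hjS
        have hχ1 : χ ∈ X1 := by
          refine mem_filter.2 ⟨hχX, fun h => hj0 ⟨χ, mem_filter.2 ⟨hχX, h⟩, hχj⟩⟩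
        refine ⟨f χ, mem_image_of_mem f hχ1, ?_⟩
        simp only [f]
        rw [Function.update_of_ne hji]
        exact hχj
    have h3 : 2 ≤ X1.card := by
      obtain ⟨χ, hχX, hχi⟩ := hmove i hi
      have hmem : f χ ∈ X1.image f := mem_image_of_mem f (mem_filter.2 ⟨hχX, hχi⟩)
      have : 1 ≤ (X1.image f).card := card_pos.2 ⟨_, hmem⟩
      omega
    rcases Nat.eq_zero_or_pos S2.card with h4 | h4 <;> omega

open Module

/-- A finite family of commuting operators has a common eigenvector in every non-zero invariant subspace. -/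
theorem exists_common_eigenvector {K V ι : Type*} [Field K] [IsAlgClosed K] [AddCommGroup V] [Module K V]
    [FiniteDimensional K V] (A : ι → Module.End K V) (hA : ∀ i j, Commute (A i) (A j)) (s : Finset ι) :
    ∀ W : Submodule K V, W ≠ ⊥ → (∀ i, ∀ v ∈ W, A i v ∈ W) →
      ∃ U : Submodule K V, U ≤ W ∧ U ≠ ⊥ ∧ (∀ i, ∀ v ∈ U, A i v ∈ U) ∧ ∀ i ∈ s, ∃ a : K, ∀ v ∈ U, A i v = a • v := by
  classical
  induction s using Finset.induction_on with
  | empty => exact fun W hW hinv => ⟨W, le_rfl, hW, hinv, fun i hi => absurd hi (Finset.notMem_empty i)⟩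
  | insert i s his ih =>
    intro W hW hinv
    obtain ⟨U, hUW, hU, hUinv, hUs⟩ := ih W hW hinv
    haveI : Nontrivial U := Submodule.nontrivial_iff_ne_bot.2 hU
    obtain ⟨a, ha⟩ := Module.End.exists_eigenvalue ((A i).restrict (hUinv i))
    obtain ⟨v, hv⟩ := ha.exists_hasEigenvector
    refine ⟨U ⊓ (A i).eigenspace a, le_trans inf_le_left hUW, ?_, ?_, ?_⟩
    · refine (Submodule.ne_bot_iff _).2 ⟨v, ⟨v.2, ?_⟩, fun h => hv.2 (Subtype.ext h)⟩
      exact Module.End.mem_eigenspace_iff.2 (congrArg Subtype.val hv.apply_eq_smul)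
    · rintro j w ⟨hw1, hw2⟩
      refine ⟨hUinv j w hw1, Module.End.mem_eigenspace_iff.2 ?_⟩
      have := LinearMap.congr_fun (hA i j).eq w
      simp only [Module.End.mul_apply] at this
      rw [this, Module.End.mem_eigenspace_iff.1 hw2, map_smul]
    · intro j hj
      rcases Finset.mem_insert.1 hj with rfl | hj
      · exact ⟨a, fun w hw => Module.End.mem_eigenspace_iff.1 hw.2⟩
      · obtain ⟨b, hb⟩ := hUs j hj
        exact ⟨b, fun w hw => hb w hw.1⟩

/-- Common eigenvectors for distinct characters are linearly independent, so there are at most `dim V` characters. -/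
theorem card_eigencharacters_le {K V ι : Type*} [Field K] [AddCommGroup V] [Module K V] [FiniteDimensional K V]
    (A : ι → Module.End K V) (X : Finset (ι → K)) (h : ∀ χ ∈ X, ∃ v : V, v ≠ 0 ∧ ∀ i, A i v = χ i • v) :
    X.card ≤ finrank K V := by
  classical
  choose v hv0 hv using h
  have hli : LinearIndependent K (fun χ : X => v χ.1 χ.2) := by
    rw [linearIndependent_iff']
    intro s
    induction s using Finset.induction_on with
    | empty => simp
    | insert χ s hχs ih =>
      intro g hg
      rw [Finset.sum_insert hχs] at hg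
      have key : ∀ ψ ∈ s, g ψ = 0 := by
        intro ψ hψ
        obtain ⟨i, hi⟩ : ∃ i, ψ.1 i ≠ χ.1 i := Function.ne_iff.1 (fun h => hχs (Subtype.ext h ▸ hψ))
        have h1 := congrArg (fun w => A i w - χ.1 i • w) hg
        simp only [map_add, map_smul, map_sum, hv, smul_add, map_zero, smul_zero, sub_zero, Finset.smul_sum] at h1
        rw [smul_comm (χ.1 i) (g χ), add_sub_add_left_eq_sub, ← Finset.sum_sub_distrib] at h1
        have h2 := ih (fun φ => g φ * (φ.1 i - χ.1 i)) (by
          rw [← h1]
          exact Finset.sum_congr rfl (fun φ _ => by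
            rw [mul_smul, sub_smul, smul_sub, smul_comm (χ.1 i) (g φ)])) ψ hψ
        exact (mul_eq_zero.1 h2).resolve_right (sub_ne_zero.2 hi)
      intro ψ hψ
      rcases Finset.mem_insert.1 hψ with rfl | hψ
      · rw [Finset.sum_eq_zero (fun φ hφ => by rw [key φ hφ, zero_smul]), add_zero] at hg
        exact (smul_eq_zero.1 hg).resolve_right (hv0 _ _)
      · exact key ψ hψ
  simpa using hli.fintype_card_le_finrank

/-- An operator of finite order prime to the characteristic, other than the identity, has an eigenvalue other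
than one. -/
theorem exists_eigenvalue_ne_one {K V : Type*} [Field K] [IsAlgClosed K] [AddCommGroup V] [Module K V]
    [FiniteDimensional K V] (B : Module.End K V) {m : ℕ} (hm : (m : K) ≠ 0) (hBm : B ^ m = 1) (hB : B ≠ 1) :
    ∃ b : K, b ≠ 1 ∧ B.HasEigenvalue b := by
  classical
  by_contra hcon
  push Not at hcon
  have hroots : ∀ a ∈ B.charpoly.roots, a = 1 := by
    intro a ha
    by_contra hne
    exact hcon a hne (B.hasEigenvalue_iff_isRoot_charpoly a |>.2 (Polynomial.isRoot_of_mem_roots ha))
  have hnil : IsNilpotent (B - 1) := by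
    refine ⟨B.charpoly.natDegree, ?_⟩
    have hrep : B.charpoly.roots = Multiset.replicate B.charpoly.natDegree 1 := by
      refine Multiset.eq_replicate.2 ⟨?_, hroots⟩
      exact Polynomial.splits_iff_card_roots.1 (IsAlgClosed.splits _)
    have heq : B.charpoly = (Polynomial.X - Polynomial.C 1) ^ B.charpoly.natDegree := by
      conv_lhs => rw [(IsAlgClosed.splits B.charpoly).eq_prod_roots_of_monic B.charpoly_monic]
      rw [hrep, Multiset.map_replicate, Multiset.prod_replicate]
    have h0 := B.aeval_self_charpoly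
    rw [heq] at h0
    simpa using h0
  have hs : (∑ l ∈ Finset.range m, B ^ l) * (B - 1) = 0 := by rw [geom_sum_mul, hBm, sub_self]
  have hu : IsUnit (∑ l ∈ Finset.range m, B ^ l) := by
    have hdec : ∑ l ∈ Finset.range m, B ^ l = algebraMap K (Module.End K V) (m : K) +
        ∑ l ∈ Finset.range m, (B ^ l - 1) := by
      rw [Finset.sum_sub_distrib, map_natCast]; simp
    rw [hdec]
    refine IsNilpotent.isUnit_add_left_of_commute ?_ ((IsUnit.mk0 _ hm).map _) ?_
    · have hco : ∀ l, B ^ l - 1 = (∑ i ∈ Finset.range l, B ^ i) * (B - 1) := fun l => (geom_sum_mul B l).symm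
      simp only [hco, ← Finset.sum_mul]
      refine Commute.isNilpotent_mul_left ?_ hnil
      exact (Commute.sum_left _ _ _ fun l _ => Commute.sum_left _ _ _ fun i _ =>
        ((Commute.refl B).pow_left i).sub_right (Commute.one_right _))
    · exact Algebra.commutes _ _ |>.symm
  exact hB (sub_eq_zero.1 (hu.mul_right_eq_zero.1 hs))

end Cfsg.Agent.H54
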