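import Mathlib
import Cfsg.Agent.H54.Semisimple
import Cfsg.Agent.Symplectic.Alt
import Cfsg.Agent.Unitary.HilbertNinety

/-!
Two non-degenerate alternating forms invariant under a semisimple operator `T` of a finite vector space are
carried into each other by a linear bijection commuting with `T`.
-/

set_option autoImplicit false

namespace Cfsg.Agent.H54.InvForm

open Module
open LinearMap (BilinForm)

variable {F : Type*} [Field F]

section defs

variable {V : Type*} [AddCommGroup V] [Module F V]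

/-- `T` preserves `B`. -/
def Inv (T : Module.End F V) (B : BilinForm F V) : Prop := ∀ x y, B (T x) (T y) = B x y

/-- Some automorphism commuting with `T` carries `B1` to `B2`. -/
def Equivalent (T : Module.End F V) (B1 B2 : BilinForm F V) : Prop :=
  ∃ c : V ≃ₗ[F] V, (∀ x, c (T x) = T (c x)) ∧ ∀ x y, B2 (c x) (c y) = B1 x y

/-- Restriction of a form to a subspace. -/
def res (B : BilinForm F V) (W : Submodule F V) : BilinForm F W := B.comp W.subtype W.subtype

@[simp] theorem res_apply (B : BilinForm F V) (W : Submodule F V) (x y : W) : res B W x y = B x y := rfl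

theorem res_alt {B : BilinForm F V} (hA : B.IsAlt) (W : Submodule F V) : (res B W).IsAlt :=
  fun x => hA.self_eq_zero (x : V)

theorem res_inv {T : Module.End F V} {B : BilinForm F V} (hI : Inv T B) {W : Submodule F V}
    (hW : W ≤ W.comap T) : Inv (T.restrict hW) (res B W) := fun x y => hI x y

theorem res_nondeg [FiniteDimensional F V] {B : BilinForm F V} (hA : B.IsAlt) (hB : B.Nondegenerate) {W U : Submodule F V}
    (hWU : IsCompl W U) (ho : ∀ x ∈ W, ∀ y ∈ U, B x y = 0) : (res B W).Nondegenerate := by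
  refine LinearMap.BilinForm.nondegenerate_iff_ker_eq_bot.2 ?_
  rw [LinearMap.ker_eq_bot']
  intro x hx
  apply Subtype.ext
  apply hB.1
  intro y
  obtain ⟨a, ha, b, hb, rfl⟩ := Submodule.mem_sup.1 (hWU.sup_eq_top ▸ Submodule.mem_top : y ∈ W ⊔ U)
  rw [map_add, ho _ x.2 _ hb, add_zero]
  exact LinearMap.congr_fun hx ⟨a, ha⟩

theorem glue {T : Module.End F V} {B1 B2 : BilinForm F V} (hA1 : B1.IsAlt) (hA2 : B2.IsAlt)
    {W U : Submodule F V} (hW : W ≤ W.comap T) (hU : U ≤ U.comap T) (hWU : IsCompl W U)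
    (ho1 : ∀ x ∈ W, ∀ y ∈ U, B1 x y = 0) (ho2 : ∀ x ∈ W, ∀ y ∈ U, B2 x y = 0)
    (h1 : Equivalent (T.restrict hW) (res B1 W) (res B2 W))
    (h2 : Equivalent (T.restrict hU) (res B1 U) (res B2 U)) : Equivalent T B1 B2 := by
  obtain ⟨c, hc, hcB⟩ := h1
  obtain ⟨d, hd, hdB⟩ := h2
  let e := Submodule.prodEquivOfIsCompl W U hWU
  refine ⟨e.symm ≪≫ₗ c.prodCongr d ≪≫ₗ e, fun x => ?_, fun x y => ?_⟩
  · obtain ⟨⟨a, b⟩, rfl⟩ := e.surjective x
    have hTx : ∀ p q, T (e (p, q)) = e (T.restrict hW p, T.restrict hU q) := by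
      intro p q
      simp only [e, Submodule.coe_prodEquivOfIsCompl', map_add, LinearMap.coe_restrict_apply]
    simp only [LinearEquiv.trans_apply, hTx, LinearEquiv.symm_apply_apply, LinearEquiv.prodCongr_apply, hc, hd]
  · obtain ⟨⟨a, b⟩, rfl⟩ := e.surjective x
    obtain ⟨⟨a', b'⟩, rfl⟩ := e.surjective y
    have o1 : ∀ (u : W) (v : U), B1 (v : V) (u : V) = 0 := fun u v => by
      rw [Symplectic.alt_swap hA1, ho1 _ u.2 _ v.2, neg_zero]
    have o2 : ∀ (u : W) (v : U), B2 (v : V) (u : V) = 0 := fun u v => by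
      rw [Symplectic.alt_swap hA2, ho2 _ u.2 _ v.2, neg_zero]
    simp only [LinearEquiv.trans_apply, LinearEquiv.symm_apply_apply, LinearEquiv.prodCongr_apply]
    simp only [e, Submodule.coe_prodEquivOfIsCompl', map_add, LinearMap.add_apply, o1, o2,
      ho1 _ a.2 _ b'.2, ho2 _ (c a).2 _ (d b').2, zero_add, add_zero]
    have k1 := hcB a a'
    have k2 := hdB b b'
    simp only [res_apply] at k1 k2
    rw [k1, k2]

theorem orth_ker_range {T : Module.End F V} {B : BilinForm F V} (hI : Inv T B) {a : F} (ha : a * a = 1) :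
    ∀ x ∈ (T - algebraMap F (Module.End F V) a).ker, ∀ y ∈ (T - algebraMap F (Module.End F V) a).range, B x y = 0 := by
  rintro x hx _ ⟨z, rfl⟩
  simp only [LinearMap.mem_ker, LinearMap.sub_apply, Module.algebraMap_end_apply, sub_eq_zero] at hx
  simp only [LinearMap.sub_apply, Module.algebraMap_end_apply, map_sub, map_smul, smul_eq_mul]
  have h : x = T (a • x) := by rw [map_smul, hx, smul_smul, ha, one_smul]
  conv_lhs => arg 1; rw [h, hI, map_smul, LinearMap.smul_apply, smul_eq_mul]
  exact sub_self _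

theorem mapsTo_ker (T : Module.End F V) (a : F) :
    (T - algebraMap F (Module.End F V) a).ker ≤ (T - algebraMap F (Module.End F V) a).ker.comap T := by
  intro x hx
  simp only [LinearMap.mem_ker, LinearMap.sub_apply, Module.algebraMap_end_apply, sub_eq_zero, Submodule.mem_comap] at hx ⊢
  rw [hx, map_smul, hx]

theorem mapsTo_range (T : Module.End F V) (a : F) :
    (T - algebraMap F (Module.End F V) a).range ≤ (T - algebraMap F (Module.End F V) a).range.comap T := by
  rintro _ ⟨z, rfl⟩
  refine ⟨T z, ?_⟩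
  simp only [LinearMap.sub_apply, Module.algebraMap_end_apply, map_sub, map_smul]

theorem isCompl_ker_range [FiniteDimensional F V] {N : ℕ} (hN : (N : F) ≠ 0) (T : Module.End F V) (hT : T ^ N = 1)
    (a : F) : IsCompl (T - algebraMap F (Module.End F V) a).ker (T - algebraMap F (Module.End F V) a).range := by
  set S := T - algebraMap F (Module.End F V) a with hS
  rw [Submodule.isCompl_iff_disjoint _ _ (by rw [add_comm, LinearMap.finrank_range_add_finrank_ker]),
    Submodule.disjoint_def]
  rintro x hx ⟨y, rfl⟩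
  obtain ⟨U, hU, hUc⟩ := Module.End.isSemisimple_iff.1 (isSemisimple_of_pow_eq_one T hN hT) S.ker (mapsTo_ker T a)
  obtain ⟨p, hp, r, hr, rfl⟩ := Submodule.mem_sup.1 (hUc.sup_eq_top ▸ Submodule.mem_top : y ∈ S.ker ⊔ U)
  rw [map_add, LinearMap.mem_ker.1 hp, zero_add] at hx ⊢
  refine Submodule.disjoint_def.1 hUc.disjoint _ hx ?_
  simp only [hS, LinearMap.sub_apply, Module.algebraMap_end_apply]
  exact sub_mem (hU hr) (U.smul_mem a hr)

/-- Non-degenerate alternating forms on one space are equivalent. -/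
theorem equivalent_of_scalar [FiniteDimensional F V] {T : Module.End F V} {B1 B2 : BilinForm F V} (hA1 : B1.IsAlt)
    (hA2 : B2.IsAlt) (hB1 : B1.Nondegenerate) (hB2 : B2.Nondegenerate) {a : F} (hT : ∀ x, T x = a • x) :
    Equivalent T B1 B2 := by
  obtain ⟨m, k, b, hb, hbr⟩ := Symplectic.exists_hyp_basis B1 hA1
  obtain ⟨m', k', b', hb', hbr'⟩ := Symplectic.exists_hyp_basis B2 hA2
  have hk : k = 0 := by
    by_contra hk
    exact b.ne_zero (Sum.inr ⟨0, Nat.pos_of_ne_zero hk⟩) (hB1.1 _ (hbr _))
  have hk' : k' = 0 := by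
    by_contra hk
    exact b'.ne_zero (Sum.inr ⟨0, Nat.pos_of_ne_zero hk⟩) (hB2.1 _ (hbr' _))
  subst hk hk'
  obtain rfl : m = m' := by
    have h1 := Module.finrank_eq_card_basis b
    have h2 := Module.finrank_eq_card_basis b'
    simp only [Fintype.card_sum, Fintype.card_fin] at h1 h2
    omega
  refine ⟨b.equiv b' (Equiv.refl _), fun x => by simp [hT], ?_⟩
  suffices h : B2.comp (b.equiv b' (Equiv.refl _)).toLinearMap (b.equiv b' (Equiv.refl _)).toLinearMap = B1 from
    fun x y => LinearMap.congr_fun (LinearMap.congr_fun h x) y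
  refine LinearMap.BilinForm.ext_basis b fun i j => ?_
  simp only [LinearMap.BilinForm.comp_apply, LinearEquiv.coe_coe, Module.Basis.equiv_apply, Equiv.refl_apply]
  rcases i with (i | i) | i
  · rcases j with (j | j) | j
    · rw [hb'.2.1, hb.2.1]
    · rw [hb'.1, hb.1]
    · exact j.elim0
  · rcases j with (j | j) | j
    · rw [Symplectic.alt_swap hA2, hb'.1, Symplectic.alt_swap hA1, hb.1]
    · rw [hb'.2.2, hb.2.2]
    · exact j.elim0
  · exact i.elim0

/-- The case without eigenvalues `1`, `-1`. -/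
theorem equivalent_of_regular [Finite F] [FiniteDimensional F V] {T : Module.End F V} {B1 B2 : BilinForm F V}
    (hA1 : B1.IsAlt) (hA2 : B2.IsAlt) (hB1 : B1.Nondegenerate) (hB2 : B2.Nondegenerate) (hI1 : Inv T B1)
    (hI2 : Inv T B2) {N : ℕ} (hN0 : 0 < N) (hT : T ^ N = 1) (hreg : ∀ x, T (T x) = x → x = 0) :
    Equivalent T B1 B2 := by
  classical
  let A : Module.End F V := (B1.toDual hB1).symm.toLinearMap.comp B2
  have hA : ∀ x y, B1 (A x) y = B2 x y := fun x y => LinearMap.BilinForm.apply_toDual_symm_apply (hB := hB1) (B2 x) y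
  have hAadj : ∀ x y, B1 (A x) y = B1 x (A y) := fun x y => by
    rw [hA, Symplectic.alt_swap hA2, ← hA, ← Symplectic.alt_swap hA1]
  have hTi : T * T ^ (N - 1) = 1 := by rw [← pow_succ', Nat.sub_add_cancel hN0, hT]
  have hTiv : ∀ y, T ((T ^ (N - 1)) y) = y := fun y => LinearMap.congr_fun hTi y
  have hTinj : Function.Injective T := by
    have h : T ^ (N - 1) * T = 1 := by rw [← pow_succ, Nat.sub_add_cancel hN0, hT]
    exact fun x y hxy => by
      rw [← LinearMap.congr_fun h x |>.trans (Module.End.one_apply x), ← LinearMap.congr_fun h y |>.trans (Module.End.one_apply y),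
        Module.End.mul_apply, Module.End.mul_apply, hxy]
  have hAT : Commute A T := by
    refine LinearMap.ext fun x => sub_eq_zero.1 (hB1.1 _ fun y => ?_)
    rw [map_sub, LinearMap.sub_apply, Module.End.mul_apply, Module.End.mul_apply, ← hTiv y, hA, hI2, hI1, hA, sub_self]
  set R := Algebra.adjoin F ({T, A} : Set (Module.End F V))
  let _ : CommRing R := Algebra.adjoinCommRingOfComm F (s := ({T, A} : Set (Module.End F V))) (by
    rintro a (rfl | rfl) b (rfl | rfl) <;> [rfl; exact hAT.eq.symm; exact hAT.eq; rfl])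
  haveI : Finite (Module.End F V) := Module.finite_of_finite F
  haveI : Finite R := Finite.of_injective (fun r : R => (r : Module.End F V)) Subtype.val_injective
  have hadj : ∀ r : R, ∃ s : R, ∀ x y, B1 ((r : Module.End F V) x) y = B1 x ((s : Module.End F V) y) := by
    rintro ⟨r, hr⟩
    induction hr using Algebra.adjoin_induction with
    | mem z hz =>
      rcases hz with rfl | rfl
      · refine ⟨⟨z ^ (N - 1), pow_mem (Algebra.subset_adjoin (by simp)) _⟩, fun x y => ?_⟩
        conv_lhs => rw [← hTiv y]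
        exact hI1 _ _
      · exact ⟨⟨A, Algebra.subset_adjoin (by simp)⟩, hAadj⟩
    | algebraMap c => exact ⟨algebraMap F R c, fun x y => by simp [Module.algebraMap_end_apply]⟩
    | add a b _ _ ha hb =>
      obtain ⟨s, hs⟩ := ha
      obtain ⟨t, ht⟩ := hb
      exact ⟨s + t, fun x y => by simp [hs, ht]⟩
    | mul a b _ _ ha hb =>
      obtain ⟨s, hs⟩ := ha
      obtain ⟨t, ht⟩ := hb
      exact ⟨t * s, fun x y => by simp [hs, ht, Module.End.mul_apply]⟩
  choose ad had using hadj
  have uniq : ∀ r s : R, (∀ x y, B1 ((r : Module.End F V) x) y = B1 x ((s : Module.End F V) y)) → ad r = s := by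
    intro r s h
    refine Subtype.ext (LinearMap.ext fun y => sub_eq_zero.1 (hB1.2 _ fun x => ?_))
    rw [map_sub, ← had, h, sub_self]
  have had' : ∀ r x y, B1 ((ad r : Module.End F V) x) y = B1 x ((r : Module.End F V) y) := fun r x y => by
    rw [Symplectic.alt_swap hA1, ← had, ← Symplectic.alt_swap hA1]
  have ad_ad : ∀ r, ad (ad r) = r := fun r => uniq _ _ (had' r)
  let τ : R ≃+* R :=
    { toFun := ad
      invFun := ad
      left_inv := ad_ad
      right_inv := ad_ad
      map_mul' := fun r s => uniq _ _ fun x y => by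
        rw [mul_comm (ad r) (ad s)]
        simp only [Subalgebra.coe_mul, Module.End.mul_apply, had]
      map_add' := fun r s => uniq _ _ fun x y => by simp [had] }
  let Tr : R := ⟨T, Algebra.subset_adjoin (by simp)⟩
  let Ar : R := ⟨A, Algebra.subset_adjoin (by simp)⟩
  have unit_of_inj : ∀ r : R, (∀ x, (r : Module.End F V) x = 0 → x = 0) → IsUnit r := fun r hr => by
    rw [isUnit_iff_mem_nonZeroDivisors_of_finite]
    refine mem_nonZeroDivisors_iff_right.2 fun z hz => ?_
    rw [mul_comm] at hz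
    exact Subtype.ext (LinearMap.ext fun x => hr _ (LinearMap.congr_fun (congrArg Subtype.val hz) x))
  have hTad : τ Tr = ⟨T ^ (N - 1), pow_mem (Algebra.subset_adjoin (by simp)) _⟩ := uniq _ _ fun x y => by
    conv_lhs => rw [← hTiv y]
    exact hI1 _ _
  have hw : IsUnit (Tr - τ Tr) := by
    refine unit_of_inj _ fun x hx => hreg x ?_
    rw [hTad] at hx
    simp only [AddSubgroupClass.coe_sub, LinearMap.sub_apply, sub_eq_zero, Tr] at hx
    rw [hx, hTiv]
  have hAu : IsUnit Ar := unit_of_inj _ fun x hx => hB2.1 x fun y => by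
    rw [← hA, show A x = 0 from hx, map_zero, LinearMap.zero_apply]
  obtain ⟨y, hy⟩ := Unitary.exists_norm_eq_of_fixed τ ad_ad hw (c := hAu.unit) (uniq Ar Ar hAadj)
  have hyu : IsUnit ((y : R) : Module.End F V) := y.isUnit.map R.val
  have hyA : ∀ x z, B2 x z = B1 (((y : R) : Module.End F V) x) (((y : R) : Module.End F V) z) := fun x z => by
    rw [← hA, ← had' (y : R)]
    congr 2
    have h := congrArg Subtype.val ((mul_comm (τ (y : R)) (y : R)).trans hy)
    exact (LinearMap.congr_fun h x).symm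
  let c := (LinearEquiv.ofBijective _ ((Module.End.isUnit_iff _).1 hyu)).symm
  refine ⟨c, fun x => ?_, fun x z => ?_⟩
  · apply c.symm.injective
    rw [LinearEquiv.symm_apply_apply]
    have h := congrArg Subtype.val (mul_comm (y : R) Tr)
    calc T x = T (c.symm (c x)) := by rw [LinearEquiv.symm_apply_apply]
      _ = c.symm (T (c x)) := (LinearMap.congr_fun h (c x)).symm
  · rw [hyA]
    exact congrArg₂ (fun u v => B1 u v) (c.symm_apply_apply x) (c.symm_apply_apply z)

theorem restrict_eq_smul (T : Module.End F V) (a : F) (x : (T - algebraMap F (Module.End F V) a).ker) :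
    T.restrict (mapsTo_ker T a) x = a • x := by
  have h := x.2
  simp only [LinearMap.mem_ker, LinearMap.sub_apply, Module.algebraMap_end_apply, sub_eq_zero] at h
  exact Subtype.ext h

theorem split [FiniteDimensional F V] {T : Module.End F V} {B1 B2 : BilinForm F V} (hA1 : B1.IsAlt) (hA2 : B2.IsAlt)
    (hB1 : B1.Nondegenerate) (hB2 : B2.Nondegenerate) (hI1 : Inv T B1) (hI2 : Inv T B2) {N : ℕ} (hN : (N : F) ≠ 0)
    (hT : T ^ N = 1) {a : F} (ha : a * a = 1)
    (h : Equivalent (T.restrict (mapsTo_range T a)) (res B1 _) (res B2 _)) : Equivalent T B1 B2 := by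
  have hc := isCompl_ker_range hN T hT a
  exact glue hA1 hA2 (mapsTo_ker T a) (mapsTo_range T a) hc (orth_ker_range hI1 ha) (orth_ker_range hI2 ha)
    (equivalent_of_scalar (res_alt hA1 _) (res_alt hA2 _) (res_nondeg hA1 hB1 hc (orth_ker_range hI1 ha))
      (res_nondeg hA2 hB2 hc (orth_ker_range hI2 ha)) (restrict_eq_smul T a)) h

theorem nondeg_range [FiniteDimensional F V] {T : Module.End F V} {B : BilinForm F V} (hA : B.IsAlt)
    (hB : B.Nondegenerate) (hI : Inv T B) {N : ℕ} (hN : (N : F) ≠ 0) (hT : T ^ N = 1) {a : F} (ha : a * a = 1) :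
    (res B (T - algebraMap F (Module.End F V) a).range).Nondegenerate :=
  res_nondeg hA hB (isCompl_ker_range hN T hT a).symm fun x hx y hy => by
    rw [Symplectic.alt_swap hA, orth_ker_range hI ha y hy x hx, neg_zero]

theorem eq_zero_of_fixed [FiniteDimensional F V] {T : Module.End F V} {N : ℕ} (hN : (N : F) ≠ 0) (hT : T ^ N = 1)
    {a : F} {x : V} (hx : x ∈ (T - algebraMap F (Module.End F V) a).range) (hTx : T x = a • x) : x = 0 :=
  Submodule.disjoint_def.1 (isCompl_ker_range hN T hT a).disjoint x (by simp [hTx]) hx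

/-- Invariant non-degenerate alternating forms of a semisimple operator are equivalent. -/
theorem equivalent [Finite F] [FiniteDimensional F V] {T : Module.End F V} {B1 B2 : BilinForm F V} (hA1 : B1.IsAlt)
    (hA2 : B2.IsAlt) (hB1 : B1.Nondegenerate) (hB2 : B2.Nondegenerate) (hI1 : Inv T B1) (hI2 : Inv T B2) {N : ℕ}
    (hN : (N : F) ≠ 0) (hT : T ^ N = 1) : Equivalent T B1 B2 := by
  have h1 : (1 : F) * 1 = 1 := one_mul 1
  have h2 : (-1 : F) * -1 = 1 := by rw [neg_mul_neg, one_mul]
  refine split hA1 hA2 hB1 hB2 hI1 hI2 hN hT h1 ?_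
  set W := (T - algebraMap F (Module.End F V) 1).range
  set S : Module.End F W := T.restrict (p := W) (q := W) (mapsTo_range T (1 : F))
  have hS : S ^ N = 1 := restrict_pow_eq_one _ hT
  have n1 := nondeg_range hA1 hB1 hI1 hN hT h1
  have n2 := nondeg_range hA2 hB2 hI2 hN hT h1
  have i1 : Inv S (res B1 W) := res_inv hI1 _
  have i2 : Inv S (res B2 W) := res_inv hI2 _
  refine split (res_alt hA1 _) (res_alt hA2 _) n1 n2 i1 i2 hN hS h2 ?_
  refine equivalent_of_regular (res_alt (res_alt hA1 _) _) (res_alt (res_alt hA2 _) _)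
    (nondeg_range (res_alt hA1 _) n1 i1 hN hS h2) (nondeg_range (res_alt hA2 _) n2 i2 hN hS h2)
    (res_inv i1 _) (res_inv i2 _) (Nat.pos_of_ne_zero fun h => hN (by simp [h])) (restrict_pow_eq_one _ hS) ?_
  rintro ⟨x, hx⟩ hxx
  have hxx' : S (S x) = x := congrArg Subtype.val hxx
  refine Subtype.ext (eq_zero_of_fixed hN hS hx ?_)
  have hy : S x + x = 0 := by
    apply Subtype.ext
    refine eq_zero_of_fixed hN hT (a := (1 : F)) (S x + x).2 ?_
    rw [one_smul]
    show ((S (S x + x) : W) : V) = ((S x + x : W) : V)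
    rw [map_add, hxx', add_comm]
  rw [neg_one_smul]
  exact eq_neg_of_add_eq_zero_left hy

end defs

end Cfsg.Agent.H54.InvForm
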