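import Mathlib
import Cfsg.Agent.H54.FlipWeights
import Cfsg.Agent.H34.Transvection

/-!
The lower bound `q^(n-1) - 1` for representations of `SL_n(q)` in characteristic prime to `q`.
-/

set_option autoImplicit false

namespace Cfsg.Agent.H54

open Finset Matrix Module
open scoped MatrixGroups

variable {F : Type*} [Field F] {m : ℕ}

/-- A lower unitriangular matrix with entries `v` in the first column. -/
def colElt (v : Fin (m + 2) → F) : Matrix.SpecialLinearGroup (Fin (1 + (m + 2))) F :=
  ⟨Matrix.reindexAlgEquiv F F finSumFinEquiv (Matrix.fromBlocks 1 0 (Matrix.replicateCol (Fin 1) v) 1), by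
    rw [Matrix.det_reindexAlgEquiv, Matrix.det_fromBlocks_zero₁₂, det_one, det_one, mul_one]⟩

/-- The matrix `diag(1, g)`. -/
def leviElt (g : Matrix.SpecialLinearGroup (Fin (m + 2)) F) : Matrix.SpecialLinearGroup (Fin (1 + (m + 2))) F :=
  ⟨Matrix.reindexAlgEquiv F F finSumFinEquiv (Matrix.fromBlocks 1 0 0 g.1), by
    rw [Matrix.det_reindexAlgEquiv, Matrix.det_fromBlocks_zero₁₂, det_one, g.2, mul_one]⟩

lemma colElt_add (v w : Fin (m + 2) → F) : colElt (v + w) = colElt v * colElt w := by
  apply Subtype.ext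
  show Matrix.reindexAlgEquiv F F finSumFinEquiv _ =
    Matrix.reindexAlgEquiv F F finSumFinEquiv _ * Matrix.reindexAlgEquiv F F finSumFinEquiv _
  rw [← map_mul, Matrix.fromBlocks_multiply]
  congr 2 <;> simp [Matrix.replicateCol_add]

lemma leviElt_mul_colElt (g : Matrix.SpecialLinearGroup (Fin (m + 2)) F) (v : Fin (m + 2) → F) :
    leviElt g * colElt v = colElt (g.1 *ᵥ v) * leviElt g := by
  apply Subtype.ext
  show Matrix.reindexAlgEquiv F F finSumFinEquiv _ * Matrix.reindexAlgEquiv F F finSumFinEquiv _ =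
    Matrix.reindexAlgEquiv F F finSumFinEquiv _ * Matrix.reindexAlgEquiv F F finSumFinEquiv _
  rw [← map_mul, ← map_mul, Matrix.fromBlocks_multiply, Matrix.fromBlocks_multiply]
  congr 2 <;> simp [Matrix.replicateCol_mulVec]

lemma colElt_zero : colElt (0 : Fin (m + 2) → F) = 1 := by
  have h : colElt (0 : Fin (m + 2) → F) * colElt 0 = colElt 0 * 1 := by rw [← colElt_add, add_zero, mul_one]
  exact mul_left_cancel h

lemma eq_zero_of_colElt_mem_center {v : Fin (m + 2) → F}
    (h : colElt v ∈ Subgroup.center (Matrix.SpecialLinearGroup (Fin (1 + (m + 2))) F)) : v = 0 := by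
  obtain ⟨r, -, hr⟩ := Matrix.SpecialLinearGroup.mem_center_iff.1 h
  funext i
  have := congrFun (congrFun hr (finSumFinEquiv (.inr i))) (finSumFinEquiv (.inl 0))
  simp only [colElt, Matrix.reindexAlgEquiv_apply, Matrix.reindex_apply, Matrix.submatrix_apply,
    Equiv.symm_apply_apply, Matrix.fromBlocks_apply₂₁, Matrix.replicateCol_apply, Matrix.scalar_apply,
    Matrix.diagonal_apply_ne _ (finSumFinEquiv.injective.ne (by simp : (Sum.inr i : Fin 1 ⊕ Fin (m + 2)) ≠ .inl 0))] at this
  simpa using this.symm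

theorem ls_bound [Fintype F] {K : Type*} [Field K] (hK : ringChar K ≠ ringChar F) {d : ℕ}
    (ρ : Matrix.SpecialLinearGroup (Fin (1 + (m + 2))) F →* GL (Fin d) K)
    (hker : ρ.ker ≤ Subgroup.center (Matrix.SpecialLinearGroup (Fin (1 + (m + 2))) F)) :
    Fintype.card F ^ (m + 2) - 1 ≤ d := by
  classical
  let p := ringChar F
  haveI : CharP F p := ringChar.charP F
  have hp : p.Prime := CharP.char_is_prime F p
  let L := AlgebraicClosure K
  let ι := algebraMap K L
  have hpL : ((p : ℕ) : L) ≠ 0 := by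
    rw [← map_natCast ι]
    intro h
    have h0 : (p : K) = 0 := ι.injective (by rw [h, map_zero])
    rcases (Nat.dvd_prime hp).1 (ringChar.dvd h0) with h1 | h1
    · haveI := ringChar.charP K
      exact CharP.ringChar_ne_one h1
    · exact hK h1
  let φ : Matrix.SpecialLinearGroup (Fin (1 + (m + 2))) F →* Module.End L (Fin d → L) :=
    (Matrix.toLinAlgEquiv' (R := L) (n := Fin d)).toAlgHom.toRingHom.toMonoidHom.comp
      ((ι.mapMatrix).toMonoidHom.comp ((Units.coeHom _).comp ρ))
  let A : (Fin (m + 2) → F) → Module.End L (Fin d → L) := fun v => φ (colElt v)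
  have hAadd : ∀ v w, A (v + w) = A v * A w := fun v w => by simp [A, colElt_add, map_mul]
  have hA : ∀ v w, Commute (A v) (A w) := fun v w => by
    show A v * A w = A w * A v
    rw [← hAadd, ← hAadd, add_comm]
  have hA0 : A 0 = 1 := by simp [A, colElt_zero]
  have hnsmul : ∀ (k : ℕ) v, A (k • v) = A v ^ k := by
    intro k v
    induction k with
    | zero => rw [zero_smul, pow_zero, hA0]
    | succ k ih => rw [succ_nsmul, hAadd, ih, pow_succ]
  have hAp : ∀ v, A v ^ p = 1 := fun v => by
    rw [← hnsmul, show p • v = 0 from funext fun i => by simp [CharP.cast_eq_zero F p, nsmul_eq_mul], hA0]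
  obtain ⟨c, hc⟩ : ∃ c, A c ≠ 1 := by
    refine ⟨Pi.single 0 1, fun h => ?_⟩
    have h1 : colElt (Pi.single 0 1 : Fin (m + 2) → F) ∈ ρ.ker := by
      rw [MonoidHom.mem_ker]
      apply Units.ext
      apply Matrix.map_injective ι.injective
      apply Matrix.toLinAlgEquiv'.injective
      refine h.trans ?_
      simp
    have := congrFun (eq_zero_of_colElt_mem_center (hker h1)) 0
    simp at this
  obtain ⟨b, hb1, hb⟩ := exists_eigenvalue_ne_one (A c) hpL (hAp c) hc
  obtain ⟨U, hUW, hU, -, hUs⟩ := exists_common_eigenvector A hA univ _ hb (fun w v hv => by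
    rw [Module.End.mem_eigenspace_iff] at hv ⊢
    have := LinearMap.congr_fun (hA c w).eq v
    simp only [Module.End.mul_apply] at this
    rw [this, hv, map_smul])
  obtain ⟨x, hxU, hx⟩ := (Submodule.ne_bot_iff U).1 hU
  choose χ hχ using fun v => hUs v (mem_univ v)
  have hχx : ∀ v, A v x = χ v • x := fun v => hχ v x hxU
  have hχc : χ c ≠ 1 := by
    have h1 := Module.End.mem_eigenspace_iff.1 (hUW hxU)
    rw [hχx] at h1
    rwa [smul_left_injective L hx h1]
  let χh : AddChar (Fin (m + 2) → F) L :=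
    { toFun := χ
      map_zero_eq_one' := smul_left_injective L hx (by
        show χ 0 • x = (1 : L) • x
        rw [← hχx, hA0, one_smul]; rfl)
      map_add_eq_mul' := fun v w => smul_left_injective L hx (by
        show χ (v + w) • x = (χ v * χ w) • x
        rw [← hχx, hAadd, Module.End.mul_apply, hχx, map_smul, hχx, smul_smul, mul_comm]) }
  let e0 : F → L := fun l => χh (l • c)
  let ψ : (Fin (m + 2) → F) → AddChar (Fin (m + 2) → F) L := fun u =>
    { toFun := fun v => χh ((u ⬝ᵥ v) • c)
      map_zero_eq_one' := by simp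
      map_add_eq_mul' := fun v w => by rw [dotProduct_add, add_smul, AddChar.map_add_eq_mul] }
  have hψinj : Function.Injective ψ := by
    intro u w h
    by_contra hne
    obtain ⟨i, hi⟩ := Function.ne_iff.1 hne
    have hz : u i - w i ≠ 0 := sub_ne_zero.2 hi
    have h1 : χh (u i • (u i - w i)⁻¹ • c) = χh (w i • (u i - w i)⁻¹ • c) := by
      have := DFunLike.congr_fun h (Pi.single i (u i - w i)⁻¹)
      simpa [ψ, smul_smul] using this
    have h2 : u i • (u i - w i)⁻¹ • c = w i • (u i - w i)⁻¹ • c + c := by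
      have h3 : c = (u i - w i) • (u i - w i)⁻¹ • c := by rw [smul_smul, mul_inv_cancel₀ hz, one_smul]
      conv_rhs => arg 2; rw [h3]
      rw [← add_smul, add_sub_cancel]
    rw [h2, AddChar.map_add_eq_mul] at h1
    have hne0 : χh (w i • (u i - w i)⁻¹ • c) ≠ 0 := fun h0 => by
      have := AddChar.map_add_eq_mul χh (w i • (u i - w i)⁻¹ • c) (-(w i • (u i - w i)⁻¹ • c))
      rw [add_neg_cancel, AddChar.map_zero_eq_one, h0, zero_mul] at this
      exact one_ne_zero this
    exact hχc (mul_left_cancel₀ hne0 (h1.trans (mul_one _).symm))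
  obtain ⟨u0, hu0⟩ : ∃ u0, ψ u0 = χh := by
    by_contra hnot
    push Not at hnot
    let S : Finset (AddChar (Fin (m + 2) → F) L) := insert χh (univ.image ψ)
    have hcard : S.card = Fintype.card (Fin (m + 2) → F) + 1 := by
      rw [card_insert_of_notMem (by simpa using hnot), card_image_of_injective _ hψinj, card_univ]
    have hli := (linearIndependent_monoidHom (Multiplicative (Fin (m + 2) → F)) L).comp
      (fun s : S => AddChar.toMonoidHom s.1)
      (fun s t h => Subtype.ext (DFunLike.ext _ _ fun v => DFunLike.congr_fun h (Multiplicative.ofAdd v)))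
    have := hli.fintype_card_le_finrank
    rw [Module.finrank_fintype_fun_eq_card, Fintype.card_coe, hcard, Fintype.card_multiplicative] at this
    omega
  have hu0ne : u0 ≠ 0 := by
    rintro rfl
    apply hχc
    have := DFunLike.congr_fun hu0 c
    have h0 := AddChar.map_zero_eq_one χh
    simp [ψ] at this
    exact this.symm
  obtain ⟨A0, hA0'⟩ := H34.exists_sl_first_row u0 hu0ne
  let X : Finset ((Fin (m + 2) → F) → L) := (univ.filter fun u : Fin (m + 2) → F => u ≠ 0).image fun u => ⇑(ψ u)
  have hX : ∀ f ∈ X, ∃ y : Fin d → L, y ≠ 0 ∧ ∀ v, A v y = f v • y := by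
    intro f hf
    obtain ⟨u, hu, rfl⟩ := mem_image.1 hf
    obtain ⟨Au, hAu⟩ := H34.exists_sl_first_row u (mem_filter.1 hu).2
    let g := (A0⁻¹ * Au)⁻¹
    refine ⟨φ (leviElt g) x, fun h0 => hx ?_, fun v => ?_⟩
    · have h2 : φ (leviElt g)⁻¹ (φ (leviElt g) x) = x := by
        show (φ (leviElt g)⁻¹ * φ (leviElt g)) x = x
        rw [← map_mul, inv_mul_cancel, map_one]; rfl
      rw [h0, map_zero] at h2
      exact h2.symm
    · have hgv : g.1 *ᵥ ((g⁻¹).1 *ᵥ v) = v := by
        rw [mulVec_mulVec, ← Matrix.SpecialLinearGroup.coe_mul, mul_inv_cancel]; simp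
      have e := leviElt_mul_colElt g ((g⁻¹).1 *ᵥ v)
      rw [hgv] at e
      show (φ (colElt v) * φ (leviElt g)) x = _
      rw [← map_mul, ← e, map_mul, Module.End.mul_apply, hχx, map_smul]
      congr 1
      show χh ((g⁻¹).1 *ᵥ v) = ψ u v
      rw [← hu0]
      show χh ((u0 ⬝ᵥ ((g⁻¹).1 *ᵥ v)) • c) = χh ((u ⬝ᵥ v) • c)
      rw [Matrix.dotProduct_mulVec]
      congr 3
      rw [show g⁻¹ = A0⁻¹ * Au from inv_inv _, ← hA0', ← hAu]
      rw [show (A0 : Matrix (Fin (m + 2)) (Fin (m + 2)) F) 0 = Pi.single 0 1 ᵥ* (A0 : Matrix (Fin (m + 2)) (Fin (m + 2)) F) from (single_one_vecMul 0 _).symm,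
        Matrix.vecMul_vecMul, ← Matrix.SpecialLinearGroup.coe_mul, mul_inv_cancel_left, single_one_vecMul]
      rfl
  have h1 := card_eigencharacters_le A X hX
  have h2 : X.card = Fintype.card F ^ (m + 2) - 1 := by
    rw [card_image_of_injective _ (fun a b h => hψinj (DFunLike.coe_injective h)), filter_ne' univ 0,
      card_erase_of_mem (mem_univ _), card_univ, Fintype.card_fun, Fintype.card_fin]
  rw [h2] at h1
  simpa using h1

end Cfsg.Agent.H54
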