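import Mathlib
import Cfsg.Agent.H54.Semisimple

/-!
`p'`-parts as powers by a power of the field order.
-/

set_option autoImplicit false

namespace Cfsg.Agent.H54.PPrime

variable {F : Type*} [Field F] [Fintype F] {p : ℕ} [Fact p.Prime] [CharP F p]

variable (F p) in
theorem exists_pow {G : Type*} [Group G] [Finite G] (g : G) :
    ∃ k : ℕ, (orderOf (g ^ Fintype.card F ^ k)).Coprime p := by
  obtain ⟨v, m, hm, ho⟩ := Nat.exists_eq_pow_mul_and_not_dvd (orderOf_pos g).ne' p (Fact.out (p := p.Prime)).ne_one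
  obtain ⟨f, -, hf⟩ := FiniteField.card F p
  refine ⟨v, ?_⟩
  have hd : orderOf (g ^ Fintype.card F ^ v) ∣ m := by
    rw [orderOf_dvd_iff_pow_eq_one, ← pow_mul, ← orderOf_dvd_iff_pow_eq_one, ho, hf, ← pow_mul]
    exact Nat.mul_dvd_mul_right (pow_dvd_pow p (Nat.le_mul_of_pos_left v f.pos)) m
  exact (((Fact.out (p := p.Prime)).coprime_iff_not_dvd.2 hm).coprime_dvd_right hd).symm

theorem charpoly_pow {ι : Type*} [Fintype ι] [DecidableEq ι] (M : Matrix ι ι F) (k : ℕ) :
    (M ^ Fintype.card F ^ k).charpoly = M.charpoly := by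
  induction k with
  | zero => simp
  | succ k ih => rw [pow_succ, pow_mul, FiniteField.Matrix.charpoly_pow_card, ih]

omit [Fintype F] in
theorem cast_orderOf_ne_zero {G : Type*} [Group G] [Finite G] {g : G} (hg : (orderOf g).Coprime p) :
    ((orderOf g : ℕ) : F) ≠ 0 := by
  rw [Ne, CharP.cast_eq_zero_iff F p]
  exact (Fact.out (p := p.Prime)).coprime_iff_not_dvd.1 hg.symm

end Cfsg.Agent.H54.PPrime
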