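import Mathlib
import Cfsg.Agent.H54.CompLabel

/-!
The index of a standard parabolic subgroup of the general linear group is a q-multinomial coefficient.
-/

set_option autoImplicit false

namespace Cfsg.Agent.H54

open Finset Matrix
open scoped MatrixGroups

/-- `1 + q + ⋯ + q ^ (k - 1)`. -/
def qInt (q k : ℕ) : ℕ := ∑ l ∈ range k, q ^ l

/-- The q-factorial. -/
def qFact (q m : ℕ) : ℕ := ∏ j ∈ range m, qInt q (j + 1)

lemma qInt_pos {q : ℕ} {k : ℕ} (hk : 0 < k) : 0 < qInt q k := by
  obtain ⟨k, rfl⟩ := Nat.exists_eq_succ_of_ne_zero hk.ne'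
  rw [qInt, sum_range_succ', pow_zero]
  exact Nat.succ_pos _

lemma qFact_pos (q m : ℕ) : 0 < qFact q m := prod_pos (fun _ _ => qInt_pos (Nat.succ_pos _))

lemma qInt_strictMono {q : ℕ} (hq : 0 < q) : StrictMono (qInt q) :=
  strictMono_nat_of_lt_succ (fun k => by
    rw [qInt, qInt, sum_range_succ]
    exact Nat.lt_add_of_pos_right (pow_pos hq k))

lemma pow_mul_qInt (q l k : ℕ) : qInt q (l + k) = qInt q l + q ^ l * qInt q k := by
  rw [qInt, qInt, qInt, sum_range_add, mul_sum]
  simp [pow_add]

variable {n : ℕ} {F : Type*} [Field F] [Fintype F]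

/-- `#GL_m = (q-1)^m q^(m choose 2) [m]!`. -/
lemma card_GL_qFact (q m : ℕ) (hq : Fintype.card F = q) :
    Nat.card (GL (Fin m) F) = (q - 1) ^ m * q ^ m.choose 2 * qFact q m := by
  have h1 : ∀ k, (q - 1) * qInt q k = q ^ k - 1 := by
    intro k
    rw [mul_comm, qInt]
    exact geom_sum_mul_of_one_le (by rw [← hq]; exact Fintype.card_pos) k
  rw [Matrix.card_GL_field, hq]
  have h2 : ∀ i : Fin m, q ^ m - q ^ i.val = q ^ i.val * ((q - 1) * qInt q (m - i.val)) := by
    intro i
    rw [h1, Nat.mul_sub_one, ← pow_add]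
    congr 2
    have := i.isLt
    omega
  rw [prod_congr rfl (fun i _ => h2 i), prod_mul_distrib, prod_mul_distrib, prod_const, card_univ,
    Fintype.card_fin, prod_pow_eq_pow_sum, Fin.sum_univ_eq_sum_range (fun i => i) m,
    sum_range_id, ← Nat.choose_two_right, qFact]
  rw [Fin.prod_univ_eq_prod_range (fun i => qInt q (m - i)) m,
    ← prod_range_reflect (fun j => qInt q (j + 1)) m]
  rw [prod_congr rfl (fun j (hj : j ∈ range m) => by
    have := mem_range.1 hj
    show qInt q (m - j) = qInt q (m - 1 - j + 1)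
    congr 1; omega)]
  ring

variable {μ : Fin n → ℕ} (hμ : ∑ k, μ k = n)

/-- Pairs of positions in strictly increasing blocks. -/
abbrev UpPair : Type := {p : Fin n × Fin n // blk hμ p.1 < blk hμ p.2}

omit [Fintype F] in
lemma mem_parabolic_iff_blk (g : GL (Fin n) F) :
    g ∈ parabolicGL n F μ ↔ (g : Matrix (Fin n) (Fin n) F).BlockTriangular (blk hμ) :=
  ⟨fun h i j hij => h hij, fun h i j hij => h hij⟩

/-- A parabolic matrix is given by its invertible diagonal blocks and its entries above them. -/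
noncomputable def parabolicEquiv :
    ↥(parabolicGL n F μ) ≃ ((a : Fin n) → GL {x // blk hμ x = a} F) × (UpPair hμ → F) := by
  classical
  have hdet : ∀ g : ↥(parabolicGL n F μ), ∀ a,
      IsUnit (((g : GL (Fin n) F) : Matrix (Fin n) (Fin n) F).toSquareBlock (blk hμ) a) := by
    intro g a
    rw [Matrix.isUnit_iff_isUnit_det]
    have hd := Matrix.BlockTriangular.det_fintype ((mem_parabolic_iff_blk hμ _).1 g.2)
    have hu : IsUnit ((g : GL (Fin n) F) : Matrix (Fin n) (Fin n) F).det :=
      (Matrix.isUnit_iff_isUnit_det _).1 (Units.isUnit _)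
    rw [hd] at hu
    exact IsUnit.prod_univ_iff.1 hu a
  let mk : ((a : Fin n) → GL {x // blk hμ x = a} F) × (UpPair hμ → F) → Matrix (Fin n) (Fin n) F :=
    fun p => Matrix.of fun i j =>
      if h : blk hμ i = blk hμ j then
        (p.1 (blk hμ j) : Matrix {x // blk hμ x = blk hμ j} {x // blk hμ x = blk hμ j} F) ⟨i, h⟩ ⟨j, rfl⟩
      else if h' : blk hμ i < blk hμ j then p.2 ⟨(i, j), h'⟩ else 0
  have htri : ∀ p, (mk p).BlockTriangular (blk hμ) := by
    intro p i j hij
    simp only [mk, Matrix.of_apply]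
    rw [dif_neg (ne_of_gt hij), dif_neg (lt_asymm hij)]
  have hblock : ∀ p a, (mk p).toSquareBlock (blk hμ) a = (p.1 a : Matrix {x // blk hμ x = a} {x // blk hμ x = a} F) := by
    intro p a
    ext ⟨i, hi⟩ ⟨j, hj⟩
    simp only [mk, Matrix.toSquareBlock_def, Matrix.of_apply]
    subst hj
    rw [dif_pos hi]
  have hunit : ∀ p, IsUnit (mk p) := by
    intro p
    rw [Matrix.isUnit_iff_isUnit_det, Matrix.BlockTriangular.det_fintype (htri p)]
    refine IsUnit.prod_univ_iff.2 (fun a => ?_)
    rw [hblock, ← Matrix.isUnit_iff_isUnit_det]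
    exact Units.isUnit _
  exact
    { toFun := fun g => (fun a => (hdet g a).unit, fun p => ((g : GL (Fin n) F) : Matrix (Fin n) (Fin n) F) p.1.1 p.1.2)
      invFun := fun p => ⟨(hunit p).unit, (mem_parabolic_iff_blk hμ _).2 (htri p)⟩
      left_inv := fun g => by
        apply Subtype.ext
        apply Units.ext
        show mk _ = _
        ext i j
        simp only [mk, Matrix.of_apply]
        split_ifs with h h'
        · show ((hdet g (blk hμ j)).unit : Matrix {x // blk hμ x = blk hμ j} {x // blk hμ x = blk hμ j} F) ⟨i, h⟩ ⟨j, rfl⟩ = _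
          rw [IsUnit.unit_spec]; rfl
        · rfl
        · exact ((mem_parabolic_iff_blk hμ _).1 g.2 (lt_of_le_of_ne (not_lt.1 h') (Ne.symm h))).symm
      right_inv := fun p => by
        refine Prod.ext ?_ ?_
        · funext a
          apply Units.ext
          show ((hdet _ a).unit : Matrix {x // blk hμ x = a} {x // blk hμ x = a} F) = _
          rw [IsUnit.unit_spec]
          exact hblock p a
        · funext x
          show mk p x.1.1 x.1.2 = p.2 x
          simp only [mk, Matrix.of_apply]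
          rw [dif_neg (ne_of_lt x.2), dif_pos x.2] }

lemma card_parabolic (q : ℕ) (hq : Fintype.card F = q) :
    Nat.card ↥(parabolicGL n F μ) =
      (∏ a : Fin n, (q - 1) ^ μ a * q ^ (μ a).choose 2 * qFact q (μ a)) * q ^ Nat.card (UpPair hμ) := by
  classical
  rw [Nat.card_congr (parabolicEquiv hμ), Nat.card_prod, Nat.card_pi, Nat.card_fun,
    Nat.card_eq_fintype_card (α := F), hq]
  congr 1
  refine prod_congr rfl (fun a => ?_)
  intro _
  have hc : Fintype.card {x // blk hμ x = a} = μ a := by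
    rw [Fintype.card_subtype]; exact card_blk_fiber hμ a
  let e := Fintype.equivFinOfCardEq hc
  rw [Nat.card_congr (Units.mapEquiv (Matrix.reindexRingEquiv F e).toMulEquiv).toEquiv, card_GL_qFact q (μ a) hq]

lemma upPair_exponent : ∑ a : Fin n, (μ a).choose 2 + Nat.card (UpPair hμ) = n.choose 2 := by
  classical
  have key : ∀ f : Fin n × Fin n → Prop, [DecidablePred f] →
      (univ.filter f).card = ∑ p : Fin n × Fin n, if f p then 1 else 0 := fun f _ => card_filter _ _
  have hsym : (univ.filter fun p : Fin n × Fin n => blk hμ p.2 < blk hμ p.1).card = Nat.card (UpPair hμ) := by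
    rw [Nat.card_eq_fintype_card, Fintype.card_subtype]
    exact card_equiv (Equiv.prodComm _ _) (fun p => by simp)
  have hlt : (univ.filter fun p : Fin n × Fin n => blk hμ p.1 < blk hμ p.2).card = Nat.card (UpPair hμ) := by
    rw [Nat.card_eq_fintype_card, Fintype.card_subtype]
  have heq : (univ.filter fun p : Fin n × Fin n => blk hμ p.1 = blk hμ p.2).card = ∑ a, μ a * μ a := by
    rw [card_eq_sum_card_fiberwise (f := fun p => blk hμ p.1) (t := univ) (fun _ _ => mem_univ _)]
    refine sum_congr rfl (fun a _ => ?_)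
    rw [← card_blk_fiber hμ a, ← card_product]
    congr 1
    ext ⟨i, j⟩
    simp only [mem_filter, mem_univ, true_and, mem_product]
    constructor
    · rintro ⟨h1, h2⟩; exact ⟨h2, h1 ▸ h2⟩
    · rintro ⟨h1, h2⟩; exact ⟨h1.trans h2.symm, h1⟩
  have htot : ∑ a, μ a * μ a + 2 * Nat.card (UpPair hμ) = n * n := by
    have h3 : (univ : Finset (Fin n × Fin n)).card = n * n := by simp
    rw [← h3, ← heq, two_mul]
    nth_rewrite 1 [← hlt]
    rw [← hsym, key, key, key, card_eq_sum_ones, ← sum_add_distrib, ← sum_add_distrib]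
    refine sum_congr rfl (fun p _ => ?_)
    rcases lt_trichotomy (blk hμ p.1) (blk hμ p.2) with h | h | h
    · simp [h, ne_of_lt h, lt_asymm h]
    · simp [h]
    · simp [h, ne_of_gt h, lt_asymm h]
  have hch : ∀ m : ℕ, 2 * m.choose 2 + m = m * m := by
    intro m
    induction m with
    | zero => simp
    | succ m ih => rw [Nat.choose_succ_succ, Nat.choose_one_right]; ring_nf; ring_nf at ih; omega
  have h5 : ∑ a, μ a * μ a = 2 * ∑ a, (μ a).choose 2 + n := by
    rw [mul_sum]
    conv_rhs => arg 2; rw [← hμ]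
    rw [← sum_add_distrib]
    exact sum_congr rfl (fun a _ => (hch (μ a)).symm)
  have := hch n
  omega

theorem index_parabolic (q : ℕ) (hq : Fintype.card F = q) (hμ : ∑ k, μ k = n) :
    Nat.card (GL (Fin n) F ⧸ parabolicGL n F μ) * ∏ a : Fin n, qFact q (μ a) = qFact q n := by
  classical
  have h1 := Subgroup.card_eq_card_quotient_mul_card_subgroup (parabolicGL n F μ)
  rw [card_GL_qFact q n hq, card_parabolic hμ q hq, prod_mul_distrib, prod_mul_distrib,
    prod_pow_eq_pow_sum, prod_pow_eq_pow_sum, hμ] at h1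
  have h2 : (q - 1) ^ n * q ^ n.choose 2 * qFact q n =
      (q - 1) ^ n * q ^ n.choose 2 * (Nat.card (GL (Fin n) F ⧸ parabolicGL n F μ) * ∏ a : Fin n, qFact q (μ a)) := by
    rw [h1, ← upPair_exponent hμ, pow_add]; ring
  have hq2 : 1 < q := hq ▸ Fintype.one_lt_card
  exact (Nat.eq_of_mul_eq_mul_left (Nat.mul_pos (pow_pos (by omega) _) (pow_pos (by omega) _)) h2).symm

end Cfsg.Agent.H54
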