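import Mathlib
import Cfsg.Agent.H54.Semisimple

/-!
A semisimple operator with squarefree characteristic polynomial has polynomials of every determinant; the
`GL`-conjugacy form of the classification by characteristic polynomials.
-/

set_option autoImplicit false

namespace Cfsg.Agent.H54

open Polynomial Module

variable {F : Type*} [Field F] {V : Type*} [AddCommGroup V] [Module F V] [FiniteDimensional F V]

lemma aeval_restrict {T : Module.End F V} {W : Submodule F V} (hW : W ≤ W.comap T) (r : F[X]) (x : W) :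
    ((aeval (T.restrict hW) r x : W) : V) = aeval T r x := by
  induction r using Polynomial.induction_on' with
  | add a b ha hb => simp [ha, hb]
  | monomial k c =>
    rw [aeval_monomial, aeval_monomial, Module.End.pow_restrict k]
    simp [Module.algebraMap_end_apply]

theorem exists_aeval_det [Finite F] [Nontrivial V] {N : ℕ} (hN : (N : F) ≠ 0) (T : Module.End F V) (hT : T ^ N = 1)
    (hsq : Squarefree T.charpoly) (a : F) : ∃ r : F[X], LinearMap.det (aeval T r) = a := by
  obtain ⟨f, hf, hfd⟩ : ∃ f : F[X], Irreducible f ∧ f ∣ T.charpoly := by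
    refine WfDvdMonoid.exists_irreducible_factor ?_ T.charpoly_monic.ne_zero
    intro hu
    have h := Polynomial.natDegree_eq_zero_of_isUnit hu
    rw [T.charpoly_natDegree] at h
    exact absurd h (Module.finrank_pos (R := F) (M := V)).ne'
  obtain ⟨v, hv, hfv⟩ := exists_ne_zero_aeval_eq_zero T hf hfd
  obtain ⟨U, hU, hUc⟩ := Module.End.isSemisimple_iff.1 (isSemisimple_of_pow_eq_one T hN hT)
    (evalAt T v).range range_evalAt_invariant
  replace hU : U ≤ U.comap T := hU
  haveI : Fact (Irreducible f) := ⟨hf⟩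
  haveI : Module.Finite F (AdjoinRoot f) := (AdjoinRoot.powerBasis hf.ne_zero).finite
  haveI : Finite (AdjoinRoot f) := Module.finite_of_finite F
  obtain ⟨k, hk⟩ := FiniteField.norm_surjective F (AdjoinRoot f) a
  obtain ⟨r0, rfl⟩ := AdjoinRoot.mk_surjective k
  set W := (evalAt T v).range
  set T1 : Module.End F W := T.restrict (p := W) (q := W) range_evalAt_invariant
  set T2 : Module.End F U := T.restrict (p := U) (q := U) hU
  let eq1 := cyclicEquiv hf hv hfv
  have hT1f : aeval T1 f = 0 := LinearMap.ext fun x => Subtype.ext (by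
    rw [aeval_restrict, LinearMap.zero_apply, Submodule.coe_zero]
    obtain ⟨g, hg⟩ := x.2
    rw [← hg, evalAt_apply, ← Module.End.mul_apply, ← map_mul, mul_comm, map_mul, Module.End.mul_apply, hfv, map_zero])
  have hcop : IsCoprime f T2.charpoly := by
    rw [hf.coprime_iff_not_dvd]
    intro hd
    have hd1 : f ∣ T1.charpoly := by
      obtain ⟨v', hv'⟩ : ∃ v' : W, v' ≠ 0 := ⟨⟨v, 1, by simp [evalAt_apply]⟩, fun h => hv (congrArg Subtype.val h)⟩
      by_contra hnd
      obtain ⟨c, d, hcd⟩ := hf.coprime_iff_not_dvd.2 hnd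
      have h := congrArg (fun s => aeval T1 s v') hcd
      simp only [map_add, map_mul, map_one, hT1f, LinearMap.aeval_self_charpoly, mul_zero, add_zero,
        LinearMap.zero_apply, Module.End.one_apply] at h
      exact hv' h.symm
    have hff : f * f ∣ T.charpoly := by
      rw [charpoly_eq_of_isCompl range_evalAt_invariant hU hUc]
      exact mul_dvd_mul hd1 hd
    exact hf.not_isUnit (hsq f hff)
  obtain ⟨x, y, hxy⟩ := hcop
  -- `r` is `r0` modulo `f` and `1` modulo the other factor
  let r := r0 * (y * T2.charpoly) + x * f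
  refine ⟨r, ?_⟩
  let e := Submodule.prodEquivOfIsCompl _ _ hUc
  have h1 : aeval T1 r = eq1.conj (Algebra.lmul F (AdjoinRoot f) (AdjoinRoot.mk f r0)) := by
    have hr : AdjoinRoot.mk f r = AdjoinRoot.mk f r0 := by
      have h := congrArg (AdjoinRoot.mk f) hxy
      simp only [map_add, map_mul, map_one, AdjoinRoot.mk_self, mul_zero, zero_add] at h
      simp only [r, map_add, map_mul, AdjoinRoot.mk_self, mul_zero, add_zero, h, mul_one]
    refine LinearMap.ext fun w => ?_
    obtain ⟨z, rfl⟩ := eq1.surjective w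
    obtain ⟨g, rfl⟩ := AdjoinRoot.mk_surjective z
    rw [LinearEquiv.conj_apply_apply, LinearEquiv.symm_apply_apply, Algebra.coe_lmul_eq_mul, LinearMap.mul_apply',
      ← hr, ← map_mul]
    apply Subtype.ext
    rw [aeval_restrict, cyclicEquiv_mk, cyclicEquiv_mk, evalAt_apply, evalAt_apply, map_mul, Module.End.mul_apply]
  have h2 : aeval T2 r = 1 := by
    have h := congrArg (aeval T2) hxy
    simp only [map_add, map_mul, map_one, LinearMap.aeval_self_charpoly, mul_zero, add_zero] at h
    simp only [r, map_add, map_mul, LinearMap.aeval_self_charpoly, mul_zero, zero_add, h]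
  have h3 : aeval T r = e.conj ((aeval T1 r).prodMap (aeval T2 r)) := by
    refine LinearMap.ext fun w => ?_
    obtain ⟨⟨p, q⟩, rfl⟩ := e.surjective w
    rw [LinearEquiv.conj_apply_apply, LinearEquiv.symm_apply_apply, LinearMap.prodMap_apply]
    simp only [e, Submodule.coe_prodEquivOfIsCompl', map_add, T1, T2, aeval_restrict]
  rw [h3, LinearEquiv.conj_apply, LinearMap.comp_assoc, LinearMap.det_conj, LinearMap.det_prodMap, h2, map_one,
    mul_one, h1, LinearEquiv.conj_apply, LinearMap.comp_assoc, LinearMap.det_conj, ← hk, Algebra.norm_apply]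

/-- `p'`-matrices with equal characteristic polynomials are conjugate in `GL`. -/
theorem isConj_GL_of_charpoly {k : Type*} [Fintype k] [DecidableEq k] {N : ℕ} (hN : (N : F) ≠ 0) (g h : GL k F)
    (hg : g ^ N = 1) (hh : h ^ N = 1)
    (hc : (g : Matrix k k F).charpoly = (h : Matrix k k F).charpoly) : IsConj g h := by
  have hpow : ∀ x : GL k F, x ^ N = 1 → (Matrix.toLin' (x : Matrix k k F)) ^ N = 1 := by
    intro x hx
    show (Matrix.toLinAlgEquiv' (x : Matrix k k F)) ^ N = 1
    rw [← map_pow, ← Units.val_pow_eq_pow_val, hx, Units.val_one, map_one]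
  obtain ⟨e, he⟩ := conj_of_charpoly hN _ _ _ (Matrix.toLin' (g : Matrix k k F)) (Matrix.toLin' (h : Matrix k k F)) rfl
    (hpow g hg) (hpow h hh) (by rw [Matrix.charpoly_toLin', Matrix.charpoly_toLin', hc])
  refine isConj_iff.2 ⟨⟨LinearMap.toMatrix' e.toLinearMap, LinearMap.toMatrix' e.symm.toLinearMap,
    by rw [← LinearMap.toMatrix'_comp, LinearEquiv.comp_coe, LinearEquiv.symm_trans_self, LinearEquiv.refl_toLinearMap,
      LinearMap.toMatrix'_id],
    by rw [← LinearMap.toMatrix'_comp, LinearEquiv.comp_coe, LinearEquiv.self_trans_symm, LinearEquiv.refl_toLinearMap,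
      LinearMap.toMatrix'_id]⟩, mul_inv_eq_iff_eq_mul.2 (Units.ext ?_)⟩
  refine Matrix.ext_iff_mulVec.2 fun v => ?_
  simp only [Units.val_mul, ← Matrix.mulVec_mulVec, LinearMap.toMatrix'_mulVec, LinearEquiv.coe_coe]
  simpa [Matrix.toLin'_apply] using he v

end Cfsg.Agent.H54
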