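import Mathlib
import Cfsg.Agent.H54.Bruhat
import Cfsg.Agent.H54.Cauchy

/-!
Orthonormality of the unipotent characters of the general linear group.
-/

set_option autoImplicit false

namespace Cfsg.Agent.H54

open Finset
open scoped MatrixGroups ComplexConjugate

variable {n : ℕ} {F : Type*} [Field F]

lemma comp_sum {ν : Fin n → ℕ} (hsum : ∑ i, ν i = n) (κ : Equiv.Perm (Fin n))
    (h : ∀ i, (κ i).val ≤ ν i + i.val) : ∑ i : Fin n, (ν i + i.val - (κ i).val) = n := by
  rw [sum_tsub_distrib _ (fun i _ => h i), sum_add_distrib, hsum, Equiv.sum_comp κ (fun i => i.val)]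
  omega

lemma strictMono_lam {ν : Fin n → ℕ} (hmono : Monotone ν) : StrictMono fun i : Fin n => ν i + i.val := by
  intro a b h
  have := hmono h.le
  have : a.val < b.val := h
  simp only
  omega

theorem unipotent_inner [Fintype F] [Fintype (GL (Fin n) F)] (ν ν' : Fin n → ℕ) (hν : Monotone ν)
    (hνs : ∑ i, ν i = n) (hν' : Monotone ν') (hν's : ∑ i, ν' i = n) :
    (Nat.card (GL (Fin n) F) : ℂ)⁻¹ * ∑ g : GL (Fin n) F,
        unipotentCharacterGL n F ν g * unipotentCharacterGL n F ν' g = if ν = ν' then 1 else 0 := by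
  classical
  have hexp : ∀ g : GL (Fin n) F, unipotentCharacterGL n F ν g * unipotentCharacterGL n F ν' g =
      ∑ κ : Equiv.Perm (Fin n), ∑ κ' : Equiv.Perm (Fin n),
        if (∀ i, (κ i).val ≤ ν i + i.val) ∧ (∀ i, (κ' i).val ≤ ν' i + i.val) then
          ((Equiv.Perm.sign κ : ℤ) : ℂ) * ((Equiv.Perm.sign κ' : ℤ) : ℂ) *
            (fixedPointCharacter (parabolicGL n F fun i => ν i + i.val - (κ i).val) g *
              fixedPointCharacter (parabolicGL n F fun i => ν' i + i.val - (κ' i).val) g)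
        else 0 := by
    intro g
    rw [unipotentCharacterGL, unipotentCharacterGL, sum_mul_sum]
    refine sum_congr rfl (fun κ _ => sum_congr rfl (fun κ' _ => ?_))
    by_cases h1 : ∀ i, (κ i).val ≤ ν i + i.val
    · by_cases h2 : ∀ i, (κ' i).val ≤ ν' i + i.val
      · rw [if_pos h1, if_pos h2, if_pos ⟨h1, h2⟩]; ring
      · rw [if_neg h2, mul_zero, if_neg (not_and_of_not_right _ h2)]
    · rw [if_neg h1, zero_mul, if_neg (not_and_of_not_left _ h1)]
  rw [sum_congr rfl (fun g _ => hexp g), sum_comm, mul_sum]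
  have hlam : ((fun i : Fin n => ν i + i.val) = fun i => ν' i + i.val) ↔ ν = ν' :=
    ⟨fun h => funext fun i => by have := congrFun h i; simpa using this, fun h => by rw [h]⟩
  have hcast : (if ν = ν' then (1 : ℂ) else 0) =
      (((if ((fun i : Fin n => ν i + i.val) = fun i => ν' i + i.val) then 1 else 0 : ℤ) : ℤ) : ℂ) := by
    by_cases h : ν = ν'
    · rw [if_pos h, if_pos (hlam.2 h), Int.cast_one]
    · rw [if_neg h, if_neg (fun h' => h (hlam.1 h')), Int.cast_zero]
  rw [hcast, ← alt_marginMat_eq _ _ (strictMono_lam hν) (strictMono_lam hν'), Int.cast_sum]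
  refine sum_congr rfl (fun κ _ => ?_)
  rw [sum_comm, mul_sum, Int.cast_sum]
  refine sum_congr rfl (fun κ' _ => ?_)
  by_cases h : (∀ i, (κ i).val ≤ ν i + i.val) ∧ (∀ i, (κ' i).val ≤ ν' i + i.val)
  · simp only [if_pos h]
    rw [← mul_sum, mul_left_comm, avg_parabolic (comp_sum hνs κ h.1) (comp_sum hν's κ' h.2)]
    push_cast
    ring
  · simp only [if_neg h, sum_const_zero, mul_zero, Int.cast_zero]

lemma unipotentCharacterGL_real (ν : Fin n → ℕ) (g : GL (Fin n) F) :
    conj (unipotentCharacterGL n F ν g) = unipotentCharacterGL n F ν g := by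
  simp [unipotentCharacterGL, fixedPointCharacter, map_sum, apply_ite (conj : ℂ → ℂ)]

end Cfsg.Agent.H54
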