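import Mathlib
import Cfsg.Agent.H54.UnipotentInner
import Cfsg.Agent.H54.ParabolicIndex

/-!
The degree of the unipotent characters of the general linear group.
-/

set_option autoImplicit false

namespace Cfsg.Agent.H54

open Finset Matrix
open scoped MatrixGroups

variable {n : ℕ}

/-- The q-falling factorial. -/
def qFall (q m k : ℕ) : ℕ := ∏ l ∈ range k, qInt q (m - l)

lemma qFall_eq_zero {q m k : ℕ} (h : m < k) : qFall q m k = 0 :=
  prod_eq_zero (mem_range.2 h) (by simp [qInt])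

lemma qFact_eq_mul_qFall (q : ℕ) {m k : ℕ} (h : k ≤ m) : qFact q m = qFact q (m - k) * qFall q m k := by
  induction k with
  | zero => simp [qFall]
  | succ k ih =>
    rw [ih (by omega), show m - k = (m - (k + 1)) + 1 by omega, qFact, qFall, qFall, prod_range_succ,
      prod_range_succ, show m - k = (m - (k + 1)) + 1 by omega, qFact]
    ring

lemma qFall_cast (q m k : ℕ) :
    (qFall q m k : ℂ) * (q : ℂ) ^ k.choose 2 = ∏ l ∈ range k, ((qInt q m : ℂ) - (qInt q l : ℂ)) := by
  rcases lt_or_ge m k with h | h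
  · rw [qFall_eq_zero h, Nat.cast_zero, zero_mul, eq_comm]
    exact prod_eq_zero (mem_range.2 h) (sub_self _)
  · induction k with
    | zero => simp [qFall]
    | succ k ih =>
      rw [prod_range_succ, ← ih (by omega), Nat.choose_succ_succ, Nat.choose_one_right,
        qFall, qFall, prod_range_succ]
      have e : qInt q m = qInt q k + q ^ k * qInt q (m - k) := by
        rw [← pow_mul_qInt, Nat.add_sub_cancel' (by omega)]
      rw [e]
      push_cast
      rw [pow_add]
      ring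

lemma choose_three_eq_sum (n : ℕ) : n.choose 3 = ∑ i ∈ range n, i.choose 2 := by
  induction n with
  | zero => simp
  | succ n ih => rw [sum_range_succ, ← ih, Nat.choose_succ_succ, add_comm]

/-- The alternating sum of q-falling factorials is a Vandermonde product. -/
lemma alt_qFall (q : ℕ) (lam : Fin n → ℕ) :
    (∑ κ : Equiv.Perm (Fin n), ((Equiv.Perm.sign κ : ℤ) : ℂ) * ∏ i, (qFall q (lam i) (κ i).val : ℂ)) *
        (q : ℂ) ^ n.choose 3 =
      ∏ i : Fin n, ∏ j ∈ Ioi i, ((qInt q (lam j) : ℂ) - (qInt q (lam i) : ℂ)) := by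
  classical
  let p : Fin n → Polynomial ℂ := fun j => ∏ l ∈ range j.val, (Polynomial.X - Polynomial.C (qInt q l : ℂ))
  have hm : ∀ j, (p j).Monic := fun j => Polynomial.monic_prod_of_monic _ _ (fun l _ => Polynomial.monic_X_sub_C _)
  have hd : ∀ j, (p j).natDegree = j.val := fun j => by
    rw [Polynomial.natDegree_prod_of_monic _ _ (fun l _ => Polynomial.monic_X_sub_C _)]
    simp only [Polynomial.natDegree_X_sub_C, sum_const, card_range, smul_eq_mul, mul_one]
  rw [← Matrix.det_vandermonde, Matrix.det_eval_matrixOfPolynomials_eq_det_vandermonde _ p hd hm,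
    ← det_transpose, det_apply', sum_mul]
  refine sum_congr rfl (fun κ _ => ?_)
  simp only [Matrix.transpose_apply, Matrix.of_apply, p, Polynomial.eval_prod, Polynomial.eval_sub,
    Polynomial.eval_X, Polynomial.eval_C]
  simp only [← qFall_cast]
  rw [mul_assoc, prod_mul_distrib, prod_pow_eq_pow_sum, Equiv.sum_comp κ (fun i => i.val.choose 2),
    Fin.sum_univ_eq_sum_range (fun i => i.choose 2) n]
  congr 3
  exact choose_three_eq_sum n

lemma choose_three (n : ℕ) : n.choose 3 = n * (n - 1) * (n - 2) / 6 := by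
  rw [Nat.choose_eq_descFactorial_div_factorial, show Nat.factorial 3 = 6 from rfl]
  congr 1
  simp [Nat.descFactorial_succ]
  ring

variable {F : Type*} [Field F] [Fintype F]

theorem unipotent_degree (q : ℕ) (hq : Fintype.card F = q) (ν : Fin n → ℕ) (hsum : ∑ i, ν i = n) :
    unipotentCharacterGL n F ν 1 * (q : ℂ) ^ n.choose 3 * (∏ i : Fin n, (qFact q (ν i + i.val) : ℂ)) =
      (qFact q n : ℂ) * ∏ i : Fin n, ∏ j ∈ Ioi i,
        ((qInt q (ν j + j.val) : ℂ) - (qInt q (ν i + i.val) : ℂ)) := by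
  classical
  have hf : ∀ H : Subgroup (GL (Fin n) F), fixedPointCharacter H 1 = (Nat.card (GL (Fin n) F ⧸ H) : ℂ) := by
    intro H
    simp [fixedPointCharacter, MulAction.fixedBy_one_eq_univ]
  rw [← alt_qFall q (fun i => ν i + i.val), unipotentCharacterGL, mul_right_comm, ← mul_assoc]
  congr 1
  rw [sum_mul, mul_sum]
  refine sum_congr rfl (fun κ _ => ?_)
  by_cases h : ∀ i, (κ i).val ≤ ν i + i.val
  · rw [if_pos h, hf, mul_assoc, mul_left_comm (qFact q n : ℂ)]
    congr 1
    have hidx := index_parabolic (F := F) q hq (comp_sum hsum κ h)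
    rw [← hidx, Nat.cast_mul, Nat.cast_prod, mul_assoc, ← prod_mul_distrib]
    congr 1
    refine prod_congr rfl (fun i _ => ?_)
    rw [← Nat.cast_mul, ← qFact_eq_mul_qFall q (h i)]
  · rw [if_neg h, zero_mul]
    push Not at h
    obtain ⟨i, hi⟩ := h
    rw [prod_eq_zero (mem_univ i) (by rw [qFall_eq_zero hi, Nat.cast_zero]), mul_zero, mul_zero]

theorem unipotent_degree_pos (ν : Fin n → ℕ) (hmono : Monotone ν) (hsum : ∑ i, ν i = n) :
    ∃ d : ℕ, 0 < d ∧ unipotentCharacterGL n F ν 1 = d := by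
  classical
  set q := Fintype.card F with hq
  have hq1 : 0 < q := Fintype.card_pos
  have hint : ∃ z : ℤ, unipotentCharacterGL n F ν 1 = z := by
    unfold unipotentCharacterGL
    refine Finset.sum_induction _ (fun w => ∃ z : ℤ, w = (z : ℂ)) ?_ ⟨0, by simp⟩ (fun κ _ => ?_)
    · rintro a b ⟨x, rfl⟩ ⟨y, rfl⟩
      exact ⟨x + y, by push_cast; rfl⟩
    · split_ifs
      · exact ⟨(Equiv.Perm.sign κ : ℤ) * (Nat.card (MulAction.fixedBy (GL (Fin n) F ⧸
          parabolicGL n F fun i => ν i + i.val - (κ i).val) (1 : GL (Fin n) F)) : ℤ), by simp [fixedPointCharacter]⟩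
      · exact ⟨0, by simp⟩
  obtain ⟨z, hz⟩ := hint
  have h := unipotent_degree (F := F) q rfl ν hsum
  have hlt : ∀ i : Fin n, ∀ j ∈ Ioi i, qInt q (ν i + i.val) < qInt q (ν j + j.val) := fun i j hj =>
    qInt_strictMono hq1 (strictMono_lam hmono (mem_Ioi.1 hj))
  have hrhs : (qFact q n : ℂ) * ∏ i : Fin n, ∏ j ∈ Ioi i,
      ((qInt q (ν j + j.val) : ℂ) - (qInt q (ν i + i.val) : ℂ)) =
      ((qFact q n * ∏ i : Fin n, ∏ j ∈ Ioi i, (qInt q (ν j + j.val) - qInt q (ν i + i.val)) : ℕ) : ℂ) := by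
    push_cast
    congr 1
    exact prod_congr rfl (fun i _ => prod_congr rfl (fun j hj => (Nat.cast_sub (hlt i j hj).le).symm))
  rw [hrhs, hz] at h
  have hpos : 0 < qFact q n * ∏ i : Fin n, ∏ j ∈ Ioi i, (qInt q (ν j + j.val) - qInt q (ν i + i.val)) :=
    Nat.mul_pos (qFact_pos q n) (prod_pos fun i _ => prod_pos fun j hj => Nat.sub_pos_of_lt (hlt i j hj))
  have h2 : z * ((q : ℤ) ^ n.choose 3 * ∏ i : Fin n, (qFact q (ν i + i.val) : ℤ)) =
      ((qFact q n * ∏ i : Fin n, ∏ j ∈ Ioi i, (qInt q (ν j + j.val) - qInt q (ν i + i.val)) : ℕ) : ℤ) := by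
    apply Int.cast_injective (α := ℂ)
    push_cast at h ⊢
    rw [← h]; ring
  have hzpos : 0 < z := by
    by_contra hz'
    have h3 : (0 : ℤ) ≤ (q : ℤ) ^ n.choose 3 * ∏ i : Fin n, (qFact q (ν i + i.val) : ℤ) :=
      mul_nonneg (pow_nonneg (Int.natCast_nonneg q) _) (prod_nonneg fun i _ => Int.natCast_nonneg _)
    have h4 := mul_nonpos_of_nonpos_of_nonneg (not_lt.1 hz') h3
    rw [h2] at h4
    omega
  refine ⟨z.toNat, by omega, ?_⟩
  rw [hz, ← Int.cast_natCast, Int.toNat_of_nonneg hzpos.le]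

end Cfsg.Agent.H54
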