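import Cfsg.Agent.H54.CentralBlocks
import Cfsg.Agent.H54.DefectZeroSL
import Cfsg.Agent.H54.UnipotentDegree
import Cfsg.Agent.H82.MaxPair
import Cfsg.Agent.H83.BlockAlgebra
import Cfsg.Agent.H35.DegreeIndex
import Cfsg.Agent.CharInduce.Ops
import Cfsg.Agent.CharInduce.Induce
import Cfsg.Agent.S2421

/-!
The blocks of `SL_n(q)` in the defining characteristic.
-/

set_option autoImplicit false
set_option linter.unusedSectionVars false
set_option linter.style.haveILetI false

namespace Cfsg.Agent.H54.SLB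

open Matrix BlockBasic
open scoped MatrixGroups

variable {F : Type*} [Field F] [Fintype F] [DecidableEq F] {n : ℕ} {p : ℕ} [Fact p.Prime] [CharP F p]

/-- `SL_n(F)`. -/
abbrev SLn (n : ℕ) (F : Type*) [Field F] := SpecialLinearGroup (Fin n) F

local notation "M'" => Matrix (Fin n) (Fin n) F

omit [Fintype F] [DecidableEq F] in
theorem coe_mul' (x y : SLn n F) : ((x * y : SLn n F) : M') = (x : M') * (y : M') := rfl

omit [Fintype F] [DecidableEq F] in
theorem coe_one' : ((1 : SLn n F) : M') = 1 := rfl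

omit [Fintype F] [DecidableEq F] in
theorem mulVec_mul' (x y : SLn n F) (v : Fin n → F) :
    ((x * y : SLn n F) : M') *ᵥ v = (x : M') *ᵥ ((y : M') *ᵥ v) := by
  rw [coe_mul', Matrix.mulVec_mulVec]

omit [Fintype F] [DecidableEq F] in
theorem mulVec_one' (v : Fin n → F) : ((1 : SLn n F) : M') *ᵥ v = v := by
  rw [coe_one', Matrix.one_mulVec]

omit [Fintype F] [DecidableEq F] in
theorem inv_mulVec_cancel (x : SLn n F) (v : Fin n → F) :
    ((x⁻¹ : SLn n F) : M') *ᵥ ((x : M') *ᵥ v) = v := by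
  rw [← mulVec_mul', inv_mul_cancel, mulVec_one']

omit [Fintype F] [DecidableEq F] in
theorem mulVec_inv_cancel (x : SLn n F) (v : Fin n → F) :
    (x : M') *ᵥ (((x⁻¹ : SLn n F) : M') *ᵥ v) = v := by
  rw [← mulVec_mul', mul_inv_cancel, mulVec_one']

/-- The fixed vectors of a subgroup. -/
def fixedSpace (D : Subgroup (SLn n F)) : Submodule F (Fin n → F) where
  carrier := {v | ∀ d ∈ D, (d : M') *ᵥ v = v}
  add_mem' := fun {a b} ha hb d hd => by rw [Matrix.mulVec_add, ha d hd, hb d hd]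
  zero_mem' := fun d _ => Matrix.mulVec_zero _
  smul_mem' := fun c {a} ha d hd => by rw [Matrix.mulVec_smul, ha d hd]

/-- The stabiliser of the series `0 ≤ W ≤ V`. -/
def seriesStab (W : Submodule F (Fin n → F)) : Subgroup (SLn n F) where
  carrier := {a | (∀ w ∈ W, (a : M') *ᵥ w = w) ∧ ∀ v, (a : M') *ᵥ v - v ∈ W}
  mul_mem' := fun {a b} ha hb => ⟨fun w hw => by rw [mulVec_mul', hb.1 w hw, ha.1 w hw], fun v => by
    have h : ((a * b : SLn n F) : M') *ᵥ v - v =
        ((a : M') *ᵥ ((b : M') *ᵥ v) - (b : M') *ᵥ v) + ((b : M') *ᵥ v - v) := by rw [mulVec_mul']; abel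
    rw [h]
    exact W.add_mem (ha.2 _) (hb.2 v)⟩
  one_mem' := ⟨fun w _ => mulVec_one' w, fun v => by rw [mulVec_one', sub_self]; exact W.zero_mem⟩
  inv_mem' := fun {a} ha => ⟨fun w hw => by
      conv_lhs => rw [← ha.1 w hw]
      rw [inv_mulVec_cancel], fun v => by
      have h := W.neg_mem (ha.2 (((a⁻¹ : SLn n F) : M') *ᵥ v))
      rwa [mulVec_inv_cancel, neg_sub] at h⟩

theorem seriesStab_isPGroup (W : Submodule F (Fin n → F)) : IsPGroup p (seriesStab W) := by
  intro a
  refine ⟨1, Subtype.ext (Subtype.ext ?_)⟩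
  set A : M' := ((a : SLn n F) : M')
  have hN : (A - 1) * (A - 1) = 0 := by
    refine Matrix.ext_iff_mulVec.2 fun v => ?_
    rw [← Matrix.mulVec_mulVec, Matrix.sub_mulVec, Matrix.sub_mulVec, Matrix.one_mulVec, Matrix.one_mulVec,
      Matrix.zero_mulVec, a.2.1 _ (a.2.2 v), sub_self]
  have hpow : ∀ k : ℕ, A ^ k = 1 + (k : F) • (A - 1) := by
    intro k
    induction k with
    | zero => simp
    | succ k ih =>
      have hA : A = 1 + (A - 1) := by abel
      rw [pow_succ, ih]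
      nth_rw 2 [hA]
      rw [mul_add, add_mul, add_mul, one_mul, one_mul, mul_one, smul_mul_assoc, hN, smul_zero, add_zero,
        Nat.cast_succ, add_smul, one_smul]
      abel
  show (((a : SLn n F) ^ p ^ 1 : SLn n F) : M') = (1 : M')
  rw [Matrix.SpecialLinearGroup.coe_pow, hpow, pow_one, CharP.cast_eq_zero, zero_smul, add_zero]

theorem fixedSpace_conj {D : Subgroup (SLn n F)} {g : SLn n F} (hg : g ∈ Subgroup.normalizer (D : Set (SLn n F)))
    {w : Fin n → F} (hw : w ∈ fixedSpace D) : (g : M') *ᵥ w ∈ fixedSpace D := by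
  intro d hd
  have h1 : g⁻¹ * d * g ∈ D := (Subgroup.mem_normalizer_iff''.1 hg d).1 hd
  have h2 := congrArg (fun v => (g : M') *ᵥ v) (hw _ h1)
  simp only [mulVec_mul', mulVec_inv_cancel] at h2
  exact h2

theorem conj_mem_seriesStab {D : Subgroup (SLn n F)} {g a : SLn n F}
    (hg : g ∈ Subgroup.normalizer (D : Set (SLn n F))) (ha : a ∈ seriesStab (fixedSpace D)) :
    g * a * g⁻¹ ∈ seriesStab (fixedSpace D) := by
  refine ⟨fun w hw => ?_, fun v => ?_⟩
  · rw [mulVec_mul', mulVec_mul', ha.1 _ (fixedSpace_conj (inv_mem hg) hw), mulVec_inv_cancel]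
  · have h := fixedSpace_conj hg (ha.2 (((g⁻¹ : SLn n F) : M') *ᵥ v))
    rw [Matrix.mulVec_sub, mulVec_inv_cancel, ← mulVec_mul', ← mulVec_mul'] at h
    exact h

theorem seriesStab_le {D : Subgroup (SLn n F)} (hD : IsPGroup p D)
    (hrad : (Cfsg.pCore p (Subgroup.normalizer (D : Set (SLn n F)))).map
      (Subgroup.normalizer (D : Set (SLn n F))).subtype = D) :
    seriesStab (fixedSpace D) ≤ D := by
  set A := seriesStab (fixedSpace D)
  set N := Subgroup.normalizer (D : Set (SLn n F))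
  have hAN : ∀ x ∈ A, x ∈ N → x ∈ D := by
    intro x hx hxN
    haveI hn : (A.subgroupOf N).Normal := ⟨fun a ha g => conj_mem_seriesStab g.2 ha⟩
    have h1 : A.subgroupOf N ≤ Cfsg.pCore p N :=
      Cores.le_pCore ((seriesStab_isPGroup (p := p) _).comap_of_injective _ N.subtype_injective)
    rw [← hrad]
    exact ⟨⟨x, hxN⟩, h1 hx, rfl⟩
  have hDA : D ≤ Subgroup.normalizer (A : Set (SLn n F)) := fun d hd => by
    rw [Subgroup.mem_normalizer_iff]
    intro a
    refine ⟨fun ha => conj_mem_seriesStab (Subgroup.le_normalizer hd) ha, fun ha => ?_⟩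
    have h := conj_mem_seriesStab (inv_mem (Subgroup.le_normalizer hd)) ha
    simpa [mul_assoc] using h
  have hP : IsPGroup p (D ⊔ A : Subgroup (SLn n F)) :=
    hD.to_sup_of_normal_right' (seriesStab_isPGroup _) hDA
  haveI : Group.IsNilpotent (D ⊔ A : Subgroup (SLn n F)) := hP.isNilpotent
  have hmem : ∀ x ∈ D ⊔ A, x ∈ N → x ∈ D := by
    intro x hx hxN
    rw [← SetLike.mem_coe, Subgroup.coe_mul_of_left_le_normalizer_right D A hDA] at hx
    obtain ⟨d, hd, a, ha, rfl⟩ := hx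
    refine mul_mem hd (hAN a ha ?_)
    have h := mul_mem (inv_mem (Subgroup.le_normalizer hd : d ∈ N)) hxN
    rwa [inv_mul_cancel_left] at h
  intro x hx
  by_contra hxD
  have hlt : D < D ⊔ A := lt_of_le_of_ne le_sup_left fun h => hxD (h.symm ▸ Subgroup.mem_sup_right hx)
  obtain ⟨y, hy, hyD⟩ := SetLike.exists_of_lt (H82.lt_inf_normalizer hlt)
  exact hyD (hmem y hy.1 hy.2)

theorem fixedSpace_ne_bot (hn : 1 ≤ n) {D : Subgroup (SLn n F)} (hD : IsPGroup p D) : fixedSpace D ≠ ⊥ := by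
  classical
  letI act : MulAction D (Fin n → F) :=
    { smul := fun d v => ((d : SLn n F) : M') *ᵥ v
      one_smul := fun v => mulVec_one' v
      mul_smul := fun d e v => mulVec_mul' _ _ v }
  have hdvd : p ∣ Nat.card (Fin n → F) := by
    obtain ⟨r, hp, hr⟩ := FiniteField.card F p
    rw [Nat.card_fun, Nat.card_fin, Nat.card_eq_fintype_card, hr]
    exact dvd_pow (dvd_pow_self p r.ne_zero) (by omega)
  have h0 : (0 : Fin n → F) ∈ MulAction.fixedPoints D (Fin n → F) := fun d => Matrix.mulVec_zero _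
  obtain ⟨v, hv, hv0⟩ := hD.exists_fixed_point_of_prime_dvd_card_of_fixed_point _ hdvd h0
  intro h
  refine hv0 ?_
  have : v ∈ fixedSpace D := fun d hd => hv ⟨d, hd⟩
  rw [h, Submodule.mem_bot] at this
  exact this.symm

theorem exists_functional {W : Submodule F (Fin n → F)} {y : Fin n → F} (hy : y ∉ W) :
    ∃ ψ : Fin n → F, (∀ w ∈ W, ψ ⬝ᵥ w = 0) ∧ ψ ⬝ᵥ y ≠ 0 := by
  obtain ⟨f, hfy, hfW⟩ := Submodule.exists_dual_map_eq_bot_of_notMem hy inferInstance
  have hf : ∀ v, (fun i => f (Pi.single i 1)) ⬝ᵥ v = f v := fun v => by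
    conv_rhs => rw [pi_eq_sum_univ' v, map_sum]
    simp [dotProduct, mul_comm]
  refine ⟨fun i => f (Pi.single i 1), fun w hw => ?_, by rwa [hf]⟩
  rw [hf, ← Submodule.mem_bot F, ← hfW]
  exact Submodule.mem_map_of_mem hw

theorem centralLocal (hn : 1 ≤ n) : CB.CentralLocal p (SLn n F) := by
  intro D hD1 hDp hrad g hreg hgD
  classical
  haveI : Nonempty (Fin n) := ⟨⟨0, by omega⟩⟩
  set W := fixedSpace D with hW
  have hle := seriesStab_le hDp hrad
  obtain ⟨v0, hv0, hv0'⟩ := Submodule.exists_mem_ne_zero_of_ne_bot (fixedSpace_ne_bot hn hDp)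
  obtain ⟨y0, hy0⟩ : ∃ y, y ∉ W := by
    by_contra! hall
    refine hD1 (eq_bot_iff.2 fun d hd => Subgroup.mem_bot.2 (Subtype.ext ?_))
    exact Matrix.ext_iff_mulVec.2 fun v => (hall v d hd).trans (mulVec_one' v).symm
  obtain ⟨ψ0, hψ0W, hψ0y⟩ := exists_functional hy0
  obtain ⟨j, hj⟩ : ∃ j, ψ0 j ≠ 0 := by
    by_contra! h
    exact hψ0y (by simp [dotProduct, h])
  obtain ⟨i0, hi0⟩ : ∃ i, v0 i ≠ 0 := Function.ne_iff.1 hv0'
  have key : ∀ v ∈ W, ∀ ψ : Fin n → F, (∀ w ∈ W, ψ ⬝ᵥ w = 0) →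
      ∀ i k, ((g : M') *ᵥ v) i * ψ k = v i * (ψ ᵥ* (g : M')) k := by
    intro v hv ψ hψ i k
    have hdet : (1 + vecMulVec v ψ : M').det = 1 := by
      rw [vecMulVec_eq Unit, Matrix.det_one_add_replicateCol_mul_replicateRow, hψ v hv, add_zero]
    let a : SLn n F := ⟨1 + vecMulVec v ψ, hdet⟩
    have ha : a ∈ seriesStab W := by
      refine ⟨fun w hw => ?_, fun x => ?_⟩
      · show (1 + vecMulVec v ψ : M') *ᵥ w = w
        rw [Matrix.add_mulVec, Matrix.one_mulVec, Matrix.vecMulVec_mulVec, hψ w hw]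
        simp
      · show (1 + vecMulVec v ψ : M') *ᵥ x - x ∈ W
        rw [Matrix.add_mulVec, Matrix.one_mulVec, add_sub_cancel_left, Matrix.vecMulVec_mulVec, op_smul_eq_smul]
        exact W.smul_mem _ hv
    have hcomm : a * g = g * a := Subgroup.mem_centralizer_iff.1 hgD a (hle ha)
    have h1 : (1 + vecMulVec v ψ : M') * (g : M') = (g : M') * (1 + vecMulVec v ψ) :=
      congrArg (fun x : SLn n F => (x : M')) hcomm
    rw [add_mul, one_mul, mul_add, mul_one, add_right_inj, Matrix.mul_vecMulVec, Matrix.vecMulVec_mul] at h1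
    exact ((congrFun (congrFun h1 i) k).symm)
  set c := (ψ0 ᵥ* (g : M')) j / ψ0 j with hc
  have hgW : ∀ v ∈ W, (g : M') *ᵥ v = c • v := fun v hv => funext fun i => by
    have h := key v hv ψ0 hψ0W i j
    rw [Pi.smul_apply, smul_eq_mul, hc]
    field_simp
    linear_combination h
  have hψg : ∀ ψ : Fin n → F, (∀ w ∈ W, ψ ⬝ᵥ w = 0) → ψ ᵥ* (g : M') = c • ψ := fun ψ hψ => funext fun k => by
    have h := key v0 hv0 ψ hψ i0 k
    rw [hgW v0 hv0, Pi.smul_apply, smul_eq_mul] at h
    rw [Pi.smul_apply, smul_eq_mul]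
    exact mul_left_cancel₀ hi0 (by linear_combination -h)
  set N : M' := (g : M') - c • (1 : M') with hN
  have hNW : ∀ x, N *ᵥ x ∈ W := by
    intro x
    by_contra hx
    obtain ⟨ψ, hψW, hψx⟩ := exists_functional hx
    refine hψx ?_
    rw [hN, Matrix.sub_mulVec, dotProduct_sub, dotProduct_mulVec, hψg ψ hψW, Matrix.smul_mulVec,
      Matrix.one_mulVec, smul_dotProduct, dotProduct_smul, sub_self]
  have hN2 : N * N = 0 := Matrix.ext_iff_mulVec.2 fun x => by
    rw [← Matrix.mulVec_mulVec, Matrix.zero_mulVec]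
    nth_rw 1 [hN]
    rw [Matrix.sub_mulVec, hgW _ (hNW x), Matrix.smul_mulVec, Matrix.one_mulVec, sub_self]
  have hgp : ((g : M')) ^ p = c ^ p • (1 : M') := by
    have hg' : (g : M') = c • (1 : M') + N := by rw [hN]; abel
    have hNp : N ^ p = 0 := by
      rw [← Nat.add_sub_cancel' (Fact.out : p.Prime).two_le, pow_add, pow_two, hN2, zero_mul]
    rw [hg', add_pow_char_of_commute p ((Commute.one_left N).smul_left c), hNp, add_zero, smul_pow, one_pow]
  obtain ⟨k, hk⟩ : ∃ k : ℕ, g = (g ^ p) ^ k := by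
    obtain ⟨k, hk⟩ := exists_pow_eq_self_of_coprime
      ((Nat.Prime.coprime_iff_not_dvd (Fact.out : p.Prime)).2 hreg)
    exact ⟨k, hk.symm⟩
  rw [Matrix.SpecialLinearGroup.mem_center_iff]
  have hscal : (g : M') = Matrix.scalar (Fin n) ((c ^ p) ^ k) := by
    rw [scalar_apply, ← smul_one_eq_diagonal]
    conv_lhs => rw [hk]
    rw [Matrix.SpecialLinearGroup.coe_pow, Matrix.SpecialLinearGroup.coe_pow, hgp, smul_pow, one_pow]
  refine ⟨(c ^ p) ^ k, ?_, hscal.symm⟩
  have hd : (g : M').det = 1 := g.2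
  rw [hscal, scalar_apply, det_diagonal, Finset.prod_const, Finset.card_univ] at hd
  exact hd

theorem card_center (hn : 1 ≤ n) :
    Nat.card (Subgroup.center (SLn n F)) = Nat.gcd n (Fintype.card F - 1) := by
  haveI : Nonempty (Fin n) := ⟨⟨0, by omega⟩⟩
  rw [Linear.card_center_SL, Fintype.card_fin]

theorem not_dvd_card_center (hn : 1 ≤ n) : ¬ p ∣ Nat.card (Subgroup.center (SLn n F)) := by
  rw [card_center hn]
  intro h
  obtain ⟨r, hp, hr⟩ := FiniteField.card F p
  have h1 : p ∣ Fintype.card F - 1 := h.trans (Nat.gcd_dvd_right _ _)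
  have h2 : p ∣ Fintype.card F := by rw [hr]; exact dvd_pow_self p r.ne_zero
  have h3 := Nat.dvd_sub h2 h1
  rw [Nat.sub_sub_self Fintype.card_pos] at h3
  exact hp.ne_one (Nat.dvd_one.1 h3)

theorem dvd_card (hn : 2 ≤ n) : p ∣ Nat.card (SLn n F) := by
  refine dvd_trans ?_ (Subgroup.card_subgroup_dvd_card (Linear.unitriSL n F))
  rw [Linear.card_unitriSL, Nat.card_eq_fintype_card]
  obtain ⟨r, hp, hr⟩ := FiniteField.card F p
  rw [hr]
  refine dvd_pow (dvd_pow_self p r.ne_zero) ?_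
  have : 2 ≤ n * (n - 1) := by
    calc 2 = 2 * 1 := rfl
      _ ≤ n * (n - 1) := Nat.mul_le_mul hn (by omega)
  omega

/-! ### The Steinberg character -/

theorem prod_qInt_diff (q m : ℕ) :
    (∏ j ∈ Finset.range m, ∏ i ∈ Finset.range j, (q ^ (i + 1) * qInt q (j - i))) =
      q ^ (m.choose 3 + m.choose 2) * ∏ j ∈ Finset.range m, qFact q j := by
  induction m with
  | zero => simp
  | succ m ih =>
    rw [Finset.prod_range_succ, ih, Finset.prod_range_succ, Finset.prod_mul_distrib, Finset.prod_pow_eq_pow_sum]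
    have h1 : ∏ i ∈ Finset.range m, qInt q (m - i) = qFact q m := by
      rw [qFact, ← Finset.prod_range_reflect]
      refine Finset.prod_congr rfl fun i hi => ?_
      rw [Finset.mem_range] at hi
      congr 1
      omega
    have h2 : ∑ i ∈ Finset.range m, (i + 1) = (m + 1).choose 2 := by
      clear ih h1
      induction m with
      | zero => rfl
      | succ m ih => rw [Finset.sum_range_succ, ih, Nat.choose_succ_succ (m + 1) 1, Nat.choose_one_right]; ring
    rw [h1, h2, Nat.choose_succ_succ m 2]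
    simp only [Nat.succ_eq_add_one, Nat.reduceAdd]
    simp only [pow_add]
    ring

theorem steinberg_degree : unipotentCharacterGL n F (fun _ => 1) 1 = ((Fintype.card F) ^ n.choose 2 : ℕ) := by
  classical
  set q := Fintype.card F with hq
  have hq0 : 0 < q := Fintype.card_pos
  have h := unipotent_degree (F := F) q rfl (fun _ : Fin n => 1) (by simp)
  have hR : ∏ i : Fin n, ∏ j ∈ Finset.Ioi i, ((qInt q (1 + j.val) : ℂ) - (qInt q (1 + i.val) : ℂ)) =
      ((q ^ (n.choose 3 + n.choose 2) * ∏ j ∈ Finset.range n, qFact q j : ℕ) : ℂ) := by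
    rw [← prod_qInt_diff, Finset.prod_comm' (t' := Finset.univ) (s' := fun j : Fin n => Finset.Iio j) (by simp)]
    push_cast
    rw [← Fin.prod_univ_eq_prod_range (fun j => ∏ i ∈ Finset.range j, ((q : ℂ) ^ (i + 1) * (qInt q (j - i) : ℂ)))]
    refine Finset.prod_congr rfl fun j _ => ?_
    rw [← Nat.Iio_eq_range, ← Fin.map_valEmbedding_Iio, Finset.prod_map]
    refine Finset.prod_congr rfl fun i hi => ?_
    have hij : (i : ℕ) < j := Fin.lt_def.1 (Finset.mem_Iio.1 hi)
    show _ = (q : ℂ) ^ ((i : ℕ) + 1) * (qInt q ((j : ℕ) - i) : ℂ)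
    rw [show 1 + (j : ℕ) = ((i : ℕ) + 1) + ((j : ℕ) - i) by omega, pow_mul_qInt, Nat.add_comm 1 (i : ℕ)]
    push_cast
    ring
  have hA : ∏ i : Fin n, (qFact q (1 + i.val) : ℂ) = (qFact q n : ℂ) * ∏ j ∈ Finset.range n, (qFact q j : ℂ) := by
    rw [Fin.prod_univ_eq_prod_range (fun i => (qFact q (1 + i) : ℂ)), mul_comm, ← Finset.prod_range_succ,
      Finset.prod_range_succ' (fun i => (qFact q i : ℂ)), show qFact q 0 = 1 from rfl, Nat.cast_one, mul_one]
    exact Finset.prod_congr rfl fun i _ => by rw [Nat.add_comm]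
  rw [hR, hA] at h
  push_cast at h
  have hne : (q : ℂ) ^ n.choose 3 * ((qFact q n : ℂ) * ∏ j ∈ Finset.range n, (qFact q j : ℂ)) ≠ 0 := by
    refine mul_ne_zero (pow_ne_zero _ (by exact_mod_cast hq0.ne')) (mul_ne_zero ?_ (Finset.prod_ne_zero_iff.2 fun j _ => ?_))
    all_goals exact_mod_cast (qFact_pos _ _).ne'
  refine mul_right_cancel₀ hne ?_
  rw [← mul_assoc, h, pow_add]
  push_cast
  ring

/-- The Steinberg character restricted to `SL_n`. -/
theorem exists_steinberg :
    ∃ χ : IrrCharacter (SLn n F), charDegree (χ : SLn n F → ℂ) = Fintype.card F ^ n.choose 2 ∧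
      ¬ p ∣ Nat.card (SLn n F) / charDegree (χ : SLn n F → ℂ) := by
  classical
  haveI : Fintype (GL (Fin n) F) := Fintype.ofFinite _
  set θ := unipotentCharacterGL n F (fun _ => 1) with hθdef
  have hθ : IsIrrCharacter (GL (Fin n) F) θ :=
    S2421.result (fun _ : Fin n => 1) monotone_const (by simp)
  set N := (Matrix.GeneralLinearGroup.det : GL (Fin n) F →* Fˣ).ker with hNdef
  haveI : Fintype N := Fintype.ofFinite _
  set c := Fintype.card F ^ n.choose 2 with hcdef
  have hθ1 : θ 1 = (c : ℂ) := steinberg_degree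
  have hc0 : c ≠ 0 := pow_ne_zero _ Fintype.card_ne_zero
  have hres : IsCharacter N (fun x : N => θ x) := CharInduce.IsChar.res (CharBasic.IsIrr.isCharacter hθ) N
  obtain ⟨ψ, hψ⟩ := CharInduce.exists_constituent hres (fun h => hc0 (by
    have h1 := congrFun h 1
    simp only [Pi.zero_apply, OneMemClass.coe_one, hθ1, Nat.cast_eq_zero] at h1
    exact h1))
  have hd : (ψ : N → ℂ) 1 = (charDegree (ψ : N → ℂ) : ℂ) := apply_one_eq_charDegree ψ
  obtain ⟨hdc, hidx⟩ := H35.DegreeIndex.degree_quotient_dvd_index N hθ ψ.2 hψ c _ hθ1 hd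
  have hI : N.index ∣ Fintype.card F - 1 := by
    rw [hNdef, Subgroup.index_ker, ← Fintype.card_units, ← Nat.card_eq_fintype_card]
    exact Subgroup.card_subgroup_dvd_card _
  obtain ⟨r, hp, hr⟩ := FiniteField.card F p
  have hq1 : (c / charDegree (ψ : N → ℂ)).Coprime (Fintype.card F) := by
    refine Nat.Coprime.coprime_dvd_left (hidx.trans hI) ?_
    rw [Nat.coprime_self_sub_left Fintype.card_pos]
    exact Nat.coprime_one_left _
  have heq : charDegree (ψ : N → ℂ) = c := by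
    have h1 : c / charDegree (ψ : N → ℂ) = 1 :=
      (hq1.pow_right (n.choose 2)).eq_one_of_dvd (Nat.div_dvd_of_dvd hdc)
    exact Nat.eq_of_dvd_of_div_eq_one hdc h1
  let f : SLn n F →* N := (SpecialLinearGroup.toGL).codRestrict N fun x => by
    rw [hNdef, MonoidHom.mem_ker]
    exact Units.ext x.2
  have hf : Function.Surjective f := fun x => by
    refine ⟨⟨((x : GL (Fin n) F) : M'), ?_⟩, Subtype.ext (Units.ext rfl)⟩
    exact congrArg Units.val (MonoidHom.mem_ker.1 x.2)
  refine ⟨⟨fun g => (ψ : N → ℂ) (f g), CharInduce.IsIrr.comp ψ.2 f hf⟩, ?_, ?_⟩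
  · show ⌊((ψ : N → ℂ) (f 1)).re⌋₊ = _
    rw [map_one]
    exact heq
  · have hdeg : charDegree (fun g : SLn n F => (ψ : N → ℂ) (f g)) = c := by
      show ⌊((ψ : N → ℂ) (f 1)).re⌋₊ = _
      rw [map_one]
      exact heq
    show ¬ p ∣ Nat.card (SLn n F) / charDegree (fun g : SLn n F => (ψ : N → ℂ) (f g))
    rw [hdeg, hcdef, Nat.choose_two_right, ← Linear.factorization_card_SL p]
    exact Nat.not_dvd_ordCompl (Fact.out) Nat.card_pos.ne'

/-! ### Uniqueness of the block of defect zero -/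

theorem defectZero_unique {m : ℕ} {M : Ideal AlgInt} (hM : IsPModular p M)
    {B B' : Set (IrrCharacter (DZ.G m F))} (hB : IsPBlock M B) (hB' : IsPBlock M B')
    (hd : blockDefect p B = 0) (hd' : blockDefect p B' = 0) : B = B' := by
  classical
  haveI := locMax_isMaximal hM
  letI : Field (Residue hM) := Ideal.Quotient.field _
  haveI : CharP (Residue hM) p := (CharP.charP_iff_prime_eq_zero Fact.out).2 (by
    rw [← map_natCast (Ideal.Quotient.mk (locMax hM)), Ideal.Quotient.eq_zero_iff_mem]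
    exact natCast_p_mem_locMax hM)
  haveI : IsAlgClosed (Residue hM) := H83.BlockAlgebra.isAlgClosed_residue hM
  letI := ZMod.algebra F p
  letI := ZMod.algebra (Residue hM) p
  let ι : F →+* Residue hM := (IsAlgClosed.lift (R := ZMod p) (S := F) (M := Residue hM)).toRingHom
  by_contra hne
  have hdisj : B ∩ B' = (∅ : Set (IrrCharacter (DZ.G m F))) :=
    Set.eq_empty_iff_forall_notMem.2 fun ψ hψ => hne (isPBlock_eq_of_mem hM hB hB' hψ.1 hψ.2)
  obtain ⟨χ, rfl, hχ⟩ := (CB.blockDefect_eq_zero_iff hM hB).1 hd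
  obtain ⟨χ', rfl, hχ'⟩ := (CB.blockDefect_eq_zero_iff hM hB').1 hd'
  have mk : ∀ (χ : IrrCharacter (DZ.G m F)), ¬ p ∣ Nat.card (DZ.G m F) / charDegree (χ : DZ.G m F → ℂ) →
      IsPBlock M ({χ} : Set (IrrCharacter (DZ.G m F))) →
      DZ.IsDZ p (fun g => res hM (blockCoeff ({χ} : Set (IrrCharacter (DZ.G m F))) g)) := fun χ hχ hB =>
    ⟨fun g h => CB.dz_conj hM _ g h, fun g hg => CB.dz_van hM hχ hg,
      fun y => (CB.dz_conv hM hB hB y).trans (by rw [Set.inter_self]), CB.dz_ne hM hB⟩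
  refine DZ.not_orthogonal ι (mk χ hχ hB) (mk χ' hχ' hB') (fun y => ?_) (fun y => ?_)
  · rw [CB.dz_conv hM hB hB', hdisj]
    simp [blockCoeff, res_zero]
  · rw [CB.dz_conv hM hB' hB, Set.inter_comm, hdisj]
    simp [blockCoeff, res_zero]

theorem card_defectZero (hn : 1 ≤ n) {M : Ideal AlgInt} (hM : IsPModular p M) :
    Nat.card {B : Set (IrrCharacter (SLn n F)) // IsPBlock M B ∧ blockDefect p B = 0} = 1 := by
  obtain ⟨m, rfl⟩ := Nat.exists_eq_add_of_le' hn
  obtain ⟨χ, -, hχ⟩ := exists_steinberg (F := F) (n := m + 1) (p := p)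
  have h := CB.singleton_of_degree hM hχ
  rw [Nat.card_eq_one_iff_unique]
  exact ⟨⟨fun a b => Subtype.ext (defectZero_unique hM a.2.1 b.2.1 a.2.2 b.2.2)⟩, ⟨⟨_, h⟩⟩⟩

theorem defect_zero_or_full (hn : 1 ≤ n) {M : Ideal AlgInt} (hM : IsPModular p M)
    {B : Set (IrrCharacter (SLn n F))} (hB : IsPBlock M B) :
    blockDefect p B = 0 ∨ blockDefect p B = (Nat.card (SLn n F)).factorization p :=
  (eq_or_ne _ 0).imp id (CB.blockDefect_eq_full (centralLocal hn) hM hB)

theorem card_blocks (hn : 2 ≤ n) {M : Ideal AlgInt} (hM : IsPModular p M) :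
    Nat.card {B : Set (IrrCharacter (SLn n F)) // IsPBlock M B} = Nat.gcd n (Fintype.card F - 1) + 1 := by
  rw [CB.card_blocks (centralLocal (by omega)) hM (not_dvd_card_center (by omega)) (dvd_card hn),
    card_defectZero (by omega) hM, card_center (by omega)]

end Cfsg.Agent.H54.SLB
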