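import Cfsg.Agent.H54.SLBlocks

/-!
The three blocks of `SL_2(q)` in odd defining characteristic.
-/

set_option autoImplicit false
set_option linter.unusedSectionVars false

namespace Cfsg.Agent.H54.SLB2

open Matrix BlockBasic SLB

variable {F : Type*} [Field F] [Fintype F] [DecidableEq F] {p : ℕ} [Fact p.Prime] [CharP F p]

local notation "G2" => SpecialLinearGroup (Fin 2) F

theorem neg_one_mem_center : (-1 : G2) ∈ Subgroup.center G2 :=
  Subgroup.mem_center_iff.2 fun g => Subtype.ext (by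
    show (g : Matrix (Fin 2) (Fin 2) F) * (-(1 : Matrix (Fin 2) (Fin 2) F)) = -(1 : Matrix (Fin 2) (Fin 2) F) * g
    rw [mul_neg, neg_mul, mul_one, one_mul])

theorem neg_one_ne_one (hp : p ≠ 2) : (-1 : G2) ≠ 1 := by
  intro h
  have h1 : (-1 : Matrix (Fin 2) (Fin 2) F) 0 0 = (1 : Matrix (Fin 2) (Fin 2) F) 0 0 :=
    congrArg (fun g : G2 => (g : Matrix (Fin 2) (Fin 2) F) 0 0) h
  simp only [Matrix.neg_apply, Matrix.one_apply_eq] at h1
  exact Ring.neg_one_ne_one_of_char_ne_two (by rwa [ringChar.eq F p]) h1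

theorem center_eq (hp : p ≠ 2) {z : G2} (hz : z ∈ Subgroup.center G2) : z = 1 ∨ z = -1 := by
  classical
  obtain ⟨r, -, hr⟩ := Matrix.SpecialLinearGroup.mem_center_iff.1 hz
  have h : r = 1 ∨ r = -1 := by
    have h2 : (z : Matrix (Fin 2) (Fin 2) F).det = 1 := z.2
    rw [← hr, scalar_apply, det_diagonal, Fin.prod_univ_two] at h2
    exact mul_self_eq_one_iff.1 h2
  rcases h with rfl | rfl
  · left; refine Subtype.ext ?_; rw [← hr]; exact map_one _
  · right; refine Subtype.ext ?_; rw [← hr]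
    show _ = -(1 : Matrix (Fin 2) (Fin 2) F)
    rw [map_neg, map_one]

/-- `-1` is a commutator. -/
theorem exists_commutator : ∃ a b : G2, a * b = (-1 : G2) * (b * a) := by
  obtain ⟨x, y, hxy⟩ : ∃ x y : F, x ^ 2 + y ^ 2 = -1 := by
    haveI : CharP F (ringChar F) := ringChar.charP F
    haveI : NeZero (ringChar F) := ⟨(CharP.char_is_prime F (ringChar F)).ne_zero⟩
    obtain ⟨x, y, h⟩ := CharP.sq_add_sq F (ringChar F) (-1)
    exact ⟨x, y, by simpa using h⟩
  let a : G2 := ⟨!![0, -1; 1, 0], by simp [Matrix.det_fin_two]⟩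
  let b : G2 := ⟨!![x, y; y, -x], by rw [Matrix.det_fin_two]; simp; linear_combination -hxy⟩
  refine ⟨a, b, Subtype.ext ?_⟩
  show (a : Matrix (Fin 2) (Fin 2) F) * b = -(1 : Matrix (Fin 2) (Fin 2) F) * ((b : Matrix (Fin 2) (Fin 2) F) * a)
  rw [neg_mul, one_mul]
  ext i j
  fin_cases i <;> fin_cases j <;> simp [a, b, Matrix.mul_apply, Fin.sum_univ_two]

theorem centralChar_sq (χ : IrrCharacter G2) :
    centralChar (χ : G2 → ℂ) (-1) = 1 ∨ centralChar (χ : G2 → ℂ) (-1) = -1 := by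
  refine mul_self_eq_one_iff.1 ?_
  rw [← CB.centralChar_center_mul χ neg_one_mem_center neg_one_mem_center,
    show (-1 : G2) * -1 = 1 by simp, CB.centralChar_one]

theorem apply_neg_one (χ : IrrCharacter G2) :
    (χ : G2 → ℂ) (-1) = centralChar (χ : G2 → ℂ) (-1) * (χ : G2 → ℂ) 1 := by
  simpa using CB.apply_mul_center χ neg_one_mem_center 1

theorem centralChar_of_odd_degree (hp : p ≠ 2) (χ : IrrCharacter G2) {n : ℕ} (hn : Odd n)
    (hdeg : (χ : G2 → ℂ) 1 = (n : ℂ)) : centralChar (χ : G2 → ℂ) (-1) = 1 := by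
  classical
  obtain ⟨d, ρ, hirr, hρ⟩ := χ.2
  haveI := hirr
  have hd : d = n := by
    have h1 : ρ.character 1 = (d : ℂ) := by simp
    rw [hρ, hdeg] at h1
    exact_mod_cast h1.symm
  subst hd
  obtain ⟨ω, hω, -, hmul⟩ := CharBasic.exists_central_scalar ρ (neg_one_mem_center (F := F))
  obtain ⟨a, b, hab⟩ := exists_commutator (F := F)
  have hdet : LinearMap.det (ρ (-1 : G2)) = 1 := by
    have h1 := congrArg (fun g => LinearMap.det (ρ g)) hab
    simp only [map_mul] at h1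
    have hne : ∀ g : G2, LinearMap.det (ρ g) ≠ 0 := fun g h => by
      have h2 : LinearMap.det (ρ g) * LinearMap.det (ρ g⁻¹) = 1 := by
        rw [← map_mul, ← map_mul, mul_inv_cancel, map_one, map_one]
      rw [h, zero_mul] at h2
      exact zero_ne_one h2
    refine mul_right_cancel₀ (mul_ne_zero (hne b) (hne a)) ?_
    rw [one_mul, ← h1, mul_comm]
  rw [hω, LinearMap.det_smul, LinearMap.det_id, mul_one, Module.finrank_fin_fun] at hdet
  have h2 : centralChar (χ : G2 → ℂ) (-1) = ω := by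
    have h3 := hmul 1
    rw [one_mul, hρ] at h3
    rw [CB.centralChar_of_mem_center _ neg_one_mem_center, h3, mul_div_assoc,
      div_self (CB.apply_one_ne_zero χ), mul_one]
  rcases centralChar_sq χ with h | h
  · exact h
  · rw [h2] at h
    rw [h, hn.neg_one_pow] at hdet
    norm_num at hdet

variable {M : Ideal AlgInt}

theorem main (hp : p ≠ 2) (hM : IsPModular p M) :
    (∀ B : Set (IrrCharacter G2), IsPBlock M B ↔
      (B = {χ : IrrCharacter G2 | (χ : G2 → ℂ) 1 = (Fintype.card F : ℂ)} ∨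
       B = {χ : IrrCharacter G2 | (χ : G2 → ℂ) (-1) = (χ : G2 → ℂ) 1 ∧ (χ : G2 → ℂ) 1 ≠ (Fintype.card F : ℂ)} ∨
       B = {χ : IrrCharacter G2 | (χ : G2 → ℂ) (-1) = -(χ : G2 → ℂ) 1})) ∧
    Nat.card {B : Set (IrrCharacter G2) // IsPBlock M B} = 3 ∧
    ∀ P : Sylow p G2,
      IsDefectGroup p M {χ : IrrCharacter G2 | (χ : G2 → ℂ) (-1) = (χ : G2 → ℂ) 1 ∧ (χ : G2 → ℂ) 1 ≠ (Fintype.card F : ℂ)} (P : Subgroup G2) ∧
      IsDefectGroup p M {χ : IrrCharacter G2 | (χ : G2 → ℂ) (-1) = -(χ : G2 → ℂ) 1} (P : Subgroup G2) := by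
  classical
  set q := Fintype.card F with hq
  obtain ⟨r, hpr, hqr⟩ := FiniteField.card F p
  have hodd : Odd q := by rw [hq, hqr]; exact (hpr.odd_of_ne_two hp).pow
  have hH : CB.CentralLocal p G2 := centralLocal (by norm_num)
  have hZ : ¬ p ∣ Nat.card (Subgroup.center G2) := not_dvd_card_center (by norm_num)
  have hcardZ : Nat.card (Subgroup.center G2) = 2 := by
    rw [card_center (by norm_num)]
    obtain ⟨k, hk⟩ := hodd
    rw [← hq, hk, Nat.gcd_eq_left]
    exact ⟨k, by omega⟩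
  obtain ⟨st, hstdeg, hstq⟩ := exists_steinberg (F := F) (n := 2) (p := p)
  rw [Nat.choose_self, pow_one, ← hq] at hstdeg
  have hst1 : (st : G2 → ℂ) 1 = (q : ℂ) := by
    rw [apply_one_eq_charDegree, hstdeg]
  have hS := CB.singleton_of_degree hM hstq
  have hzero : ∀ χ : IrrCharacter G2, (χ : G2 → ℂ) 1 = (q : ℂ) → χ = st := by
    intro χ hχ
    have hd : charDegree (χ : G2 → ℂ) = q := by
      rw [apply_one_eq_charDegree] at hχ
      exact_mod_cast hχ
    have h := CB.singleton_of_degree hM (χ := χ) (by rw [hd, ← hstdeg]; exact hstq)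
    exact Set.singleton_injective (defectZero_unique (m := 1) hM h.1 hS.1 h.2 hS.2)
  have hSset : ({st} : Set (IrrCharacter G2)) = {χ : IrrCharacter G2 | (χ : G2 → ℂ) 1 = (q : ℂ)} := by
    ext χ
    exact ⟨fun h => h ▸ hst1, hzero χ⟩
  have hpos : ∀ χ : IrrCharacter G2, (χ : G2 → ℂ) 1 ≠ (q : ℂ) → blockDefect p (blockOf M (χ : G2 → ℂ)) ≠ 0 := by
    intro χ hχ h
    have h2 := defectZero_unique (m := 1) hM (isPBlock_blockOf M χ) hS.1 h hS.2
    have h3 := self_mem_blockOf hM χ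
    rw [h2, Set.mem_singleton_iff] at h3
    exact hχ (h3 ▸ hst1)
  have hblock : ∀ χ : IrrCharacter G2, (χ : G2 → ℂ) 1 ≠ (q : ℂ) → blockOf M (χ : G2 → ℂ) =
      {ψ : IrrCharacter G2 | centralChar (ψ : G2 → ℂ) (-1) = centralChar (χ : G2 → ℂ) (-1) ∧
        (ψ : G2 → ℂ) 1 ≠ (q : ℂ)} := by
    intro χ hχ
    ext ψ
    constructor
    · intro hψ
      refine ⟨(CB.centralChar_eq_of_mem hM hZ (isPBlock_blockOf M χ) (self_mem_blockOf hM χ) hψ
        neg_one_mem_center).symm, fun hψq => hpos χ hχ ?_⟩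
      rw [isPBlock_eq_of_mem hM (isPBlock_blockOf M χ) hS.1 hψ (hzero ψ hψq)]
      exact hS.2
    · rintro ⟨hψ, hψq⟩
      have h := CB.eq_of_centralChar_eq hH hM hZ (isPBlock_blockOf M ψ) (isPBlock_blockOf M χ) (hpos ψ hψq)
        (hpos χ hχ) (self_mem_blockOf hM ψ) (self_mem_blockOf hM χ) (fun z hz => by
          rcases center_eq (p := p) hp hz with rfl | rfl
          · rw [CB.centralChar_one, CB.centralChar_one]
          · exact hψ)
      rw [← h]
      exact self_mem_blockOf hM ψ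
  set Bp : Set (IrrCharacter G2) :=
    {χ | (χ : G2 → ℂ) (-1) = (χ : G2 → ℂ) 1 ∧ (χ : G2 → ℂ) 1 ≠ (q : ℂ)} with hBp
  set Bm : Set (IrrCharacter G2) := {χ | (χ : G2 → ℂ) (-1) = -(χ : G2 → ℂ) 1} with hBm
  have hval : ∀ χ : IrrCharacter G2, ((χ : G2 → ℂ) (-1) = (χ : G2 → ℂ) 1 ↔ centralChar (χ : G2 → ℂ) (-1) = 1) ∧
      ((χ : G2 → ℂ) (-1) = -(χ : G2 → ℂ) 1 ↔ centralChar (χ : G2 → ℂ) (-1) = -1) := by
    intro χ
    have h0 := CB.apply_one_ne_zero χ
    rw [apply_neg_one χ]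
    refine ⟨mul_eq_right₀ h0, ⟨fun h => mul_right_cancel₀ h0 (h.trans (neg_one_mul _).symm), fun h => by rw [h, neg_one_mul]⟩⟩
  have hstp : centralChar (st : G2 → ℂ) (-1) = 1 := centralChar_of_odd_degree (p := p) hp st hodd hst1
  have hplus : ∀ χ : IrrCharacter G2, (χ : G2 → ℂ) 1 ≠ (q : ℂ) → centralChar (χ : G2 → ℂ) (-1) = 1 →
      blockOf M (χ : G2 → ℂ) = Bp := by
    intro χ hχ hc
    rw [hblock χ hχ, hc, hBp]
    ext ψ
    exact and_congr_left fun _ => (hval ψ).1.symm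
  have hminus : ∀ χ : IrrCharacter G2, (χ : G2 → ℂ) 1 ≠ (q : ℂ) → centralChar (χ : G2 → ℂ) (-1) = -1 →
      blockOf M (χ : G2 → ℂ) = Bm := by
    intro χ hχ hc
    rw [hblock χ hχ, hc, hBm]
    ext ψ
    refine ⟨fun h => (hval ψ).2.2 h.1, fun h => ⟨(hval ψ).2.1 h, fun hψq => ?_⟩⟩
    have h2 := (hval ψ).2.1 h
    rw [hzero ψ hψq, hstp] at h2
    norm_num at h2
  have hblocks : ∀ B : Set (IrrCharacter G2), IsPBlock M B → B = {st} ∨ B = Bp ∨ B = Bm := by
    intro B hB
    obtain ⟨χ, hχ⟩ := isPBlock_nonempty hM hB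
    by_cases h : (χ : G2 → ℂ) 1 = (q : ℂ)
    · exact Or.inl (isPBlock_eq_of_mem hM hB hS.1 hχ (hzero χ h))
    · rw [isPBlock_eq_blockOf hM hB hχ]
      exact Or.inr ((centralChar_sq χ).imp (hplus χ h) (hminus χ h))
  have hcard : Nat.card {B : Set (IrrCharacter G2) // IsPBlock M B} = 3 := by
    rw [SLB.card_blocks le_rfl hM, ← card_center (F := F) (n := 2) (by norm_num), hcardZ]
  have hall : IsPBlock M Bp ∧ IsPBlock M Bm := by
    by_contra hnot
    have hle : Nat.card {B : Set (IrrCharacter G2) // IsPBlock M B} ≤ 2 := by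
      obtain ⟨X, hX⟩ : ∃ X, ∀ B : Set (IrrCharacter G2), IsPBlock M B → B = {st} ∨ B = X := by
        rcases not_and_or.1 hnot with hn | hn
        · exact ⟨Bm, fun B hB => (hblocks B hB).imp id fun h => h.resolve_left fun e => hn (e ▸ hB)⟩
        · exact ⟨Bp, fun B hB => (hblocks B hB).imp id fun h => h.resolve_right fun e => hn (e ▸ hB)⟩
      refine le_trans (Nat.card_le_card_of_injective
        (fun B : {B : Set (IrrCharacter G2) // IsPBlock M B} => decide (B.1 = {st})) fun a b h => ?_)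
        (le_of_eq (by rw [Nat.card_eq_fintype_card, Fintype.card_bool]))
      simp only [decide_eq_decide] at h
      rcases hX a.1 a.2 with ha | ha
      · exact Subtype.ext (ha.trans (h.1 ha).symm)
      · rcases hX b.1 b.2 with hb | hb
        · exact Subtype.ext ((h.2 hb).trans hb.symm)
        · exact Subtype.ext (ha.trans hb.symm)
    omega
  refine ⟨fun B => ⟨fun hB => ?_, ?_⟩, hcard, fun P => ⟨?_, ?_⟩⟩
  · rw [← hSset]; exact hblocks B hB
  · rintro (rfl | rfl | rfl)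
    · rw [← hSset]; exact hS.1
    · exact hall.1
    · exact hall.2
  · refine CB.isDefectGroup_sylow hH hM hall.1 (fun h => ?_) P
    obtain ⟨χ, hχ⟩ := isPBlock_nonempty hM hall.1
    rw [isPBlock_eq_blockOf hM hall.1 hχ] at h
    exact hpos χ hχ.2 h
  · refine CB.isDefectGroup_sylow hH hM hall.2 (fun h => ?_) P
    obtain ⟨χ, hχ⟩ := isPBlock_nonempty hM hall.2
    rw [isPBlock_eq_blockOf hM hall.2 hχ] at h
    refine hpos χ (fun hχq => ?_) h
    have h2 := (hval χ).2.1 hχ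
    rw [hzero χ hχq, hstp] at h2
    norm_num at h2

end Cfsg.Agent.H54.SLB2
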