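import Cfsg.Agent.Chevalley.All
import Cfsg.Prelude.Def_ChevAutomorphisms

/-!
A Chevalley group is generated by its monomial subgroup and one (or two) fundamental root subgroups.
-/

set_option autoImplicit false

namespace Cfsg.Agent.H54.ShortGen

open Cfsg.Lie Cfsg.Lie.ChevalleyDatum Cfsg.Agent.Chevalley

/-- `w_i w_j` moves the fundamental root `i` to the fundamental root `j`. -/
def edgeOK (D : ChevalleyDatum) (i j : ℕ) : Bool :=
  D.reflectRoot i (D.reflectRoot j (D.simple i)) == D.simple j

/-- A commutator of conjugates of `X_i` fills `X_j`, provided the coefficient is invertible. -/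
def comStep (D : ChevalleyDatum) (ok : ℤ → Bool) (i j : ℕ) : Bool :=
  let r := D.reflectRoot j (D.simple i)
  let s := D.neg (D.simple i)
  decide (s ≠ r) && decide (s ≠ D.neg r) &&
    match D.commTerms r s with
    | [(u, c, 1, 1)] => u == D.simple j && ok c
    | _ => false

/-- One step of the closure. -/
def grow (D : ChevalleyDatum) (ok : ℤ → Bool) (S : List ℕ) : List ℕ :=
  (List.range D.rank).filter fun j => S.contains j || S.any fun i => edgeOK D i j || comStep D ok i j

/-- The closure. -/
def reach (D : ChevalleyDatum) (ok : ℤ → Bool) : ℕ → List ℕ → List ℕ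
  | 0, S => S
  | n + 1, S => reach D ok n (grow D ok S)

/-- All fundamental roots are reached from `S`. -/
def covers (D : ChevalleyDatum) (ok : ℤ → Bool) (S : List ℕ) : Bool :=
  (List.range D.rank).all fun j => (reach D ok (D.rank - 1) S).contains j

variable {D : ChevalleyDatum} (C : Cert D) (F : Type*) [Field F] {M : Subgroup (GL D.Idx F)}

include C in
lemma nS_mem_monomial {i : ℕ} (hi : i < D.rank) : C.nS F i ∈ D.monomialSubgroup F :=
  Subgroup.mem_sup_right (Subgroup.subset_closure ⟨D.simple i, (C.simple_lt i hi).1, C.coe_nU F _ 1⟩)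

/-- Membership of a root subgroup is invariant under reflections. -/
lemma conj_mem (hN : D.monomialSubgroup F ≤ M) {i r : ℕ} (hi : i < D.rank) (hr : r < D.nroots)
    (h : ∀ t, C.xU F r t ∈ M) (t : F) : C.xU F (C.w i r) t ∈ M := by
  have hn := hN (nS_mem_monomial C F hi)
  have := M.mul_mem (M.mul_mem hn (h ((C.sg i r : F) * t))) (M.inv_mem hn)
  rw [C.nS_conj_xU F hi hr, ← mul_assoc] at this
  rcases C.sg_pm i r with e | e <;> simpa [e] using this

/-- The root subgroup of the fundamental root `j` lies in `M`. -/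
def Has (M : Subgroup (GL D.Idx F)) (j : ℕ) : Prop := j < D.rank ∧ ∀ t, C.xU F (D.simple j) t ∈ M

lemma edge_sound (hN : D.monomialSubgroup F ≤ M) {i j : ℕ} (hj : j < D.rank) (hi : Has C F M i)
    (h : edgeOK D i j = true) : Has C F M j := by
  obtain ⟨hir, hi⟩ := hi
  have hp := (C.simple_lt i hir).1
  rw [edgeOK, beq_iff_eq, C.w_reflect j hj _ hp, C.w_reflect i hir _ (C.w_lt j hj _ hp).1] at h
  refine ⟨hj, fun t => ?_⟩
  rw [← h]
  exact conj_mem C F hN hir (C.w_lt j hj _ hp).1 (conj_mem C F hN hj hp hi) t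

lemma com_sound (hN : D.monomialSubgroup F ≤ M) {ok : ℤ → Bool} (hok : ∀ c, ok c = true → (c : F) ≠ 0)
    {i j : ℕ} (hj : j < D.rank) (hi : Has C F M i) (h : comStep D ok i j = true) : Has C F M j := by
  obtain ⟨hir, hi⟩ := hi
  have hp := (C.simple_lt i hir).1
  set r := D.reflectRoot j (D.simple i) with hrdef
  set s := D.neg (D.simple i) with hsdef
  have hr : r < D.nroots := by rw [hrdef, C.w_reflect j hj _ hp]; exact (C.w_lt j hj _ hp).1
  have hs : s < D.nroots := C.neg_lt hp
  have hrM : ∀ t, C.xU F r t ∈ M := fun t => by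
    rw [hrdef, C.w_reflect j hj _ hp]; exact conj_mem C F hN hj hp hi t
  have hsM : ∀ t, C.xU F s t ∈ M := fun t => by
    have := conj_mem C F hN hir hp hi t
    rwa [← C.w_reflect i hir _ hp, show D.reflectRoot i (D.simple i) = s by simp [reflectRoot, hsdef]] at this
  rw [comStep] at h
  simp only [← hrdef, ← hsdef, Bool.and_eq_true, decide_eq_true_eq] at h
  obtain ⟨⟨h1, h2⟩, h3⟩ := h
  refine ⟨hj, fun t => ?_⟩
  rcases hT : D.commTerms r s with _ | ⟨⟨u, c, a, b⟩, _ | ⟨d, l⟩⟩
  · simp [hT] at h3
  · rw [hT] at h3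
    by_cases hab : a = 1 ∧ b = 1
    · obtain ⟨rfl, rfl⟩ := hab
      simp only [Bool.and_eq_true, beq_iff_eq] at h3
      obtain ⟨rfl, hc⟩ := h3
      have hc0 := hok c hc
      have hw : D.commWord F r s (-(t / c)) 1 = [(D.simple j, t)] := by
        simp [commWord, hT, mul_div_cancel₀ _ hc0]
      have hx := C.xU_comm F hr hs h1 h2 (-(t / c)) 1
      rw [hw, C.wU_cons, C.wU_nil, mul_one, ← inv_mul_eq_iff_eq_mul] at hx
      rw [← hx]
      exact M.mul_mem (M.inv_mem (M.mul_mem (hrM _) (hsM _))) (M.mul_mem (hsM _) (hrM _))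
    · exfalso
      rcases a with _ | _ | a <;> rcases b with _ | _ | b <;> simp_all
  · simp [hT] at h3

lemma reach_sound (hN : D.monomialSubgroup F ≤ M) {ok : ℤ → Bool} (hok : ∀ c, ok c = true → (c : F) ≠ 0) :
    ∀ (n : ℕ) (S : List ℕ), (∀ i ∈ S, Has C F M i) → ∀ j ∈ reach D ok n S, Has C F M j
  | 0, S, h => h
  | n + 1, S, h => reach_sound hN hok n (grow D ok S) fun j hj => by
    simp only [grow, List.mem_filter, List.mem_range, Bool.or_eq_true, List.contains_iff_mem,
      List.any_eq_true] at hj
    obtain ⟨hjr, hj | ⟨i, hiS, hij | hij⟩⟩ := hj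
    · exact h j hj
    · exact edge_sound C F hN hjr (h i hiS) hij
    · exact com_sound C F hN hok hjr (h i hiS) hij

include C in
/-- The Chevalley group is generated by `N` and root subgroups covering the fundamental roots. -/
theorem group_le (hN : D.monomialSubgroup F ≤ M) {ok : ℤ → Bool} (hok : ∀ c, ok c = true → (c : F) ≠ 0)
    {S : List ℕ} (hS : ∀ i ∈ S, i < D.rank ∧ D.rootSubgroup F (D.simple i) ≤ M) (hcov : covers D ok S = true) :
    D.group F ≤ M := by
  have hsimple : ∀ j < D.rank, ∀ t, C.xU F (D.simple j) t ∈ M := fun j hj => by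
    have hm : j ∈ reach D ok (D.rank - 1) S := by
      have := List.all_eq_true.1 hcov j (List.mem_range.2 hj)
      simpa using this
    exact (reach_sound C F hN hok _ S (fun i hi => ⟨(hS i hi).1, fun t =>
      (hS i hi).2 ((C.mem_rootSubgroup F).2 ⟨t, rfl⟩)⟩) j hm).2
  have hpos : ∀ r, r < D.nroots → D.nroots / 2 ≤ r →
      (∀ t, C.xU F r t ∈ M) ∧ ∀ t, C.xU F (D.neg r) t ∈ M := by
    intro r
    induction r using Nat.strong_induction_on with
    | _ r ih =>
      intro hr hhalf
      obtain ⟨i, hi, h | ⟨h1, h2⟩⟩ := C.w_down r hr hhalf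
      · subst h
        refine ⟨hsimple i hi, fun t => ?_⟩
        have := conj_mem C F hN hi hr (hsimple i hi) t
        rwa [← C.w_reflect i hi _ hr, show D.reflectRoot i (D.simple i) = D.neg (D.simple i) by
          simp [reflectRoot]] at this
      · obtain ⟨hwl, hww⟩ := C.w_lt i hi r hr
        obtain ⟨hP, hNg⟩ := ih _ h2 hwl h1
        refine ⟨fun t => ?_, fun t => ?_⟩
        · have := conj_mem C F hN hi hwl hP t
          rwa [hww] at this
        · have := conj_mem C F hN hi (C.neg_lt hwl) hNg t
          rwa [C.w_neg hi hwl, hww] at this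
  rw [C.group_eq, Subgroup.closure_le]
  rintro _ ⟨r, t, hr, rfl⟩
  by_cases hh : D.nroots / 2 ≤ r
  · exact (hpos r hr hh).1 t
  · have h2 := C.two_half
    have := (hpos (D.neg r) (C.neg_lt hr) (by rw [C.neg_eq r hr]; omega)).2 t
    rwa [C.neg_neg hr] at this

/-- Coefficients allowed for the datum. -/
def okCoeff (k : ℕ) (c : ℤ) : Bool := c.natAbs == k

lemma okCoeff_sound {k : ℕ} (hk : k.Prime) (hchar : ringChar F ≠ k) (c : ℤ) (h : okCoeff k c = true) :
    (c : F) ≠ 0 := by
  rw [okCoeff, beq_iff_eq] at h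
  intro hc
  have hd : (ringChar F : ℤ) ∣ c := (CharP.intCast_eq_zero_iff F (ringChar F) c).1 hc
  rw [Int.natCast_dvd, h] at hd
  rcases (Nat.dvd_prime hk).1 hd with h1 | h1
  · exact CharP.ringChar_ne_one h1
  · exact hchar h1

/-- Every short fundamental root covers, given the coefficient. -/
def chkShort (D : ChevalleyDatum) (ok : ℤ → Bool) : Bool :=
  (List.range D.rank).all fun i => covers D ok [i] || D.isLong (D.simple i)

/-- Every pair short/long covers. -/
def chkPair (D : ChevalleyDatum) : Bool :=
  (List.range D.rank).all fun i => (List.range D.rank).all fun j =>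
    D.isLong (D.simple i) || !D.isLong (D.simple j) || covers D (fun _ => false) [i, j]

set_option maxRecDepth 100000

lemma short_G2 : chkShort chevG2 (okCoeff 3) = true := by decide +kernel
lemma short_B2 : chkShort chevB2 (okCoeff 2) = true := by decide +kernel
lemma short_F4 : chkShort chevF4 (okCoeff 2) = true := by decide +kernel
lemma short_D4 : chkShort chevD4 (fun _ => false) = true := by decide +kernel
lemma short_E6 : chkShort chevE6 (fun _ => false) = true := by decide +kernel
lemma short_E7 : chkShort chevE7 (fun _ => false) = true := by decide +kernel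
lemma short_E8 : chkShort chevE8 (fun _ => false) = true := by decide +kernel
lemma pair_G2 : chkPair chevG2 = true := by decide +kernel
lemma pair_B2 : chkPair chevB2 = true := by decide +kernel
lemma pair_F4 : chkPair chevF4 = true := by decide +kernel

end Cfsg.Agent.H54.ShortGen
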