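import Mathlib
import Cfsg.Agent.H54.FlipWeights

/-!
Faithful representations of the symplectic group in the defining characteristic have degree at least `2 n`.
-/

set_option autoImplicit false

namespace Cfsg.Agent.H54

open Finset Matrix Module
open scoped MatrixGroups

variable {n : ℕ} {F : Type*} [Field F]

/-- A two by two matrix of determinant one in each coordinate, as a symplectic matrix. -/
def spDiag (a : Fin n → Matrix.SpecialLinearGroup (Fin 2) F) : Matrix.symplecticGroup (Fin n) F :=
  ⟨Matrix.fromBlocks (Matrix.diagonal fun i => a i 0 0) (Matrix.diagonal fun i => a i 0 1)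
    (Matrix.diagonal fun i => a i 1 0) (Matrix.diagonal fun i => a i 1 1), by
    rw [SymplecticGroup.mem_iff, Matrix.J, Matrix.fromBlocks_transpose, Matrix.fromBlocks_multiply,
      Matrix.fromBlocks_multiply, Matrix.fromBlocks_inj]
    have hdet : ∀ i, a i 0 0 * a i 1 1 - a i 0 1 * a i 1 0 = 1 := fun i => by
      have := (a i).2
      rw [Matrix.det_fin_two] at this
      exact this
    simp only [Matrix.diagonal_transpose, Matrix.mul_zero, Matrix.mul_one, zero_add, add_zero, Matrix.mul_neg,
      Matrix.neg_mul, Matrix.diagonal_mul_diagonal]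
    refine ⟨?_, ?_, ?_, ?_⟩ <;> ext i j <;> by_cases hij : i = j <;>
      simp [hij, mul_comm, Matrix.one_apply] <;> grind⟩

lemma spDiag_mul (a b : Fin n → Matrix.SpecialLinearGroup (Fin 2) F) :
    spDiag (a * b) = spDiag a * spDiag b := by
  apply Subtype.ext
  show _ = Matrix.fromBlocks _ _ _ _ * Matrix.fromBlocks _ _ _ _
  rw [Matrix.fromBlocks_multiply]
  simp only [Matrix.diagonal_mul_diagonal, Matrix.diagonal_add]
  unfold spDiag
  congr 1 <;> congr 1 <;> funext i <;> simp [Matrix.mul_apply, Fin.sum_univ_two]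

/-- `spDiag` as a homomorphism. -/
def spDiagHom : (Fin n → Matrix.SpecialLinearGroup (Fin 2) F) →* Matrix.symplecticGroup (Fin n) F where
  toFun := spDiag
  map_one' := by
    apply Subtype.ext
    show Matrix.fromBlocks _ _ _ _ = (1 : Matrix _ _ F)
    simp [Matrix.fromBlocks_one]
  map_mul' := spDiag_mul

lemma spDiagHom_injective : Function.Injective (spDiagHom (n := n) (F := F)) := by
  intro a b h
  have h1 := congrArg Subtype.val h
  obtain ⟨e1, e2, e3, e4⟩ := Matrix.fromBlocks_inj.1 h1
  have f1 := Matrix.diagonal_injective e1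
  have f2 := Matrix.diagonal_injective e2
  have f3 := Matrix.diagonal_injective e3
  have f4 := Matrix.diagonal_injective e4
  funext k
  ext i j
  fin_cases i <;> fin_cases j
  · exact congrFun f1 k
  · exact congrFun f2 k
  · exact congrFun f3 k
  · exact congrFun f4 k

/-- An element of `SL_2` of order prime to the characteristic, not squaring to one, and one inverting it. -/
lemma exists_inverted [Fintype F] :
    ∃ (t w : Matrix.SpecialLinearGroup (Fin 2) F) (m : ℕ), (m : F) ≠ 0 ∧ t ^ m = 1 ∧ t ^ 2 ≠ 1 ∧ w * t = t⁻¹ * w := by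
  classical
  by_cases h4 : 4 ≤ Fintype.card F
  · obtain ⟨a, ha0, ha⟩ : ∃ a : F, a ≠ 0 ∧ a ^ 2 ≠ 1 := by
      by_contra h
      push Not at h
      have hsub : (Finset.univ : Finset F) ⊆ {0, 1, -1} := by
        intro x _
        simp only [mem_insert, mem_singleton]
        by_cases hx : x = 0
        · exact Or.inl hx
        · exact Or.inr (sq_eq_one_iff.1 (h x hx))
      have := (Finset.card_le_card hsub).trans Finset.card_le_three
      rw [Finset.card_univ] at this
      omega
    let t : Matrix.SpecialLinearGroup (Fin 2) F := ⟨!![a, 0; 0, a⁻¹], by simp [ha0]⟩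
    let w : Matrix.SpecialLinearGroup (Fin 2) F := ⟨!![0, 1; -1, 0], by simp⟩
    have hpow : ∀ k : ℕ, (t ^ k : Matrix.SpecialLinearGroup (Fin 2) F).1 = !![a ^ k, 0; 0, a⁻¹ ^ k] := by
      intro k
      induction k with
      | zero => simp [Matrix.one_fin_two]
      | succ k ih =>
        rw [pow_succ, Matrix.SpecialLinearGroup.coe_mul, ih]
        show _ * !![a, 0; 0, a⁻¹] = _
        rw [Matrix.mul_fin_two]; simp [pow_succ]
    refine ⟨t, w, Fintype.card F - 1, ?_, ?_, ?_, ?_⟩
    · rw [Nat.cast_sub Fintype.card_pos, Nat.cast_card_eq_zero, Nat.cast_one, zero_sub]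
      exact neg_ne_zero.2 one_ne_zero
    · apply Subtype.ext
      rw [hpow, FiniteField.pow_card_sub_one_eq_one a ha0,
        FiniteField.pow_card_sub_one_eq_one a⁻¹ (inv_ne_zero ha0)]
      simp [Matrix.one_fin_two]
    · intro h
      have := congrArg (fun x : Matrix.SpecialLinearGroup (Fin 2) F => x.1 0 0) h
      simp only [hpow] at this
      exact ha (by simpa using this)
    · apply Subtype.ext
      rw [Matrix.SpecialLinearGroup.coe_mul, Matrix.SpecialLinearGroup.coe_mul, Matrix.SpecialLinearGroup.coe_inv]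
      show !![0, 1; -1, 0] * !![a, 0; 0, a⁻¹] = Matrix.adjugate !![a, 0; 0, a⁻¹] * !![0, 1; -1, 0]
      rw [Matrix.adjugate_fin_two_of, Matrix.mul_fin_two, Matrix.mul_fin_two]
      simp
  · have h1 := Fintype.one_lt_card (α := F)
    rcases (show Fintype.card F = 2 ∨ Fintype.card F = 3 by omega) with hc | hc
    · have e2 : (2 : F) = 0 := by
        have := Nat.cast_card_eq_zero F; rw [hc] at this; exact_mod_cast this
      let t : Matrix.SpecialLinearGroup (Fin 2) F := ⟨!![0, -1; 1, 1], by simp⟩
      let w : Matrix.SpecialLinearGroup (Fin 2) F := ⟨!![0, 1; 1, 0], by simp; linear_combination -e2⟩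
      have h2 : (t ^ 2).1 = !![-1, -1; 1, 0] := by
        rw [pow_two, Matrix.SpecialLinearGroup.coe_mul]
        show !![0, -1; 1, 1] * !![0, -1; 1, 1] = _
        rw [Matrix.mul_fin_two]; simp
      refine ⟨t, w, 3, ?_, ?_, ?_, ?_⟩
      · push_cast
        intro h
        exact one_ne_zero (by linear_combination h - e2)
      · apply Subtype.ext
        rw [pow_succ, Matrix.SpecialLinearGroup.coe_mul, h2, Matrix.SpecialLinearGroup.coe_one, Matrix.one_fin_two]
        show !![-1, -1; 1, 0] * !![0, -1; 1, 1] = _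
        rw [Matrix.mul_fin_two]
        simp
        grind
      · intro h
        have := congrArg (fun x : Matrix.SpecialLinearGroup (Fin 2) F => x.1 1 0) h
        simp [h2] at this
      · apply Subtype.ext
        rw [Matrix.SpecialLinearGroup.coe_mul, Matrix.SpecialLinearGroup.coe_mul, Matrix.SpecialLinearGroup.coe_inv]
        show !![0, 1; 1, 0] * !![0, -1; 1, 1] = Matrix.adjugate !![0, -1; 1, 1] * !![0, 1; 1, 0]
        rw [Matrix.adjugate_fin_two_of, Matrix.mul_fin_two, Matrix.mul_fin_two]
        simp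
        all_goals grind
    · have e3 : (3 : F) = 0 := by
        have := Nat.cast_card_eq_zero F; rw [hc] at this; exact_mod_cast this
      let t : Matrix.SpecialLinearGroup (Fin 2) F := ⟨!![0, -1; 1, 0], by simp⟩
      let w : Matrix.SpecialLinearGroup (Fin 2) F := ⟨!![1, 1; 1, -1], by simp; linear_combination -e3⟩
      have h2 : (t ^ 2).1 = !![-1, 0; 0, -1] := by
        rw [pow_two, Matrix.SpecialLinearGroup.coe_mul]
        show !![0, -1; 1, 0] * !![0, -1; 1, 0] = _
        rw [Matrix.mul_fin_two]; simp
      refine ⟨t, w, 4, ?_, ?_, ?_, ?_⟩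
      · push_cast
        intro h
        exact one_ne_zero (by linear_combination h - e3)
      · apply Subtype.ext
        rw [show 4 = 2 + 2 from rfl, pow_add, Matrix.SpecialLinearGroup.coe_mul, h2,
          Matrix.SpecialLinearGroup.coe_one, Matrix.one_fin_two, Matrix.mul_fin_two]
        simp
      · intro h
        have := congrArg (fun x : Matrix.SpecialLinearGroup (Fin 2) F => x.1 0 0) h
        simp [h2] at this
        exact one_ne_zero (α := F) (by linear_combination e3 + this)
      · apply Subtype.ext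
        rw [Matrix.SpecialLinearGroup.coe_mul, Matrix.SpecialLinearGroup.coe_mul, Matrix.SpecialLinearGroup.coe_inv]
        show !![1, 1; 1, -1] * !![0, -1; 1, 0] = Matrix.adjugate !![0, -1; 1, 0] * !![1, 1; 1, -1]
        rw [Matrix.adjugate_fin_two_of, Matrix.mul_fin_two, Matrix.mul_fin_two]
        simp

theorem two_mul_le_of_injective [Fintype F] {d : ℕ}
    (ρ : ↥(Matrix.symplecticGroup (Fin n) F) →* GL (Fin d) F) (hρ : Function.Injective ρ) : 2 * n ≤ d := by
  classical
  obtain ⟨t, w, m, hm, htm, ht2, hwt⟩ := exists_inverted (F := F)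
  let K := AlgebraicClosure F
  let ι := algebraMap F K
  let φ : Matrix.symplecticGroup (Fin n) F →* Module.End K (Fin d → K) :=
    (Matrix.toLinAlgEquiv' (R := K) (n := Fin d)).toAlgHom.toRingHom.toMonoidHom.comp
      ((ι.mapMatrix).toMonoidHom.comp ((Units.coeHom _).comp ρ))
  have hφ : Function.Injective φ := (Matrix.toLinAlgEquiv'.injective).comp
    ((Matrix.map_injective ι.injective).comp (Units.val_injective.comp hρ))
  let T : Fin n → (Fin n → Matrix.SpecialLinearGroup (Fin 2) F) := fun i => Pi.mulSingle i t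
  let W : Fin n → (Fin n → Matrix.SpecialLinearGroup (Fin 2) F) := fun i => Pi.mulSingle i w
  have hTT : ∀ i j, Commute (T i) (T j) := fun i j => by
    rcases eq_or_ne i j with rfl | h
    · exact Commute.refl _
    · exact Pi.mulSingle_commute (f := fun _ : Fin n => Matrix.SpecialLinearGroup (Fin 2) F) h t t
  let A : Fin n → Module.End K (Fin d → K) := fun i => φ (spDiagHom (T i))
  have hA : ∀ i j, Commute (A i) (A j) := fun i j => ((hTT i j).map spDiagHom).map φ
  have hTm : ∀ i, T i ^ m = 1 := fun i => by rw [← Pi.mulSingle_pow, htm, Pi.mulSingle_one]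
  let X : Set (Fin n → K) := {χ | ∃ v : Fin d → K, v ≠ 0 ∧ ∀ i, A i v = χ i • v}
  have hbound : ∀ s : Finset (Fin n → K), (↑s ⊆ X) → s.card ≤ d := fun s hs => by
    have := card_eigencharacters_le A s (fun χ hχ => hs hχ)
    simpa using this
  have hfin : X.Finite := by
    by_contra hinf
    obtain ⟨s, hs, hcard⟩ := Set.Infinite.exists_subset_card_eq hinf (d + 1)
    have := hbound s hs
    omega
  have hne : ∀ i, ∀ χ ∈ X, χ i ≠ 0 := by
    rintro i χ ⟨v, hv, hχ⟩ h0
    have h1 : A i v = 0 := by rw [hχ i, h0, zero_smul]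
    have h2 : φ (spDiagHom (T i)⁻¹) (A i v) = v := by
      show (φ (spDiagHom (T i)⁻¹) * φ (spDiagHom (T i))) v = v
      rw [← map_mul, ← map_mul, inv_mul_cancel, map_one, map_one]; rfl
    rw [h1, map_zero] at h2
    exact hv h2.symm
  have hflip : ∀ i ∈ (univ : Finset (Fin n)), ∀ χ ∈ hfin.toFinset, Function.update χ i (χ i)⁻¹ ∈ hfin.toFinset := by
    intro i _ χ hχ
    rw [Set.Finite.mem_toFinset] at hχ ⊢
    have hi := hne i χ hχ
    obtain ⟨v, hv, hχv⟩ := hχ
    refine ⟨φ (spDiagHom (W i)) v, fun h => hv ?_, fun j => ?_⟩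
    · have h2 : φ (spDiagHom (W i)⁻¹) (φ (spDiagHom (W i)) v) = v := by
        show (φ (spDiagHom (W i)⁻¹) * φ (spDiagHom (W i))) v = v
        rw [← map_mul, ← map_mul, inv_mul_cancel, map_one, map_one]; rfl
      rw [h, map_zero] at h2
      exact h2.symm
    · show (φ (spDiagHom (T j)) * φ (spDiagHom (W i))) v = _
      rw [← map_mul, ← map_mul]
      rcases eq_or_ne j i with rfl | hji
      · have e : T j * W j = W j * (T j)⁻¹ := by
          simp only [T, W, ← Pi.mulSingle_inv, ← Pi.mulSingle_mul]
          congr 1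
          calc t * w = t * (w * t) * t⁻¹ := by group
            _ = t * (t⁻¹ * w) * t⁻¹ := by rw [hwt]
            _ = w * t⁻¹ := by group
        rw [e, map_mul, map_mul, Module.End.mul_apply, Function.update_self, ← map_smul]
        congr 1
        have h3 : φ (spDiagHom (T j)⁻¹) (A j v) = v := by
          show (φ (spDiagHom (T j)⁻¹) * φ (spDiagHom (T j))) v = v
          rw [← map_mul, ← map_mul, inv_mul_cancel, map_one, map_one]; rfl
        rw [hχv j, map_smul] at h3
        exact (inv_smul_eq_iff₀ hi).2 h3.symm |>.symm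
      · have e : T j * W i = W i * T j := (Pi.mulSingle_commute (f := fun _ : Fin n => Matrix.SpecialLinearGroup (Fin 2) F) hji t w).eq
        rw [e, map_mul, map_mul, Module.End.mul_apply, Function.update_of_ne hji, ← map_smul]
        exact congrArg _ (hχv j)
  have hmove : ∀ i ∈ (univ : Finset (Fin n)), ∃ χ ∈ hfin.toFinset, χ i ≠ (χ i)⁻¹ := by
    intro i _
    have hB : A i ^ 2 ≠ 1 := by
      intro h
      apply ht2
      have h1 : T i ^ 2 = 1 := spDiagHom_injective (hφ (by rw [map_pow, map_pow, map_one, map_one]; exact h))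
      rw [← Pi.mulSingle_pow] at h1
      have h5 := congrFun h1 i
      rwa [Pi.mulSingle_eq_same] at h5
    have hBm : (A i ^ 2) ^ m = 1 := by
      have h6 : A i ^ m = 1 := by
        show φ (spDiagHom (T i)) ^ m = 1
        rw [← map_pow, ← map_pow, hTm, map_one, map_one]
      rw [← pow_mul, mul_comm, pow_mul, h6, one_pow]
    have hmK : (m : K) ≠ 0 := by
      rw [← map_natCast ι]; exact fun h => hm (ι.injective (by rw [h, map_zero]))
    obtain ⟨b, hb1, hb⟩ := exists_eigenvalue_ne_one (A i ^ 2) hmK hBm hB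
    have hinv : ∀ j, ∀ v ∈ (A i ^ 2).eigenspace b, A j v ∈ (A i ^ 2).eigenspace b := by
      intro j v hv
      rw [Module.End.mem_eigenspace_iff] at hv ⊢
      have := LinearMap.congr_fun ((hA i j).pow_left 2).eq v
      simp only [Module.End.mul_apply] at this
      rw [this, hv, map_smul]
    obtain ⟨U, hUW, hU, -, hUs⟩ := exists_common_eigenvector A hA univ _ hb hinv
    obtain ⟨v, hvU, hv⟩ := (Submodule.ne_bot_iff U).1 hU
    choose c hc using fun j => hUs j (mem_univ j)
    refine ⟨c, (Set.Finite.mem_toFinset _).2 ⟨v, hv, fun j => hc j v hvU⟩, fun h => ?_⟩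
    have h1 := Module.End.mem_eigenspace_iff.1 (hUW hvU)
    rw [pow_two, Module.End.mul_apply, hc i v hvU, map_smul, hc i v hvU, smul_smul] at h1
    have h2 : c i * c i = b := smul_left_injective K hv h1
    have hne' := hne i c ⟨v, hv, fun j => hc j v hvU⟩
    apply hb1
    rw [← h2]
    nth_rewrite 2 [h]
    exact mul_inv_cancel₀ hne'
  have h1 := card_flip_closed (univ : Finset (Fin n)) hfin.toFinset hflip hmove
  have h2 := hbound hfin.toFinset (by rw [Set.Finite.coe_toFinset])
  simpa using h1.trans h2

end Cfsg.Agent.H54
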