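import Mathlib

/-!
Averaging operators over the left `U`-orbits in `G ⧸ U`, and coset sums of functions behaving like reductions of
idempotents of defect zero, for a `p`-subgroup `U`.
-/

set_option autoImplicit false
set_option linter.unusedSectionVars false
set_option linter.style.haveILetI false

open scoped Classical

namespace Cfsg.Agent.H54.SDZ

variable {G : Type*} [Group G] [Fintype G] (U : Subgroup G) {k : Type*} [Field k]

/-- Invariance under `U` on both sides. -/
structure BI (f : G → k) : Prop where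
  left : ∀ u ∈ U, ∀ x, f (u * x) = f x
  right : ∀ u ∈ U, ∀ x, f (x * u) = f x

/-- The cosets in `U g U`. -/
noncomputable def orb (g : G) : Finset (G ⧸ U) :=
  Finset.image (fun u : ↥U => (((u : G) * g : G) : G ⧸ U)) Finset.univ

/-- The sum over the cosets in `U g U`. -/
noncomputable def T (g : G) (f : G → k) (y : G) : k := ∑ q ∈ orb U g, f (y * q.out)

variable {U}

theorem mem_orb {g : G} {q : G ⧸ U} : q ∈ orb U g ↔ ∃ u ∈ U, ((u * g : G) : G ⧸ U) = q := by
  rw [orb, Finset.mem_image]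
  exact ⟨fun ⟨u, _, e⟩ => ⟨u, u.2, e⟩, fun ⟨u, hu, e⟩ => ⟨⟨u, hu⟩, Finset.mem_univ _, e⟩⟩

theorem out_mem (x : G) : ∃ v ∈ U, (x : G ⧸ U).out = x * v := by
  obtain ⟨v, hv⟩ := QuotientGroup.mk_out_eq_mul U x
  exact ⟨v, v.2, hv⟩

theorem f_out {f : G → k} (hf : BI U f) (y x : G) : f (y * (x : G ⧸ U).out) = f (y * x) := by
  obtain ⟨v, hv, e⟩ := out_mem (U := U) x
  rw [e, ← mul_assoc, hf.right v hv]

theorem self_mem_orb (g : G) : (g : G ⧸ U) ∈ orb U g := mem_orb.2 ⟨1, one_mem _, by rw [one_mul]⟩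

theorem smul_mem_orb {g v : G} (hv : v ∈ U) {q : G ⧸ U} (hq : q ∈ orb U g) : v • q ∈ orb U g := by
  obtain ⟨u, hu, rfl⟩ := mem_orb.1 hq
  exact mem_orb.2 ⟨v * u, mul_mem hv hu, by rw [MulAction.Quotient.smul_coe, smul_eq_mul, mul_assoc]⟩

theorem orb_congr {g : G} {q : G ⧸ U} (hq : q ∈ orb U g) : orb U q.out = orb U g := by
  obtain ⟨u, hu, rfl⟩ := mem_orb.1 hq
  obtain ⟨v, hv, e⟩ := out_mem (U := U) (u * g)
  rw [e]
  ext r
  rw [mem_orb, mem_orb]
  constructor
  · rintro ⟨w, hw, rfl⟩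
    refine ⟨w * u, mul_mem hw hu, ?_⟩
    rw [QuotientGroup.eq, show (w * u * g)⁻¹ * (w * (u * g * v)) = v by group]
    exact hv
  · rintro ⟨w, hw, rfl⟩
    refine ⟨w * u⁻¹, mul_mem hw (inv_mem hu), ?_⟩
    rw [QuotientGroup.eq, show (w * u⁻¹ * (u * g * v))⁻¹ * (w * g) = v⁻¹ by group]
    exact inv_mem hv

theorem T_left {f : G → k} (hf : BI U f) (g : G) {u : G} (hu : u ∈ U) (y : G) :
    T U g f (u * y) = T U g f y :=
  Finset.sum_congr rfl fun q _ => by rw [mul_assoc, hf.left u hu]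

theorem T_right {f : G → k} (hf : BI U f) (g : G) {v : G} (hv : v ∈ U) (y : G) :
    T U g f (y * v) = T U g f y := by
  refine Finset.sum_nbij' (fun q => v • q) (fun q => v⁻¹ • q) (fun q hq => smul_mem_orb hv hq)
    (fun q hq => smul_mem_orb (inv_mem hv) hq) (fun q _ => inv_smul_smul v q) (fun q _ => smul_inv_smul v q)
    fun q _ => ?_
  induction q using QuotientGroup.induction_on with
  | H x => rw [MulAction.Quotient.smul_coe, smul_eq_mul, f_out hf, f_out hf, mul_assoc]

theorem T_BI {f : G → k} (hf : BI U f) (g : G) : BI U (T U g f) :=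
  ⟨fun _ hu x => T_left hf g hu x, fun _ hu x => T_right hf g hu x⟩

theorem orb_mul_left {c g : G} (hc : ∀ u, u ∈ U ↔ c * u * c⁻¹ ∈ U) :
    orb U (c * g) = (orb U g).image fun q => c • q := by
  ext r
  rw [Finset.mem_image, mem_orb]
  constructor
  · rintro ⟨u, hu, rfl⟩
    refine ⟨((c⁻¹ * u * c * g : G) : G ⧸ U), mem_orb.2 ⟨c⁻¹ * u * c, ?_, rfl⟩, ?_⟩
    · refine (hc _).2 ?_
      rwa [show c * (c⁻¹ * u * c) * c⁻¹ = u by group]
    · rw [MulAction.Quotient.smul_coe, smul_eq_mul]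
      congr 1
      group
  · rintro ⟨q, hq, rfl⟩
    obtain ⟨u, hu, rfl⟩ := mem_orb.1 hq
    refine ⟨c * u * c⁻¹, (hc u).1 hu, ?_⟩
    rw [MulAction.Quotient.smul_coe, smul_eq_mul]
    congr 1
    group

theorem T_mul_left {f : G → k} (hf : BI U f) {c g : G} (hc : ∀ u, u ∈ U ↔ c * u * c⁻¹ ∈ U) (y : G) :
    T U (c * g) f y = T U g f (y * c) := by
  rw [T, orb_mul_left hc, Finset.sum_image fun a _ b _ h => smul_left_cancel c h]
  refine Finset.sum_congr rfl fun q _ => ?_
  induction q using QuotientGroup.induction_on with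
  | H x => rw [MulAction.Quotient.smul_coe, smul_eq_mul, f_out hf, f_out hf, mul_assoc]

theorem BI.mul_right {f : G → k} (hf : BI U f) {c : G} (hc : ∀ u, u ∈ U ↔ c * u * c⁻¹ ∈ U) :
    BI U fun x => f (x * c) := by
  refine ⟨fun u hu x => ?_, fun u hu x => ?_⟩
  · show f (u * x * c) = f (x * c)
    rw [mul_assoc, hf.left u hu]
  · show f (x * u * c) = f (x * c)
    rw [show x * u * c = x * c * (c⁻¹ * u * c) by group, hf.right]
    refine (hc _).2 ?_
    rwa [show c * (c⁻¹ * u * c) * c⁻¹ = u by group]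

theorem T_mul_right {f : G → k} (hf : BI U f) {c g : G} (hc : ∀ u, u ∈ U ↔ c * u * c⁻¹ ∈ U) :
    T U (g * c) f = T U g fun x => f (x * c) := by
  have hc' : ∀ u, u ∈ U ↔ c⁻¹ * u * c ∈ U := fun u => by
    rw [hc (c⁻¹ * u * c), show c * (c⁻¹ * u * c) * c⁻¹ = u by group]
  funext y
  refine (Finset.sum_bij' (fun q _ => ((q.out * c : G) : G ⧸ U)) (fun q _ => ((q.out * c⁻¹ : G) : G ⧸ U))
    (fun q hq => ?_) (fun q hq => ?_) (fun q _ => ?_) (fun q _ => ?_) fun q _ => ?_).symm
  · obtain ⟨u, hu, rfl⟩ := mem_orb.1 hq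
    obtain ⟨v, hv, e⟩ := out_mem (U := U) (u * g)
    refine mem_orb.2 ⟨u, hu, ?_⟩
    rw [QuotientGroup.eq, e, show (u * (g * c))⁻¹ * (u * g * v * c) = c⁻¹ * v * c by group]
    exact (hc' v).1 hv
  · obtain ⟨u, hu, rfl⟩ := mem_orb.1 hq
    obtain ⟨v, hv, e⟩ := out_mem (U := U) (u * (g * c))
    refine mem_orb.2 ⟨u, hu, ?_⟩
    rw [QuotientGroup.eq, e, show (u * g)⁻¹ * (u * (g * c) * v * c⁻¹) = c * v * c⁻¹ by group]
    exact (hc v).1 hv
  · induction q using QuotientGroup.induction_on with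
    | H x =>
      obtain ⟨v, hv, e⟩ := out_mem (U := U) ((x : G ⧸ U).out * c)
      obtain ⟨v', hv', e'⟩ := out_mem (U := U) x
      rw [QuotientGroup.eq, e, e', show (x * v' * c * v * c⁻¹)⁻¹ * x = (c * v * c⁻¹)⁻¹ * v'⁻¹ by group]
      exact mul_mem (inv_mem ((hc v).1 hv)) (inv_mem hv')
  · induction q using QuotientGroup.induction_on with
    | H x =>
      obtain ⟨v, hv, e⟩ := out_mem (U := U) ((x : G ⧸ U).out * c⁻¹)
      obtain ⟨v', hv', e'⟩ := out_mem (U := U) x
      rw [QuotientGroup.eq, e, e', show (x * v' * c⁻¹ * v * c)⁻¹ * x = (c⁻¹ * v * c)⁻¹ * v'⁻¹ by group]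
      exact mul_mem (inv_mem ((hc' v).1 hv)) (inv_mem hv')
  · show f (y * q.out * c) = f (y * ((q.out * c : G) : G ⧸ U).out)
    rw [f_out hf, mul_assoc]

theorem T_one {f : G → k} (hf : BI U f) (y : G) : T U 1 f y = f y := by
  have : orb U (1 : G) = {((1 : G) : G ⧸ U)} := by
    ext q
    rw [mem_orb, Finset.mem_singleton]
    constructor
    · rintro ⟨u, hu, rfl⟩
      rw [QuotientGroup.eq]
      simpa using inv_mem hu
    · rintro rfl
      exact ⟨1, one_mem _, by rw [one_mul]⟩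
  rw [T, this, Finset.sum_singleton, f_out hf, mul_one]

/-- Composition when the cardinalities multiply. -/
theorem T_comp {f : G → k} (hf : BI U f) {g g' : G}
    (hcard : (orb U (g * g')).card = (orb U g).card * (orb U g').card) :
    T U (g * g') f = T U g (T U g' f) := by
  let φ : (G ⧸ U) × (G ⧸ U) → G ⧸ U := fun p => p.1.out • p.2
  have hsub : orb U (g * g') ⊆ (orb U g ×ˢ orb U g').image φ := by
    intro q hq
    obtain ⟨u, hu, rfl⟩ := mem_orb.1 hq
    obtain ⟨v, hv, e⟩ := out_mem (U := U) (u * g)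
    refine Finset.mem_image.2 ⟨(((u * g : G) : G ⧸ U), ((v⁻¹ * g' : G) : G ⧸ U)),
      Finset.mem_product.2 ⟨mem_orb.2 ⟨u, hu, rfl⟩, mem_orb.2 ⟨v⁻¹, inv_mem hv, rfl⟩⟩, ?_⟩
    show (((u * g : G) : G ⧸ U)).out • _ = _
    rw [e, MulAction.Quotient.smul_coe, smul_eq_mul]
    congr 1
    group
  have hle : ((orb U g ×ˢ orb U g').image φ).card ≤ (orb U (g * g')).card := by
    rw [hcard, ← Finset.card_product]; exact Finset.card_image_le
  have heq := Finset.eq_of_subset_of_card_le hsub hle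
  have hinj : Set.InjOn φ (orb U g ×ˢ orb U g' : Finset _) :=
    Finset.card_image_iff.1 (by rw [← heq, hcard, Finset.card_product])
  funext y
  rw [T, heq, Finset.sum_image hinj, Finset.sum_product]
  refine Finset.sum_congr rfl fun q _ => Finset.sum_congr rfl fun q' _ => ?_
  induction q' using QuotientGroup.induction_on with
  | H x =>
    show f (y * (q.out • (x : G ⧸ U)).out) = f (y * q.out * (x : G ⧸ U).out)
    rw [MulAction.Quotient.smul_coe, smul_eq_mul, f_out hf, f_out hf, mul_assoc]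

theorem mk_mem_orb {g x : G} : (x : G ⧸ U) ∈ orb U g ↔ ∃ u ∈ U, ∃ v ∈ U, x = u * g * v := by
  rw [mem_orb]
  constructor
  · rintro ⟨u, hu, e⟩
    exact ⟨u, hu, _, QuotientGroup.eq.1 e, (mul_inv_cancel_left _ _).symm⟩
  · rintro ⟨u, hu, v, hv, rfl⟩
    refine ⟨u, hu, QuotientGroup.eq.2 ?_⟩
    rwa [inv_mul_cancel_left]

/-- `U g U` and `U g⁻¹ U` have the same number of cosets. -/
theorem card_orb_inv (g : G) : (orb U g⁻¹).card = (orb U g).card := by
  have h : ∀ g : G, Nat.card {x : G // (x : G ⧸ U) ∈ orb U g} = Nat.card U * (orb U g).card := by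
    intro g
    refine (Nat.card_congr (QuotientGroup.preimageMkEquivSubgroupProdSet U
      (↑(orb U g) : Set (G ⧸ U)))).trans ?_
    rw [Nat.card_prod]
    congr 1
    exact Nat.card_eq_finsetCard _
  have e : Nat.card {x : G // (x : G ⧸ U) ∈ orb U g⁻¹} = Nat.card {x : G // (x : G ⧸ U) ∈ orb U g} := by
    refine Nat.card_congr ((Equiv.inv G).subtypeEquiv fun x => ?_)
    rw [Equiv.inv_apply, mk_mem_orb, mk_mem_orb]
    constructor
    · rintro ⟨u, hu, v, hv, rfl⟩
      exact ⟨v⁻¹, inv_mem hv, u⁻¹, inv_mem hu, by group⟩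
    · rintro ⟨u, hu, v, hv, e⟩
      exact ⟨v⁻¹, inv_mem hv, u⁻¹, inv_mem hu, by rw [← inv_inv x, e]; group⟩
  rw [h, h] at e
  exact Nat.eq_of_mul_eq_mul_left Nat.card_pos e

theorem card_orb_mul_left {c g : G} (hc : ∀ u, u ∈ U ↔ c * u * c⁻¹ ∈ U) :
    (orb U (c * g)).card = (orb U g).card := by
  rw [orb_mul_left hc]
  exact Finset.card_image_of_injective _ (MulAction.injective c)

/-! ### Coset sums -/

/-- The conditions on the reduction of a central idempotent of defect zero. -/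
structure IsDZ (p : ℕ) (a : G → k) : Prop where
  conj : ∀ g h, a (h * g * h⁻¹) = a g
  van : ∀ g, p ∣ Nat.card (Subgroup.centralizer ({g} : Set G)) → a g = 0
  idem : ∀ y, ∑ x, a x * a (x⁻¹ * y) = a y
  ne : ∃ g, a g ≠ 0

variable (U) in
/-- Sums over the right cosets of `U`. -/
noncomputable def cs (a : G → k) (x : G) : k := ∑ u : ↥U, a (x * u)

variable (U) in
/-- The convolution at the level of coset sums. -/
noncomputable def conv (A B : G → k) (y : G) : k := ∑ q : G ⧸ U, A (y * q.out) * B q.out⁻¹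

variable {p : ℕ} [Fact p.Prime] [CharP k p] {a b : G → k}

theorem comm' (ha : IsDZ p a) (g h : G) : a (g * h) = a (h * g) := by
  rw [← ha.conj (h * g) g]; congr 1; group

theorem cs_BI (ha : IsDZ p a) : BI U (cs U a) := by
  refine ⟨fun u hu x => ?_, fun u hu x => ?_⟩
  · refine Fintype.sum_equiv (Equiv.mulRight (⟨u, hu⟩ : U)) _ _ fun v => ?_
    rw [mul_assoc, comm' ha u]
    simp [mul_assoc]
  · refine Fintype.sum_equiv (Equiv.mulLeft (⟨u, hu⟩ : U)) _ _ fun v => ?_
    simp [mul_assoc]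

theorem sum_coset (f : G → k) : ∑ x, f x = ∑ q : G ⧸ U, ∑ u : U, f (q.out * u) := by
  rw [← Fintype.sum_prod_type']
  refine (Fintype.sum_bijective (fun z : (G ⧸ U) × U => z.1.out * (z.2 : G)) ?_ _ _ fun z => rfl).symm
  refine ⟨fun z z' h => ?_, fun x => ⟨((x : G ⧸ U), ⟨_, QuotientGroup.eq.1
    (QuotientGroup.out_eq' (x : G ⧸ U))⟩), mul_inv_cancel_left _ _⟩⟩
  have h1 : z.1 = z'.1 := by
    rw [← QuotientGroup.out_eq' z.1, ← QuotientGroup.out_eq' z'.1, QuotientGroup.eq]
    have h' : z.1.out⁻¹ * z'.1.out = (z.2 : G) * (z'.2 : G)⁻¹ := by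
      rw [eq_mul_inv_iff_mul_eq, mul_assoc, inv_mul_eq_iff_eq_mul]
      exact h.symm
    rw [h']
    exact mul_mem z.2.2 (inv_mem z'.2.2)
  refine Prod.ext h1 (Subtype.ext ?_)
  simp only [h1, mul_right_inj] at h
  exact h

theorem cs_conv (ha : IsDZ p a) (hb : IsDZ p b) (y : G) :
    ∑ u : ↥U, ∑ x, a x * b (x⁻¹ * (y * u)) = conv U (cs U a) (cs U b) y := by
  rw [Finset.sum_comm]
  have h1 : ∀ x, ∑ u : U, a x * b (x⁻¹ * (y * u)) = a x * cs U b (x⁻¹ * y) := fun x => by
    rw [cs, Finset.mul_sum]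
    simp [mul_assoc]
  rw [Finset.sum_congr rfl fun x _ => h1 x, sum_coset (U := U)]
  have h2 : ∀ q : G ⧸ U, ∑ u : U, a (q.out * u) * cs U b ((q.out * (u : G))⁻¹ * y) =
      cs U a q.out * cs U b (q.out⁻¹ * y) := by
    intro q
    rw [show cs U a q.out = ∑ u : U, a (q.out * u) from rfl, Finset.sum_mul]
    refine Finset.sum_congr rfl fun u _ => ?_
    rw [mul_inv_rev, mul_assoc, (cs_BI hb).left _ (inv_mem u.2)]
  rw [Finset.sum_congr rfl fun q _ => h2 q, conv]
  refine (Fintype.sum_equiv (MulAction.toPerm y) _ _ fun q => ?_).symm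
  induction q using QuotientGroup.induction_on with
  | H x =>
    rw [MulAction.toPerm_apply, MulAction.Quotient.smul_coe, smul_eq_mul]
    obtain ⟨v, hv, e⟩ := out_mem (U := U) (y * x)
    obtain ⟨v', hv', e'⟩ := out_mem (U := U) x
    rw [e, e', ← mul_assoc, (cs_BI ha).right v' hv', (cs_BI ha).right v hv,
      show (y * x * v)⁻¹ * y = v⁻¹ * x⁻¹ by group, mul_inv_rev, (cs_BI hb).left _ (inv_mem hv),
      (cs_BI hb).left _ (inv_mem hv')]

theorem cs_eq_zero (hU : IsPGroup p U) (ha : IsDZ p a) {x d' : G} (hd'U : d' ∈ U) (hd1 : d' ≠ 1)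
    (hdU : x * d' * x⁻¹ ∈ U) : cs U a x = 0 := by
  obtain ⟨d, hd⟩ : ∃ d, d = x * d' * x⁻¹ := ⟨_, rfl⟩
  rw [← hd] at hdU
  have hxd : x * d' = d * x := by rw [hd]; group
  obtain ⟨e, he⟩ := hU ⟨d, hdU⟩
  obtain ⟨e', he'⟩ := hU ⟨d', hd'U⟩
  let σ : U → U := fun u => ⟨d', hd'U⟩ * u * (⟨d, hdU⟩ : U)⁻¹
  have hσ : ∀ u : U, a (x * ((σ u : U) : G)) = a (x * u) := by
    intro u
    show a (x * (d' * (u : G) * d⁻¹)) = a (x * u)
    rw [show x * (d' * (u : G) * d⁻¹) = d * (x * u) * d⁻¹ by rw [← mul_assoc, ← mul_assoc, hxd]; group, ha.conj]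
  have hiter : ∀ s : ℕ, ∀ u : U,
      σ^[s] u = (⟨d', hd'U⟩ : U) ^ s * u * ((⟨d, hdU⟩ : U) ^ s)⁻¹ := by
    intro s
    induction s with
    | zero => intro u; simp
    | succ s ih =>
      intro u
      rw [Function.iterate_succ_apply', ih, pow_succ', pow_succ']
      simp only [σ]
      group
  have key : ∀ z : k, z ≠ 0 → ((Finset.univ.filter fun u : U => a (x * u) = z).card : k) = 0 := by
    intro z hz
    let X := {u : U // a (x * u) = z}
    let f : Function.End X := fun u => ⟨σ u.1, by rw [hσ]; exact u.2⟩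
    have hf : f ^ p ^ (e + e') = 1 := by
      funext u
      apply Subtype.ext
      have hfi : ∀ s : ℕ, ∀ u : X, (((f ^ s) u : X) : U) = σ^[s] u.1 := by
        intro s
        induction s with
        | zero => intro u; rfl
        | succ s ih =>
          intro u
          rw [pow_succ', Function.iterate_succ_apply', ← ih]
          rfl
      show _ = (u.1 : U)
      rw [hfi, hiter, pow_add, pow_mul (⟨d, hdU⟩ : U), he, one_pow, inv_one, mul_one, mul_comm, pow_mul, he',
        one_pow, one_mul]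
    have hfix : IsEmpty f.fixedPoints := ⟨fun ⟨u, hu⟩ => by
      have hu' : ((σ u.1 : U) : G) = ((u.1 : U) : G) := congrArg Subtype.val (congrArg Subtype.val hu)
      have hcomm : d * (x * (u.1 : G)) = x * (u.1 : G) * d := by
        change d' * (u.1 : G) * d⁻¹ = (u.1 : G) at hu'
        rw [← mul_assoc, ← hxd, mul_assoc, mul_assoc x]
        congr 1
        exact mul_inv_eq_iff_eq_mul.1 hu'
      refine hz (u.2.symm.trans (ha.van _ ?_))
      have hdne : d ≠ 1 := by
        intro h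
        rw [h, one_mul] at hxd
        exact hd1 (mul_left_cancel (a := x) (by rw [hxd, mul_one]))
      have hmem : d ∈ Subgroup.centralizer ({x * (u.1 : G)} : Set G) :=
        Subgroup.mem_centralizer_singleton_iff.2 hcomm
      have hpd : p ∣ orderOf d := by
        have h1 : d ^ p ^ e = 1 := congrArg Subtype.val he
        obtain ⟨i, -, hi⟩ := (Nat.dvd_prime_pow Fact.out).1 (orderOf_dvd_of_pow_eq_one h1)
        rw [hi]
        refine dvd_pow_self p fun h0 => hdne ?_
        rw [h0, pow_zero] at hi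
        exact orderOf_eq_one_iff.1 hi
      exact hpd.trans (Subgroup.orderOf_dvd_natCard _ hmem)⟩
    have h := Equiv.Perm.card_fixedPoints_modEq (p := p) hf
    have h0 : Fintype.card f.fixedPoints = 0 := Fintype.card_eq_zero
    rw [h0, Nat.modEq_zero_iff_dvd, Fintype.card_subtype] at h
    exact (CharP.cast_eq_zero_iff k p _).2 h
  rw [cs, ← Finset.sum_fiberwise_of_maps_to (g := fun u : U => a (x * u))
    (t := Finset.univ.image fun u : U => a (x * u)) (fun u hu => Finset.mem_image_of_mem _ hu)]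
  refine Finset.sum_eq_zero fun z _ => ?_
  rw [Finset.sum_congr rfl (fun u hu => (Finset.mem_filter.1 hu).2), Finset.sum_const, nsmul_eq_mul]
  rcases eq_or_ne z 0 with rfl | hz
  · rw [mul_zero]
  · rw [key z hz, zero_mul]

theorem exists_cs_ne_zero (hU : IsPGroup p U) (ha : IsDZ p a) : ∃ x, cs U a x ≠ 0 := by
  by_contra hall
  push Not at hall
  let L : (U → ZMod p) →+ (G → k) :=
    { toFun := fun c y => ∑ v : U, (ZMod.castHom dvd_rfl k) (c v) * a (y * v)
      map_zero' := by funext y; simp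
      map_add' := fun c c' => by funext y; simp [add_mul, Finset.sum_add_distrib] }
  have hL : ∀ s ∈ L.range, ∀ y, ∑ x, a (y * x⁻¹) * s x = s y := by
    rintro _ ⟨c, rfl⟩ y
    simp only [L, AddMonoidHom.coe_mk, ZeroHom.coe_mk, Finset.mul_sum]
    rw [Finset.sum_comm]
    refine Finset.sum_congr rfl fun v _ => ?_
    rw [← ha.idem (y * v), Finset.mul_sum]
    refine Fintype.sum_equiv ((Equiv.inv G).trans (Equiv.mulLeft y)) _ _ fun x => ?_
    simp only [Equiv.trans_apply, Equiv.inv_apply, Equiv.coe_mulLeft]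
    rw [show (y * x⁻¹)⁻¹ * (y * v) = x * v by group]
    ring
  haveI : Finite L.range := Finite.of_surjective (fun c => (⟨L c, c, rfl⟩ : L.range))
    (fun ⟨_, c, hc⟩ => ⟨c, Subtype.ext hc⟩)
  letI act : MulAction U L.range :=
    { smul := fun v s => ⟨fun y => s.1 (y * v), by
        obtain ⟨c, hc⟩ := s.2
        refine ⟨fun z => c (v⁻¹ * z), funext fun y => ?_⟩
        rw [← hc]
        refine Fintype.sum_equiv (Equiv.mulLeft v⁻¹) _ _ fun z => ?_
        simp [mul_assoc]⟩
      one_smul := fun s => Subtype.ext (funext fun y => by show s.1 (y * _) = s.1 y; simp)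
      mul_smul := fun v v' s => Subtype.ext (funext fun y => by
        show s.1 (y * _) = s.1 (y * _ * _)
        simp [mul_assoc]) }
  have ha1 : (⟨a, ⟨Pi.single 1 1, funext fun y => by
      show (∑ v : U, (ZMod.castHom dvd_rfl k) ((Pi.single (1 : U) (1 : ZMod p) : U → ZMod p) v) * a (y * v)) = a y
      rw [Finset.sum_eq_single (1 : U) (fun v _ hv => by simp [Pi.single_eq_of_ne hv]) (by simp)]
      simp⟩⟩ : L.range) ≠ 0 := by
    obtain ⟨g, hg⟩ := ha.ne
    exact fun h => hg (congrFun (congrArg Subtype.val h) g)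
  have hdvd : p ∣ Nat.card L.range := by
    haveI : Nontrivial L.range := ⟨⟨_, _, ha1⟩⟩
    have h1 : Nat.card L.range ∣ p ^ Nat.card U := by
      refine dvd_trans (AddSubgroup.card_dvd_of_surjective L.rangeRestrict L.rangeRestrict_surjective) ?_
      rw [Nat.card_fun, Nat.card_zmod]
    obtain ⟨i, -, hi⟩ := (Nat.dvd_prime_pow Fact.out).1 h1
    rw [hi]
    refine dvd_pow_self p fun h0 => ?_
    rw [h0, pow_zero] at hi
    exact (Finite.one_lt_card (α := L.range)).ne' hi
  have h0fix : (0 : L.range) ∈ MulAction.fixedPoints U L.range := fun v => Subtype.ext rfl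
  obtain ⟨s, hs, hs0⟩ := hU.exists_fixed_point_of_prime_dvd_card_of_fixed_point L.range hdvd h0fix
  refine hs0 (Subtype.ext (funext fun y => ?_)).symm
  rw [← hL s.1 s.2 y, sum_coset (U := U)]
  refine Finset.sum_eq_zero fun q _ => ?_
  have hinv : ∀ u : U, s.1 (q.out * u) = s.1 q.out := fun u => congrFun (congrArg Subtype.val (hs u)) q.out
  simp only [hinv, ← Finset.sum_mul]
  rw [show (∑ u : U, a (y * (q.out * (u : G))⁻¹)) = cs U a (q.out⁻¹ * y) from
    Fintype.sum_equiv (Equiv.inv _) _ _ fun u => by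
      rw [mul_inv_rev, ← mul_assoc, comm' ha, ← mul_assoc]; rfl, hall, zero_mul]

/-- Convolution by fibres over the orbits. -/
theorem conv_eq_sum {A B : G → k} (hB : BI U B) (y : G) :
    conv U A B y = ∑ O ∈ (Finset.univ : Finset (G ⧸ U)).image (fun q => orb U q.out),
      ∑ q ∈ (Finset.univ : Finset (G ⧸ U)).filter (fun q => orb U q.out = O), A (y * q.out) * B q.out⁻¹ :=
  (Finset.sum_fiberwise_of_maps_to (fun q _ => Finset.mem_image_of_mem _ (Finset.mem_univ q)) _).symm

theorem fiber_sum {A B : G → k} (hB : BI U B) (q0 : G ⧸ U) (y : G) :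
    ∑ q ∈ (Finset.univ : Finset (G ⧸ U)).filter (fun q => orb U q.out = orb U q0.out),
      A (y * q.out) * B q.out⁻¹ = T U q0.out A y * B q0.out⁻¹ := by
  have e : (Finset.univ : Finset (G ⧸ U)).filter (fun q => orb U q.out = orb U q0.out) = orb U q0.out := by
    ext q
    rw [Finset.mem_filter]
    refine ⟨fun h => h.2 ▸ ?_, fun h => ⟨Finset.mem_univ _, orb_congr h⟩⟩
    have := self_mem_orb (U := U) q.out
    rwa [QuotientGroup.out_eq'] at this
  rw [e, T, Finset.sum_mul]
  refine Finset.sum_congr rfl fun q hq => ?_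
  obtain ⟨u, hu, rfl⟩ := mem_orb.1 hq
  obtain ⟨v, hv, e⟩ := out_mem (U := U) (u * q0.out)
  congr 1
  rw [e, mul_inv_rev, mul_inv_rev, hB.left _ (inv_mem hv), hB.right _ (inv_mem hu)]

end Cfsg.Agent.H54.SDZ
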