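import Mathlib
import Cfsg.Agent.H54.InvariantForms
import Cfsg.Agent.H54.PPrimePower
import Cfsg.Agent.Symplectic.Std

/-!
Semisimple classes of symplectic groups: classified by the characteristic polynomial, which can be any
reciprocal polynomial.
-/

set_option autoImplicit false

namespace Cfsg.Agent.H54.SympSS

open Polynomial Module Matrix Symplectic

variable {F : Type*} [Field F] {p : ℕ} [Fact p.Prime] [CharP F p] {n : ℕ}

theorem toLin'_pow_eq_one {N : ℕ} {g : Matrix.symplecticGroup (Fin n) F} (h : g ^ N = 1) :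
    (Matrix.toLin' (g : Mat n F)) ^ N = 1 := by
  show (Matrix.toLinAlgEquiv' (g : Mat n F)) ^ N = 1
  rw [← map_pow, ← SubmonoidClass.coe_pow, h, Submonoid.coe_one, map_one]

theorem inv_spB (g : Matrix.symplecticGroup (Fin n) F) :
    InvForm.Inv (Matrix.toLin' (g : Mat n F)) (spB n F) := fun x y => toLin'_mem_isom g.2 x y

/-- `p'`-elements with the same characteristic polynomial are conjugate. -/
theorem isConj_of_charpoly [Finite F] (g h : Matrix.symplecticGroup (Fin n) F) (hg : (orderOf g).Coprime p)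
    (hh : (orderOf h).Coprime p) (hc : (g : Mat n F).charpoly = (h : Mat n F).charpoly) : IsConj g h := by
  set N := orderOf g * orderOf h with hNdef
  have hN : (N : F) ≠ 0 := by
    rw [hNdef, Nat.cast_mul]
    exact mul_ne_zero (PPrime.cast_orderOf_ne_zero hg) (PPrime.cast_orderOf_ne_zero hh)
  have hT := toLin'_pow_eq_one (N := N) (g := g) (orderOf_dvd_iff_pow_eq_one.1 (Dvd.intro _ rfl))
  have hS := toLin'_pow_eq_one (N := N) (g := h) (orderOf_dvd_iff_pow_eq_one.1 (Dvd.intro_left _ rfl))
  obtain ⟨e, he⟩ := conj_of_charpoly hN _ _ _ (Matrix.toLin' (g : Mat n F)) (Matrix.toLin' (h : Mat n F)) rfl hT hS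
    (by rw [Matrix.charpoly_toLin', Matrix.charpoly_toLin', hc])
  let B2 : LinearMap.BilinForm F (Fin n ⊕ Fin n → F) := (spB n F).comp e.toLinearMap e.toLinearMap
  have hB2 : B2.Nondegenerate := ⟨fun x hx => e.map_eq_zero_iff.1 ((spB_nondeg n F).1 _ fun y => by
      rw [← e.apply_symm_apply y]; exact hx _),
    fun y hy => e.map_eq_zero_iff.1 ((spB_nondeg n F).2 _ fun x => by
      rw [← e.apply_symm_apply x]; exact hy _)⟩
  have hI2 : InvForm.Inv (Matrix.toLin' (g : Mat n F)) B2 := fun x y => by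
    show spB n F (e _) (e _) = spB n F (e x) (e y)
    rw [he, he, inv_spB h]
  obtain ⟨c, hc1, hc2⟩ := InvForm.equivalent (spB_alt n F) (fun x => (spB_alt n F).self_eq_zero (e x))
    (spB_nondeg n F) hB2 (inv_spB g) hI2 hN hT
  let ψ : Isom (spB n F) := ⟨c.trans e, fun u v => hc2 u v⟩
  refine isConj_iff.2 ⟨(spEquiv n F).symm ψ, mul_inv_eq_iff_eq_mul.2 (sp_ext fun v => ?_)⟩
  rw [Submonoid.coe_mul, Submonoid.coe_mul, ← Matrix.mulVec_mulVec, ← Matrix.mulVec_mulVec, spEquiv_symm_mulVec,
    spEquiv_symm_mulVec]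
  have h1 := hc1 v
  have h2 := he (c v)
  simp only [Matrix.toLin'_apply] at h1 h2
  show e (c ((g : Mat n F) *ᵥ v)) = (h : Mat n F) *ᵥ e (c v)
  rw [h1, h2]

/-- Symplectic matrices have determinant one. -/
theorem det_eq_one (p : ℕ) [Fact p.Prime] [CharP F p] (g : Matrix.symplecticGroup (Fin n) F) :
    (g : Mat n F).det = 1 := by
  let D : Matrix.symplecticGroup (Fin n) F →* F := Matrix.detMonoidHom.comp (Matrix.symplecticGroup (Fin n) F).subtype
  have h : Subgroup.closure (TSet n F) ≤ D.ker := by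
    rw [Subgroup.closure_le]
    rintro _ ⟨w, c, rfl⟩
    have hp : ∀ k : ℕ, T w c ^ k = T w ((k : F) * c) := by
      intro k
      induction k with
      | zero => simp [T_zero]
      | succ k ih => rw [pow_succ, ih, T_mul, Nat.cast_succ, add_mul, one_mul]
    have h1 : D (T w c) ^ p = 1 ^ p := by rw [← map_pow, hp, CharP.cast_eq_zero, zero_mul, T_zero, map_one, one_pow]
    exact frobenius_inj F p h1
  rw [closure_TSet] at h
  exact h (Subgroup.mem_top g)

/-- The characteristic polynomial of a symplectic matrix is reciprocal. -/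
theorem coeff_charpoly_reciprocal (p : ℕ) [Fact p.Prime] [CharP F p] (g : Matrix.symplecticGroup (Fin n) F) (j : ℕ)
    (hj : j ≤ 2 * n) : (g : Mat n F).charpoly.coeff (2 * n - j) = (g : Mat n F).charpoly.coeff j := by
  have hu : IsUnit (g : Mat n F) := (Matrix.isUnit_iff_isUnit_det _).2 (by rw [det_eq_one p g]; exact isUnit_one)
  have h1 : ((g⁻¹ : Matrix.symplecticGroup (Fin n) F) : Mat n F).charpoly = (g : Mat n F).charpoly := by
    rw [SymplecticGroup.coe_inv, Matrix.mul_assoc, Matrix.charpoly_mul_comm, Matrix.mul_assoc]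
    have hJ : J (Fin n) F * -J (Fin n) F = 1 := by rw [mul_neg, J_squared, neg_neg]
    rw [hJ, mul_one, Matrix.charpoly_transpose]
  rw [SymplecticGroup.coe_inv', Matrix.charpoly_inv _ hu, det_eq_one p g, Ring.inverse_one, map_one, mul_one,
    Fintype.card_sum, Fintype.card_fin, ← two_mul, pow_mul, neg_one_sq, one_pow, one_mul,
    ← Matrix.reverse_charpoly] at h1
  conv_rhs => rw [← h1]
  rw [Polynomial.coeff_reverse, Matrix.charpoly_natDegree_eq_dim, Fintype.card_sum, Fintype.card_fin, ← two_mul,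
    Polynomial.revAt_le hj]

section model

variable {m : ℕ}

/-- The basis `e`. -/
def E (i : Fin (m + 1)) : Fin (m + 1) ⊕ Fin (m + 1) → F := Pi.single (Sum.inl i) 1

/-- The basis `f`. -/
def Fv (i : Fin (m + 1)) : Fin (m + 1) ⊕ Fin (m + 1) → F := Pi.single (Sum.inr i) 1

variable (a : Fin (m + 1) → F)

/-- Images of the basis under the model element. -/
def img : Fin (m + 1) ⊕ Fin (m + 1) → (Fin (m + 1) ⊕ Fin (m + 1) → F)
  | Sum.inl i => if h : (i : ℕ) < m then E ⟨i + 1, by omega⟩ else Fv 0
  | Sum.inr j => if h : (j : ℕ) < m then Fv ⟨j + 1, by omega⟩ - a j • Fv 0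
      else -E 0 - ∑ i : Fin m, a i.castSucc • E i.succ - a (Fin.last m) • Fv 0

/-- The model element. -/
noncomputable def model : Module.End F (Fin (m + 1) ⊕ Fin (m + 1) → F) :=
  (Pi.basisFun F _).constr F (img a)

theorem model_E (i : Fin (m + 1)) : model a (E i) = img a (Sum.inl i) := by
  rw [model, E, ← Pi.basisFun_apply, Basis.constr_basis]

theorem model_Fv (i : Fin (m + 1)) : model a (Fv i) = img a (Sum.inr i) := by
  rw [model, Fv, ← Pi.basisFun_apply, Basis.constr_basis]

theorem B_EE (i j : Fin (m + 1)) : spB (m + 1) F (E i) (E j) = 0 := by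
  rw [E, E, spB_single]; simp [Matrix.J]

theorem B_FF (i j : Fin (m + 1)) : spB (m + 1) F (Fv i) (Fv j) = 0 := by
  rw [Fv, Fv, spB_single]; simp [Matrix.J]

theorem B_EF (i j : Fin (m + 1)) : spB (m + 1) F (E i) (Fv j) = if i = j then -1 else 0 := by
  rw [E, Fv, spB_single]; split_ifs with h <;> simp [Matrix.J, Matrix.one_apply, h]

theorem B_FE (i j : Fin (m + 1)) : spB (m + 1) F (Fv i) (E j) = if i = j then 1 else 0 := by
  rw [E, Fv, spB_single]; simp [Matrix.J, Matrix.one_apply]

theorem model_inv (x y : Fin (m + 1) ⊕ Fin (m + 1) → F) :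
    spB (m + 1) F (model a x) (model a y) = spB (m + 1) F x y := by
  suffices h : (spB (m + 1) F).comp (model a) (model a) = spB (m + 1) F from
    LinearMap.congr_fun (LinearMap.congr_fun h x) y
  refine LinearMap.BilinForm.ext_basis (Pi.basisFun F _) fun i j => ?_
  simp only [LinearMap.BilinForm.comp_apply, Pi.basisFun_apply]
  have hE0 : ∀ k : Fin (m + 1), (k : ℕ) < m → ∀ h : (k : ℕ) + 1 < m + 1, (⟨k + 1, h⟩ : Fin (m + 1)) ≠ 0 :=
    fun k _ h e => by
      have e' := congrArg Fin.val e
      rw [Fin.val_zero] at e'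
      exact Nat.succ_ne_zero _ e'
  rcases i with i | i <;> rcases j with j | j
  · change spB _ F (model a (E i)) (model a (E j)) = spB _ F (E i) (E j)
    rw [model_E, model_E, B_EE]
    simp only [img]
    split_ifs with hi hj hj
    · rw [B_EE]
    · rw [B_EF, if_neg (hE0 i hi _)]
    · rw [B_FE, if_neg (hE0 j hj _).symm]
    · rw [B_FF]
  · change spB _ F (model a (E i)) (model a (Fv j)) = spB _ F (E i) (Fv j)
    rw [model_E, model_Fv, B_EF]
    simp only [img]
    split_ifs with hi hj hij hj hj hij hj <;>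
      simp only [map_sub, map_neg, map_sum, map_smul, smul_eq_mul, B_EE, B_FF, B_EF, B_FE] <;>
      first
      | (exfalso; simp only [Fin.ext_iff] at *; omega)
      | (simp only [Fin.ext_iff] at *; simp [*])
  · change spB _ F (model a (Fv i)) (model a (E j)) = spB _ F (Fv i) (E j)
    rw [model_E, model_Fv, B_FE]
    simp only [img]
    split_ifs with hi hj hij hj hj hij hj <;>
      simp only [map_sub, map_neg, map_sum, map_smul, smul_eq_mul, LinearMap.sub_apply, LinearMap.neg_apply,
        LinearMap.coe_sum, Finset.sum_apply, LinearMap.smul_apply, B_EE, B_FF, B_EF, B_FE] <;>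
      first
      | (exfalso; simp only [Fin.ext_iff] at *; omega)
      | (simp only [Fin.ext_iff] at *; simp [*])
  · change spB _ F (model a (Fv i)) (model a (Fv j)) = spB _ F (Fv i) (Fv j)
    rw [model_Fv, model_Fv, B_FF]
    simp only [img]
    split_ifs with hi hj hj
    · simp [-spB_apply, B_FF]
    · simp only [map_sub, map_neg, map_sum, map_smul, smul_eq_mul, LinearMap.sub_apply, LinearMap.smul_apply,
        B_FF, B_FE]
      rw [Finset.sum_eq_single (⟨i, hi⟩ : Fin m)]
      · simp
      · intro b _ hb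
        have : (i : ℕ) ≠ b := fun h => hb (Fin.ext h.symm)
        simp [Fin.ext_iff, this]
      · simp
    · simp only [map_sub, map_neg, map_sum, map_smul, smul_eq_mul, LinearMap.sub_apply, LinearMap.neg_apply,
        LinearMap.coe_sum, Finset.sum_apply, LinearMap.smul_apply, B_FF, B_EF]
      rw [Finset.sum_eq_single (⟨j, hj⟩ : Fin m)]
      · simp
      · intro b _ hb
        have : (b : ℕ) ≠ j := fun h => hb (Fin.ext h)
        simp [Fin.ext_iff, this]
      · simp
    · exact alt_self (spB_alt _ F) _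

/-- The polynomial of the model element. -/
noncomputable def poly : F[X] :=
  X ^ (2 * m + 2) + 1 + ∑ i : Fin m, C (a i.castSucc) * X ^ (2 * m + 1 - (i : ℕ)) +
    ∑ i : Fin (m + 1), C (a i) * X ^ ((i : ℕ) + 1)

/-- The polynomials giving `f j` from `e 0`. -/
noncomputable def fpoly (j : ℕ) : F[X] :=
  X ^ (m + 1 + j) + ∑ i : Fin m, if (i : ℕ) < j then C (a i.castSucc) * X ^ (m + j - (i : ℕ)) else 0

theorem evalAt_X_pow_E : ∀ i (h : i < m + 1), evalAt (model a) (E 0) (X ^ i) = E ⟨i, h⟩ := by
  intro i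
  induction i with
  | zero => intro h; simp [evalAt_apply]
  | succ i ih =>
    intro h
    rw [pow_succ', evalAt_X_mul, ih (by omega), model_E]
    simp only [img]
    rw [dif_pos (show i < m by omega)]

theorem evalAt_X_pow_succ : evalAt (model a) (E 0) (X ^ (m + 1)) = Fv 0 := by
  rw [pow_succ', evalAt_X_mul, evalAt_X_pow_E a m (by omega), model_E]
  simp [img]

theorem evalAt_fpoly : ∀ j (h : j < m + 1), evalAt (model a) (E 0) (fpoly a j) = Fv ⟨j, h⟩ := by
  intro j
  induction j with
  | zero => intro h; simp [fpoly, evalAt_X_pow_succ]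
  | succ j ih =>
    intro h
    have hjm : j < m := by omega
    have hrec : fpoly a (j + 1) = X * fpoly a j + C (a ⟨j, by omega⟩) * X ^ (m + 1) := by
      simp only [fpoly, mul_add, Finset.mul_sum, ← pow_succ', add_assoc]
      congr 1
      rw [show ∑ i : Fin m, (if (i : ℕ) < j + 1 then C (a i.castSucc) * X ^ (m + (j + 1) - (i : ℕ)) else 0) =
          (∑ i : Fin m, X * (if (i : ℕ) < j then C (a i.castSucc) * X ^ (m + j - (i : ℕ)) else 0)) +
          ∑ i : Fin m, if i = ⟨j, hjm⟩ then C (a ⟨j, by omega⟩) * X ^ (m + 1) else 0 by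
        rw [← Finset.sum_add_distrib]
        refine Finset.sum_congr rfl fun i _ => ?_
        have hi := i.isLt
        rcases lt_trichotomy (i : ℕ) j with h1 | h1 | h1
        · rw [if_pos (by omega), if_pos h1, if_neg (by simp [Fin.ext_iff]; omega), add_zero, mul_left_comm,
            ← pow_succ', show m + j - (i : ℕ) + 1 = m + (j + 1) - (i : ℕ) by omega]
        · rw [if_pos (by omega), if_neg (by omega), if_pos (Fin.ext h1), mul_zero, zero_add,
            show m + (j + 1) - (i : ℕ) = m + 1 by omega, show i.castSucc = ⟨j, by omega⟩ from Fin.ext h1]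
        · rw [if_neg (by omega), if_neg (by omega), if_neg (by simp [Fin.ext_iff]; omega), mul_zero, add_zero]]
      simp
    rw [hrec, map_add, evalAt_X_mul, ih (by omega), model_Fv, C_mul', map_smul, evalAt_X_pow_succ]
    simp only [img]
    rw [dif_pos hjm, sub_add_cancel]

theorem evalAt_poly : evalAt (model a) (E 0) (poly a) = 0 := by
  have hp : poly a = X * fpoly a m + (1 + ∑ i : Fin m, C (a i.castSucc) * X ^ ((i : ℕ) + 1)) +
      C (a (Fin.last m)) * X ^ (m + 1) := by
    simp only [poly, fpoly, Fin.sum_univ_castSucc (n := m) (f := fun i => C (a i) * X ^ ((i : ℕ) + 1)),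
      Fin.val_castSucc, Fin.val_last, mul_add, Finset.mul_sum, ← pow_succ', Fin.is_lt, if_true]
    rw [show m + 1 + m + 1 = 2 * m + 2 by omega, show ∑ i : Fin m, X * (C (a i.castSucc) * X ^ (m + m - (i : ℕ))) =
        ∑ i : Fin m, C (a i.castSucc) * X ^ (2 * m + 1 - (i : ℕ)) from Finset.sum_congr rfl fun i _ => by
      rw [mul_left_comm, ← pow_succ', show m + m - (i : ℕ) + 1 = 2 * m + 1 - (i : ℕ) by omega]]
    ring
  have h0 : evalAt (model a) (E 0) 1 = E 0 := by simp [evalAt_apply]
  rw [hp, map_add, map_add, map_add, map_sum, evalAt_X_mul, evalAt_fpoly a m (by omega), model_Fv, C_mul',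
    map_smul, evalAt_X_pow_succ, h0]
  simp only [img, C_mul', map_smul, evalAt_X_pow_E a _ (Nat.succ_lt_succ (Fin.is_lt _)), lt_irrefl, dite_false]
  simp only [Fin.succ]
  abel

theorem poly_spec : (poly a).Monic ∧ (poly a).natDegree = 2 * m + 2 := by
  have hd : (poly a - X ^ (2 * m + 2)).degree < ((2 * m + 2 : ℕ) : WithBot ℕ) := by
    rw [show poly a - X ^ (2 * m + 2) = 1 + (∑ i : Fin m, C (a i.castSucc) * X ^ (2 * m + 1 - (i : ℕ)) +
      ∑ i : Fin (m + 1), C (a i) * X ^ ((i : ℕ) + 1)) by simp only [poly]; ring]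
    have h1 : ∀ (c : F) (k : ℕ), k < 2 * m + 2 → (C c * X ^ k).degree < ((2 * m + 2 : ℕ) : WithBot ℕ) :=
      fun c k hk => (degree_C_mul_X_pow_le k c).trans_lt (WithBot.coe_lt_coe.2 hk)
    refine (degree_add_le _ _).trans_lt (max_lt ?_ ((degree_add_le _ _).trans_lt (max_lt ?_ ?_)))
    · rw [degree_one]; exact WithBot.coe_lt_coe.2 (show (0 : ℕ) < 2 * m + 2 by omega)
    · exact (degree_sum_le _ _).trans_lt ((Finset.sup_lt_iff (WithBot.bot_lt_coe _)).2 fun i _ => h1 _ _ (by omega))
    · exact (degree_sum_le _ _).trans_lt ((Finset.sup_lt_iff (WithBot.bot_lt_coe _)).2 fun i _ => h1 _ _ (by omega))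
  have he : poly a = X ^ (2 * m + 2) + (poly a - X ^ (2 * m + 2)) := by ring
  rw [he]
  refine ⟨monic_X_pow_add hd, natDegree_eq_of_degree_eq_some ?_⟩
  rw [degree_add_eq_left_of_degree_lt (by rw [degree_X_pow]; exact hd), degree_X_pow]

theorem model_charpoly : (model a).charpoly = poly a := by
  obtain ⟨hmon, hdeg⟩ := poly_spec a
  have hfr : Module.finrank F (Fin (m + 1) ⊕ Fin (m + 1) → F) = 2 * m + 2 := by
    rw [Module.finrank_pi, Fintype.card_sum, Fintype.card_fin]; omega
  have hall : ∀ v, ∃ g, evalAt (model a) (E 0) g = v := by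
    intro v
    rw [← LinearMap.mem_range]
    refine (Pi.basisFun F _).mem_span v |> fun h => Submodule.span_le.2 ?_ h
    rintro _ ⟨i | i, rfl⟩
    · exact ⟨X ^ (i : ℕ), by rw [evalAt_X_pow_E a i i.isLt, Pi.basisFun_apply]; rfl⟩
    · exact ⟨fpoly a i, by rw [evalAt_fpoly a i i.isLt, Pi.basisFun_apply]; rfl⟩
  let L := (evalAt (model a) (E 0)).comp (Polynomial.degreeLT F (2 * m + 2)).subtype
  have hL : Function.Surjective L := by
    intro v
    obtain ⟨g, rfl⟩ := hall v
    refine ⟨⟨g %ₘ poly a, ?_⟩, ?_⟩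
    · rw [mem_degreeLT]
      calc (g %ₘ poly a).degree < (poly a).degree := degree_modByMonic_lt g hmon
        _ = _ := by rw [degree_eq_natDegree hmon.ne_zero, hdeg]
    · show evalAt (model a) (E 0) (g %ₘ poly a) = _
      conv_rhs => rw [← modByMonic_add_div g (poly a), map_add]
      rw [show evalAt (model a) (E 0) (poly a * (g /ₘ poly a)) = 0 by
        rw [evalAt_apply, mul_comm, map_mul, Module.End.mul_apply, ← evalAt_apply (model a) (E 0) (poly a), evalAt_poly, map_zero], add_zero]
  have hLi : Function.Injective L := by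
    haveI : FiniteDimensional F (Polynomial.degreeLT F (2 * m + 2)) :=
      LinearEquiv.finiteDimensional (Polynomial.degreeLTEquiv F (2 * m + 2)).symm
    exact (LinearMap.injective_iff_surjective_of_finrank_eq_finrank
      (by rw [(Polynomial.degreeLTEquiv F (2 * m + 2)).finrank_eq, Module.finrank_fin_fun, hfr])).2 hL
  have hmem : (model a).charpoly - poly a ∈ Polynomial.degreeLT F (2 * m + 2) := by
    rw [mem_degreeLT]
    have h1 : (model a).charpoly.degree = ((2 * m + 2 : ℕ) : WithBot ℕ) := by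
      rw [degree_eq_natDegree (LinearMap.charpoly_monic _).ne_zero, LinearMap.charpoly_natDegree, hfr]
    have h2 : (poly a).degree = ((2 * m + 2 : ℕ) : WithBot ℕ) := by rw [degree_eq_natDegree hmon.ne_zero, hdeg]
    calc _ < (model a).charpoly.degree := degree_sub_lt_left (h1.trans h2.symm) (LinearMap.charpoly_monic _).ne_zero
          (by rw [(LinearMap.charpoly_monic _).leadingCoeff, hmon.leadingCoeff])
      _ = _ := h1
  have h0 : L ⟨_, hmem⟩ = L 0 := by
    show evalAt (model a) (E 0) ((model a).charpoly - poly a) = L 0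
    rw [map_sub, evalAt_poly, sub_zero, evalAt_apply, LinearMap.aeval_self_charpoly, map_zero]
    rfl
  exact sub_eq_zero.1 (congrArg Subtype.val (hLi h0))

theorem poly_coeff (j : Fin (m + 1)) : (poly a).coeff ((j : ℕ) + 1) = a j := by
  have hj := j.isLt
  simp only [poly, coeff_add, finsetSum_coeff, coeff_C_mul_X_pow, coeff_X_pow, coeff_one]
  rw [if_neg (by omega), if_neg (by omega),
    Finset.sum_eq_zero (f := fun i : Fin m => if (j : ℕ) + 1 = 2 * m + 1 - (i : ℕ) then a i.castSucc else 0)
      (fun i _ => if_neg (by omega)), Finset.sum_eq_single j (fun b _ hb => if_neg fun h => hb (Fin.ext (by omega)))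
      (by simp)]
  simp

end model

theorem exists_coeff [Fintype F] (p : ℕ) [Fact p.Prime] [CharP F p] (a : Fin n → F) :
    ∃ g : Matrix.symplecticGroup (Fin n) F, (orderOf g).Coprime p ∧
      ∀ j : Fin n, (g : Mat n F).charpoly.coeff ((j : ℕ) + 1) = a j := by
  cases n with
  | zero => exact ⟨1, by simp, fun j => j.elim0⟩
  | succ m =>
    let g : Matrix.symplecticGroup (Fin (m + 1)) F :=
      ⟨LinearMap.toMatrix' (model a), (mem_symplectic_iff_form _).2 fun u v => by
        rw [LinearMap.toMatrix'_mulVec, LinearMap.toMatrix'_mulVec, ← spB_apply, ← spB_apply]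
        exact model_inv a u v⟩
    obtain ⟨k, hk⟩ := PPrime.exists_pow F p g
    refine ⟨_, hk, fun j => ?_⟩
    rw [SubmonoidClass.coe_pow, PPrime.charpoly_pow, ← Matrix.charpoly_toLin']
    show (Matrix.toLin' (LinearMap.toMatrix' (model a))).charpoly.coeff _ = _
    rw [Matrix.toLin'_toMatrix', model_charpoly, poly_coeff]

theorem charpoly_ext (p : ℕ) [Fact p.Prime] [CharP F p] {g h : Matrix.symplecticGroup (Fin n) F}
    (hgh : ∀ j : Fin n, (g : Mat n F).charpoly.coeff ((j : ℕ) + 1) = (h : Mat n F).charpoly.coeff ((j : ℕ) + 1)) :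
    (g : Mat n F).charpoly = (h : Mat n F).charpoly := by
  have hd : ∀ x : Matrix.symplecticGroup (Fin n) F, (x : Mat n F).charpoly.natDegree = 2 * n := fun x => by
    rw [Matrix.charpoly_natDegree_eq_dim, Fintype.card_sum, Fintype.card_fin, two_mul]
  have htop : ∀ x : Matrix.symplecticGroup (Fin n) F, (x : Mat n F).charpoly.coeff (2 * n) = 1 := fun x => by
    rw [← hd x]; exact (Matrix.charpoly_monic _).coeff_natDegree
  have hlow : ∀ i ≤ n, (g : Mat n F).charpoly.coeff i = (h : Mat n F).charpoly.coeff i := by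
    intro i hi
    cases i with
    | zero => rw [← coeff_charpoly_reciprocal p g 0 (by omega), ← coeff_charpoly_reciprocal p h 0 (by omega),
        Nat.sub_zero, htop, htop]
    | succ i => exact hgh ⟨i, hi⟩
  ext i
  rcases le_or_gt i n with hi | hi
  · exact hlow i hi
  rcases le_or_gt i (2 * n) with hi' | hi'
  · rw [← coeff_charpoly_reciprocal p g i hi', ← coeff_charpoly_reciprocal p h i hi']
    exact hlow _ (by omega)
  · rw [coeff_eq_zero_of_natDegree_lt (hd g ▸ hi'), coeff_eq_zero_of_natDegree_lt (hd h ▸ hi')]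

/-- The number of `p'`-classes of `Sp_{2n}(q)` is `q ^ n`. -/
theorem card_classes [Fintype F] (p : ℕ) [Fact p.Prime] [CharP F p] :
    Nat.card {c : ConjClasses ↥(Matrix.symplecticGroup (Fin n) F) //
      ∃ g : ↥(Matrix.symplecticGroup (Fin n) F), ConjClasses.mk g = c ∧ (orderOf g).Coprime p} =
      Fintype.card F ^ n := by
  classical
  let Φ : {c : ConjClasses ↥(Matrix.symplecticGroup (Fin n) F) //
      ∃ g : ↥(Matrix.symplecticGroup (Fin n) F), ConjClasses.mk g = c ∧ (orderOf g).Coprime p} → Fin n → F :=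
    fun c j => (c.2.choose : Mat n F).charpoly.coeff ((j : ℕ) + 1)
  have hb : Function.Bijective Φ := by
    constructor
    · intro c d hcd
      apply Subtype.ext
      rw [← c.2.choose_spec.1, ← d.2.choose_spec.1, ConjClasses.mk_eq_mk_iff_isConj]
      exact isConj_of_charpoly _ _ c.2.choose_spec.2 d.2.choose_spec.2 (charpoly_ext p (congrFun hcd))
    · intro a
      obtain ⟨g, hg, hga⟩ := exists_coeff p a
      refine ⟨⟨ConjClasses.mk g, g, rfl, hg⟩, funext fun j => ?_⟩
      set d : {c : ConjClasses ↥(Matrix.symplecticGroup (Fin n) F) //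
        ∃ g : ↥(Matrix.symplecticGroup (Fin n) F), ConjClasses.mk g = c ∧ (orderOf g).Coprime p} :=
        ⟨ConjClasses.mk g, g, rfl, hg⟩
      obtain ⟨u, hu⟩ := isConj_iff.1 (ConjClasses.mk_eq_mk_iff_isConj.1 d.2.choose_spec.1)
      show (d.2.choose : Mat n F).charpoly.coeff ((j : ℕ) + 1) = a j
      rw [← hga j]
      congr 1
      rw [← hu, Submonoid.coe_mul, Matrix.charpoly_mul_comm, ← Submonoid.coe_mul, ← mul_assoc u⁻¹,
        inv_mul_cancel, one_mul]
  rw [Nat.card_eq_of_bijective Φ hb, Nat.card_fun, Nat.card_eq_fintype_card, Nat.card_eq_fintype_card, Fintype.card_fin]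

end Cfsg.Agent.H54.SympSS
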