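import Mathlib
import Cfsg.Agent.H54.PolyDet
import Cfsg.Agent.H54.PPrimePower
import Cfsg.Agent.Unitary.Wall

/-!
Semisimple classes of special unitary groups: classified by the characteristic polynomial, which can be any
self-dual polynomial.
-/

set_option autoImplicit false
set_option linter.unusedSectionVars false

namespace Cfsg.Agent.H54.USS

open Polynomial Matrix Cfsg.Agent.Unitary

variable {F : Type*} [Field F] [Fintype F] {n q : ℕ} (hF : Fintype.card F = q ^ 2)
include hF

/-- Conjugate, reverse and normalise. -/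
noncomputable def dual (P : F[X]) : F[X] :=
  C ((P.coeff 0 ^ q)⁻¹) * (P.map (frob hF).toRingHom).reverse

theorem dual_mul (P Q : F[X]) : dual hF (P * Q) = dual hF P * dual hF Q := by
  rw [dual, dual, dual, Polynomial.map_mul, reverse_mul_of_domain, mul_coeff_zero, mul_pow, mul_inv, C_mul]
  ring

theorem hstar_pow' (M : Matrix (Fin n) (Fin n) F) (j : ℕ) : hstar q (M ^ j) = hstar q M ^ j := by
  induction j with
  | zero => simp [hstar_one hF]
  | succ j ih => rw [pow_succ, hstar_mul hF, ih, ← pow_succ']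

theorem hstar_aeval' (M : Matrix (Fin n) (Fin n) F) (f : F[X]) :
    hstar q (aeval M f) = aeval (hstar q M) (f.map (frob hF).toRingHom) := by
  induction f using Polynomial.induction_on' with
  | add a b ha hb => rw [map_add, hstar_add hF, ha, hb, Polynomial.map_add, map_add]
  | monomial j c =>
    rw [map_monomial, aeval_monomial, aeval_monomial, hstar_mul hF, hstar_algebraMap hF,
      hstar_pow' hF, ← Algebra.commutes]
    rfl

theorem charpoly_hstar (A : Matrix (Fin n) (Fin n) F) :
    (hstar q A).charpoly = A.charpoly.map (frob hF).toRingHom := by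
  rw [hstar_eq_map hF, Matrix.charpoly_transpose, RingHom.mapMatrix_apply, Matrix.charpoly_map]

theorem det_eq_coeff (A : Matrix (Fin n) (Fin n) F) : A.det = (-1) ^ n * A.charpoly.coeff 0 := by
  rw [Matrix.det_eq_sign_charpoly_coeff, Fintype.card_fin]

theorem charpoly_hstar_inv {A : Matrix (Fin n) (Fin n) F} (hA : IsUnit A) :
    (hstar q A)⁻¹.charpoly = dual hF A.charpoly := by
  have h := hstar_isUnit hF hA
  have hc : (hstar q A).charpoly.coeff 0 = A.charpoly.coeff 0 ^ q := by
    rw [charpoly_hstar hF, coeff_map]; rfl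
  rw [Matrix.charpoly_inv _ h, ← Matrix.reverse_charpoly, det_eq_coeff hF, Fintype.card_fin, hc,
    charpoly_hstar hF, dual, Ring.inverse_eq_inv, mul_inv, C_mul, ← mul_assoc]
  congr 1
  rw [← inv_pow, inv_neg, inv_one, map_pow, map_neg, map_one, ← mul_pow, neg_mul_neg, one_mul, one_pow,
    one_mul]

theorem dual_charpoly {A : Matrix (Fin n) (Fin n) F} (hA : hstar q A * A = 1) :
    dual hF A.charpoly = A.charpoly := by
  have hu : IsUnit A := IsUnit.of_mul_eq_one_right _ hA
  rw [← charpoly_hstar_inv hF hu, Matrix.inv_eq_right_inv hA]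

theorem dual_minpoly {A : Matrix (Fin n) (Fin n) F} (hA : hstar q A * A = 1)
    (h0 : (minpoly F A).coeff 0 ≠ 0) : dual hF (minpoly F A) = minpoly F A := by
  set m := minpoly F A
  have hm : m.Monic := minpoly.monic (Matrix.isIntegral A)
  set mb := m.map (frob hF).toRingHom
  have hd : mb.natDegree = m.natDegree := natDegree_map_eq_of_injective (frob hF).toRingHom.injective m
  have hb0 : mb.coeff 0 = m.coeff 0 ^ q := by rw [coeff_map]; rfl
  have hb0' : m.coeff 0 ^ q ≠ 0 := pow_ne_zero _ h0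
  have hann : aeval A (dual hF m) = 0 := by
    have h1 : aeval (hstar q A) mb = 0 := by
      rw [← hstar_aeval' hF, minpoly.aeval]
      ext i j
      simp [hstar, q_ne_zero hF]
    have hAA : A * hstar q A = 1 := mul_eq_one_comm.1 hA
    have h2 : aeval A mb.reverse = A ^ mb.natDegree * aeval (hstar q A) mb := by
      rw [Polynomial.reverse]
      refine Polynomial.induction_with_natDegree_le
        (fun g => aeval A (reflect mb.natDegree g) = A ^ mb.natDegree * aeval (hstar q A) g) mb.natDegree (by simp)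
        ?_ ?_ mb le_rfl
      · intro j a _ hj
        simp only [reflect_C_mul_X_pow, revAt_le hj, map_mul, aeval_C, map_pow, aeval_X]
        rw [← mul_assoc, ← Algebra.commutes, mul_assoc]
        congr 1
        obtain ⟨i, hi⟩ := Nat.exists_eq_add_of_le hj
        rw [hi, Nat.add_sub_cancel_left, add_comm, pow_add, mul_assoc,
          ← (show Commute A (hstar q A) from hAA.trans hA.symm).mul_pow, hAA, one_pow, mul_one]
      · intro a b _ _ iha ihb
        simp only [reflect_add, map_add, mul_add, iha, ihb]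
    rw [dual, map_mul, h2, h1, mul_zero, mul_zero]
  have hdeg : (dual hF m).natDegree ≤ m.natDegree := by
    rw [dual]
    exact (natDegree_C_mul_le _ _).trans (hd ▸ Polynomial.reverse_natDegree_le mb)
  have hmon : (dual hF m).Monic := by
    refine monic_of_natDegree_le_of_coeff_eq_one m.natDegree hdeg ?_
    rw [dual, coeff_C_mul, coeff_reverse, hd, revAt_le le_rfl, Nat.sub_self, hb0, inv_mul_cancel₀ hb0']
  exact eq_of_monic_of_dvd_of_natDegree_le hm hmon (minpoly.dvd F A hann) hdeg

omit hF in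
theorem gmat_mul (a b : GU n F q) : gmat (a * b) = gmat a * gmat b := rfl

omit hF in
theorem gmat_pow (a : GU n F q) (j : ℕ) : gmat (a ^ j) = gmat a ^ j := by
  induction j with
  | zero => rfl
  | succ j ih => rw [pow_succ, gmat_mul, ih, pow_succ]

omit hF in
theorem gmat_pow_eq_one (a : GU n F q) {N : ℕ} (h : orderOf a ∣ N) : gmat a ^ N = 1 := by
  rw [← gmat_pow, orderOf_dvd_iff_pow_eq_one.1 h]
  rfl

omit hF in
theorem det_gmat_conj (x u : GU n F q) : (gmat (x * u * x⁻¹)).det = (gmat u).det := by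
  have h : (gmat x).det * (gmat x⁻¹).det = 1 := by
    rw [← Matrix.det_mul, ← gmat_mul, mul_inv_cancel]
    exact Matrix.det_one
  rw [gmat_mul, gmat_mul, Matrix.det_mul, Matrix.det_mul, mul_right_comm, h, one_mul]

variable (p : ℕ) [Fact p.Prime] [CharP F p]

/-- Every self-dual polynomial is the characteristic polynomial of a `p'`-element of `GU`. -/
theorem exists_model {k : ℕ} {P : F[X]} (hP : P.Monic) (hk : P.natDegree = k) (h0 : P.coeff 0 ≠ 0)
    (hd : dual hF P = P) : ∃ B : GU k F q, (orderOf B).Coprime p ∧ (gmat B).charpoly = P := by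
  let pb := AdjoinRoot.powerBasis' hP
  have hdim : pb.dim = k := hk
  let M : Matrix (Fin k) (Fin k) F := Matrix.reindex (finCongr hdim) (finCongr hdim) (Algebra.leftMulMatrix pb.basis pb.gen)
  have hM : M.charpoly = P := by
    rw [Matrix.charpoly_reindex, charpoly_leftMulMatrix, AdjoinRoot.powerBasis'_gen, AdjoinRoot.minpoly_root hP.ne_zero,
      hP.leadingCoeff, inv_one, C_1, mul_one]
  have hMu : IsUnit M := (Matrix.isUnit_iff_isUnit_det _).2 (by
    rw [det_eq_coeff hF, hM]; exact (isUnit_iff_ne_zero.2 (mul_ne_zero (pow_ne_zero _ (by simp)) h0)))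
  obtain ⟨j, hj⟩ := PPrime.exists_pow F p hMu.unit
  set A : GL (Fin k) F := hMu.unit ^ Fintype.card F ^ j
  have hA : (A : Matrix (Fin k) (Fin k) F).charpoly = P := by
    rw [Units.val_pow_eq_pow_val, IsUnit.unit_spec, PPrime.charpoly_pow, hM]
  have hsu : IsUnit (hstar q (A : Matrix (Fin k) (Fin k) F)) := hstar_isUnit hF A.isUnit
  set A' : GL (Fin k) F := hsu.unit⁻¹
  have hA'c : (A' : Matrix (Fin k) (Fin k) F) = (hstar q (A : Matrix (Fin k) (Fin k) F))⁻¹ := by
    rw [Matrix.coe_units_inv, IsUnit.unit_spec]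
  have hAN : A ^ orderOf A = 1 := pow_orderOf_eq_one A
  have hA'N : A' ^ orderOf A = 1 := by
    rw [inv_pow, inv_eq_one]
    refine Units.ext ?_
    rw [Units.val_pow_eq_pow_val, IsUnit.unit_spec, ← hstar_pow' hF, ← Units.val_pow_eq_pow_val, hAN, Units.val_one,
      hstar_one hF]
  have hAA' : IsConj A A' := isConj_GL_of_charpoly (PPrime.cast_orderOf_ne_zero hj) A A' hAN hA'N
    (by rw [hA'c, charpoly_hstar_inv hF A.isUnit, hA, hd])
  obtain ⟨c, hc⟩ := hAA'
  obtain ⟨B, hB⟩ := (exists_similar_GU_iff hF A).2 ⟨Units.map (Units.coeHom _) c, by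
    have h := congrArg (fun u : GL (Fin k) F => (u : Matrix (Fin k) (Fin k) F)) hc.eq
    simp only [Units.val_mul] at h
    show ((c : GL (Fin k) F) : Matrix (Fin k) (Fin k) F) * A = _
    rw [h, hA'c]; rfl⟩
  refine ⟨B, ?_, ?_⟩
  · have h : orderOf (B : GL (Fin k) F) = orderOf A := by
      obtain ⟨x, hx⟩ := isConj_iff.1 hB
      rw [← hx]
      exact (MulAut.conj x).orderOf_eq A
    rw [← Subgroup.orderOf_coe, h]
    exact hj
  · obtain ⟨x, hx⟩ := isConj_iff.1 hB
    show ((B : GL (Fin k) F) : Matrix (Fin k) (Fin k) F).charpoly = P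
    rw [← hx, Units.val_mul, Units.val_mul, Matrix.coe_units_inv, Matrix.charpoly_units_conj x, hA]

omit hF in
/-- Block diagonal matrix. -/
def blk {k l : ℕ} (M : Matrix (Fin k) (Fin k) F) (N : Matrix (Fin l) (Fin l) F) :
    Matrix (Fin (k + l)) (Fin (k + l)) F :=
  Matrix.reindex finSumFinEquiv finSumFinEquiv (fromBlocks M 0 0 N)

theorem hstar_blk {k l : ℕ} (M : Matrix (Fin k) (Fin k) F) (N : Matrix (Fin l) (Fin l) F) :
    hstar q (blk M N) = blk (hstar q M) (hstar q N) := by
  rw [blk, blk, hstar, hstar, hstar, Matrix.reindex_apply, Matrix.reindex_apply, ← Matrix.submatrix_map,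
    Matrix.fromBlocks_map, Matrix.transpose_submatrix, Matrix.fromBlocks_transpose]
  simp [q_ne_zero hF]

omit hF p [Fact p.Prime] [CharP F p] in
theorem blk_mul {k l : ℕ} (M M' : Matrix (Fin k) (Fin k) F) (N N' : Matrix (Fin l) (Fin l) F) :
    blk M N * blk M' N' = blk (M * M') (N * N') := by
  simp [blk, Matrix.reindex_apply, Matrix.submatrix_mul_equiv, Matrix.fromBlocks_multiply]

omit hF p [Fact p.Prime] [CharP F p] in
theorem blk_one {k l : ℕ} : blk (1 : Matrix (Fin k) (Fin k) F) (1 : Matrix (Fin l) (Fin l) F) = 1 := by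
  simp [blk, Matrix.fromBlocks_one]

omit hF p [Fact p.Prime] [CharP F p] in
theorem blk_pow {k l : ℕ} (M : Matrix (Fin k) (Fin k) F) (N : Matrix (Fin l) (Fin l) F) (j : ℕ) :
    blk M N ^ j = blk (M ^ j) (N ^ j) := by
  induction j with
  | zero => simp [blk_one]
  | succ j ih => rw [pow_succ, ih, blk_mul, pow_succ, pow_succ]

omit hF p [Fact p.Prime] [CharP F p] in
theorem blk_charpoly {k l : ℕ} (M : Matrix (Fin k) (Fin k) F) (N : Matrix (Fin l) (Fin l) F) :
    (blk M N).charpoly = M.charpoly * N.charpoly := by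
  rw [blk, Matrix.charpoly_reindex, Matrix.charpoly_fromBlocks_zero₁₂]

omit hF p [Fact p.Prime] [CharP F p] in
theorem blk_det {k l : ℕ} (M : Matrix (Fin k) (Fin k) F) (N : Matrix (Fin l) (Fin l) F) :
    (blk M N).det = M.det * N.det := by
  rw [blk, Matrix.det_reindex_self, Matrix.det_fromBlocks_zero₁₂]

theorem exists_blk {k l : ℕ} {M : Matrix (Fin k) (Fin k) F} {N : Matrix (Fin l) (Fin l) F}
    (hM : hstar q M * M = 1) (hN : hstar q N * N = 1) : ∃ B : GU (k + l) F q, gmat B = blk M N := by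
  have h : Preserves q (blk M N) := by rw [preserves_iff_hstar hF, hstar_blk hF, blk_mul, hM, hN, blk_one]
  exact ⟨toGU hF h, coe_toGU hF h⟩

theorem exists_centraliser_det_cyclic {k : ℕ} (hk : 0 < k) (g : GU k F q) (hg : (orderOf g).Coprime p)
    (hsq : Squarefree (gmat g).charpoly) (d : F) (hd : d ^ (q + 1) = 1) :
    ∃ u : Matrix (Fin k) (Fin k) F, hstar q u * u = 1 ∧ Commute u (gmat g) ∧ u.det = d := by
  haveI : NeZero k := ⟨hk.ne'⟩
  set G := gmat g
  have hG : hstar q G * G = 1 := (preserves_iff_hstar hF).1 g.2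
  have hd0 : d ≠ 0 := fun h => by simp [h] at hd
  obtain ⟨b, hb⟩ : (Units.mk0 d hd0) ∈ (powMonoidHom (q - 1) : Fˣ →* Fˣ).range := by
    rw [range_pow_sub_eq_ker hF, MonoidHom.mem_ker, powMonoidHom_apply]
    exact Units.ext (by simpa using hd)
  have hpow : (Matrix.toLinAlgEquiv' G) ^ orderOf g = 1 := by
    rw [← map_pow, show G ^ orderOf g = 1 by
      show ((g : GL (Fin k) F) : Matrix (Fin k) (Fin k) F) ^ orderOf g = 1
      rw [← Units.val_pow_eq_pow_val, ← SubgroupClass.coe_pow, pow_orderOf_eq_one, OneMemClass.coe_one,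
        Units.val_one], map_one]
  obtain ⟨r, hr⟩ := exists_aeval_det (PPrime.cast_orderOf_ne_zero hg) (Matrix.toLinAlgEquiv' G) hpow
    (by rw [show (Matrix.toLinAlgEquiv' G).charpoly = G.charpoly from Matrix.charpoly_toLin' G]; exact hsq)
    ((↑b⁻¹ : F))
  set c := aeval G r
  have hdet : c.det = (↑b⁻¹ : F) := by
    rw [← hr, aeval_algEquiv, AlgHom.comp_apply, ← LinearMap.det_toLin']
    rfl
  have hcu : IsUnit c := (Matrix.isUnit_iff_isUnit_det _).2 (by rw [hdet]; exact b⁻¹.isUnit)
  have hcG : Commute c G := adjoin_commute (Commute.refl G) (aeval_mem_adjoin_singleton F G)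
  have hGG : Commute G (hstar q G) := (mul_eq_one_comm.1 hG).trans hG.symm
  have hcG' : Commute (hstar q c) G := by
    have h : Commute c (hstar q G) := adjoin_commute hGG (aeval_mem_adjoin_singleton F G)
    have h' := congrArg (hstar q) h.eq
    rw [hstar_mul hF, hstar_mul hF, hstar_hstar hF] at h'
    exact h'.symm
  have hcc : Commute c (hstar q c) := adjoin_commute hcG'.symm (aeval_mem_adjoin_singleton F G)
  obtain ⟨C', hC'⟩ := hstar_isUnit hF hcu
  refine ⟨c * (↑C'⁻¹ : Matrix (Fin k) (Fin k) F), ?_, hcG.mul_left (by rw [← hC'] at hcG'; exact hcG'.units_inv_left), ?_⟩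
  · have h1 : hstar q (↑C'⁻¹ : Matrix (Fin k) (Fin k) F) * c = 1 := by
      have h2 := congrArg (hstar q) (Units.mul_inv C')
      rwa [hstar_mul hF, hC', hstar_hstar hF, hstar_one hF] at h2
    rw [hstar_mul hF, mul_assoc, ← mul_assoc (hstar q c), ← hcc.eq, mul_assoc c, ← hC', Units.mul_inv, mul_one, h1]
  · have hstd : (hstar q c).det = (↑b⁻¹ : F) ^ q := by
      rw [hstar_eq_map hF, Matrix.det_transpose, ← RingHom.map_det, hdet]; rfl
    have h3 : (C' : Matrix (Fin k) (Fin k) F).det * (↑C'⁻¹ : Matrix (Fin k) (Fin k) F).det = 1 := by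
      rw [← Matrix.det_mul, Units.mul_inv, Matrix.det_one]
    rw [Matrix.det_mul, hdet, eq_inv_of_mul_eq_one_right h3, hC', hstd]
    have hbd : ((b : F)) ^ (q - 1) = d := congrArg Units.val hb
    have hbq : (b : F) ^ q = (b : F) ^ (q - 1) * b := by rw [← pow_succ, Nat.sub_add_cancel (q_pos hF)]
    rw [Units.val_inv_eq_inv_val, inv_pow, inv_inv, hbq, hbd, mul_comm d, ← mul_assoc,
      inv_mul_cancel₀ b.ne_zero, one_mul]

set_option maxHeartbeats 1000000 in
/-- The centraliser in `GU` of a `p'`-element has every possible determinant. -/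
theorem exists_centraliser_det (hn : 0 < n) (g : GU n F q) (hg : (orderOf g).Coprime p) (d : F)
    (hd : d ^ (q + 1) = 1) : ∃ u : GU n F q, Commute u g ∧ (gmat u).det = d := by
  set G := gmat g
  have hG : hstar q G * G = 1 := (preserves_iff_hstar hF).1 g.2
  have hGN : G ^ orderOf g = 1 := by
    show ((g : GL (Fin n) F) : Matrix (Fin n) (Fin n) F) ^ orderOf g = 1
    rw [← Units.val_pow_eq_pow_val, ← SubgroupClass.coe_pow, pow_orderOf_eq_one, OneMemClass.coe_one, Units.val_one]
  set m := minpoly F G with hmdef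
  have hm : m.Monic := minpoly.monic (Matrix.isIntegral G)
  have hNF : ((orderOf g : ℕ) : F) ≠ 0 := PPrime.cast_orderOf_ne_zero hg
  have hmX : m ∣ X ^ orderOf g - 1 := minpoly.dvd F G (by simp [hGN])
  have hmsq : Squarefree m :=
    Squarefree.squarefree_of_dvd hmX (Polynomial.separable_X_pow_sub_C (1 : F) hNF one_ne_zero).squarefree
  have hm0 : m.coeff 0 ≠ 0 := by
    obtain ⟨s, hs⟩ := hmX
    intro h
    have h' := congrArg (fun t => t.coeff 0) hs
    simp [mul_coeff_zero, h, coeff_X_pow, (orderOf_pos g).ne] at h'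
  obtain ⟨P2, hP2⟩ := Matrix.minpoly_dvd_charpoly G
  rw [← hmdef] at hP2
  have hP2m : P2.Monic := hm.of_mul_monic_left (hP2 ▸ Matrix.charpoly_monic G)
  have hdm := dual_minpoly hF hG hm0
  rw [← hmdef] at hdm
  have hd2 : dual hF P2 = P2 := by
    have h := dual_charpoly hF hG
    rw [hP2, dual_mul hF, hdm] at h
    exact mul_left_cancel₀ hm.ne_zero h
  have hP20 : P2.coeff 0 ≠ 0 := by
    intro h
    have h1 : G.det = 0 := by rw [det_eq_coeff hF, hP2, mul_coeff_zero, h, mul_zero, mul_zero]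
    exact ((Matrix.isUnit_iff_isUnit_det _).1 (g : GL (Fin n) F).isUnit).ne_zero h1
  haveI : NeZero n := ⟨hn.ne'⟩
  have hk0 : 0 < m.natDegree := minpoly.natDegree_pos (Matrix.isIntegral G)
  obtain ⟨k, hk⟩ : ∃ k, m.natDegree = k := ⟨_, rfl⟩
  obtain ⟨l, hl⟩ : ∃ l, P2.natDegree = l := ⟨_, rfl⟩
  obtain rfl : n = k + l := by
    rw [← hk, ← hl, ← hm.natDegree_mul hP2m, ← hP2, Matrix.charpoly_natDegree_eq_dim, Fintype.card_fin]
  obtain ⟨B1, hB1, hB1c⟩ := exists_model hF p hm hk hm0 hdm
  obtain ⟨B2, hB2, hB2c⟩ := exists_model hF p hP2m hl hP20 hd2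
  obtain ⟨u1, hu1, hu1c, hu1d⟩ := exists_centraliser_det_cyclic hF p (hk ▸ hk0) B1 hB1 (hB1c ▸ hmsq) d hd
  obtain ⟨B, hB⟩ := exists_blk hF ((preserves_iff_hstar hF).1 B1.2) ((preserves_iff_hstar hF).1 B2.2)
  obtain ⟨u, hu⟩ := exists_blk hF hu1 (N := (1 : Matrix (Fin l) (Fin l) F)) (by rw [hstar_one hF, one_mul])
  have hBc : (gmat B).charpoly = G.charpoly := by
    rw [hB, blk_charpoly, hP2]
    exact congrArg₂ (· * ·) hB1c hB2c
  set N := orderOf g * orderOf B1 * orderOf B2 with hNdef
  have hN : (N : F) ≠ 0 := by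
    rw [hNdef, Nat.cast_mul, Nat.cast_mul]
    exact mul_ne_zero (mul_ne_zero hNF (PPrime.cast_orderOf_ne_zero hB1)) (PPrime.cast_orderOf_ne_zero hB2)
  have hBN : (B : GL (Fin (k + l)) F) ^ N = 1 := by
    refine Units.ext ?_
    have h1 : gmat B1 ^ N = 1 := gmat_pow_eq_one B1 ((dvd_mul_left _ _).trans (dvd_mul_right _ _))
    have h2 : gmat B2 ^ N = 1 := gmat_pow_eq_one B2 (dvd_mul_left _ _)
    rw [Units.val_pow_eq_pow_val, Units.val_one]
    show gmat B ^ N = 1
    rw [hB, blk_pow]
    exact (congrArg₂ blk h1 h2).trans blk_one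
  have hgN : (g : GL (Fin (k + l)) F) ^ N = 1 := by
    rw [← SubgroupClass.coe_pow, orderOf_dvd_iff_pow_eq_one.1 ((dvd_mul_right _ _).trans (dvd_mul_right _ _))]
    rfl
  obtain ⟨x, hx⟩ := isConj_iff.1 ((isConj_GU_iff hF B g).2 (isConj_GL_of_charpoly hN _ _ hBN hgN hBc))
  refine ⟨x * u * x⁻¹, ?_, ?_⟩
  · rw [← hx]
    have hub : Commute u B := by
      refine Subtype.ext (Units.ext ?_)
      show gmat u * gmat B = gmat B * gmat u
      rw [hu, hB, blk_mul, blk_mul]
      exact congrArg₂ blk hu1c.eq ((one_mul _).trans (mul_one _).symm)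
    show x * u * x⁻¹ * (x * B * x⁻¹) = x * B * x⁻¹ * (x * u * x⁻¹)
    calc x * u * x⁻¹ * (x * B * x⁻¹) = x * (u * B) * x⁻¹ := by group
      _ = x * (B * u) * x⁻¹ := by rw [hub.eq]
      _ = _ := by group
  · rw [det_gmat_conj, hu, blk_det, hu1d, Matrix.det_one, mul_one]

omit p [Fact p.Prime] [CharP F p] in
/-- An element of `SU` as an element of `GU`. -/
noncomputable def toG (g : SU n F q) : GU n F q :=
  toGU hF (M := ((g : Matrix.SpecialLinearGroup (Fin n) F) : Matrix (Fin n) (Fin n) F)) g.2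

/-- `p'`-elements of `SU` with the same characteristic polynomial are conjugate. -/
theorem isConj_of_charpoly (g h : SU n F q) (hg : (orderOf g).Coprime p) (hh : (orderOf h).Coprime p)
    (hc : ((g : Matrix.SpecialLinearGroup (Fin n) F) : Matrix (Fin n) (Fin n) F).charpoly =
      ((h : Matrix.SpecialLinearGroup (Fin n) F) : Matrix (Fin n) (Fin n) F).charpoly) : IsConj g h := by
  rcases Nat.eq_zero_or_pos n with rfl | hn
  · rw [show g = h from Subtype.ext (Subtype.ext (Subsingleton.elim _ _))]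
  let ι : SU n F q →* GU n F q :=
    { toFun := toG hF
      map_one' := Subtype.ext (Units.ext (coe_toGU hF _))
      map_mul' := fun a b => Subtype.ext (Units.ext (by
        simp only [toG, Subgroup.coe_mul, Units.val_mul, coe_toGU]
        rfl)) }
  have hι : Function.Injective ι := fun a b hab => by
    have h := congrArg (fun z : GU n F q => gmat z) hab
    simp only [ι, MonoidHom.coe_mk, OneHom.coe_mk, toG, gmat, coe_toGU] at h
    exact Subtype.ext (Subtype.ext h)
  have hord : ∀ a, orderOf (ι a) = orderOf a := orderOf_injective ι hι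
  have hmat : ∀ a : SU n F q, gmat (ι a) = ((a : Matrix.SpecialLinearGroup (Fin n) F) : Matrix (Fin n) (Fin n) F) :=
    fun a => coe_toGU hF a.2
  have hN : ((orderOf g * orderOf h : ℕ) : F) ≠ 0 := by
    rw [Nat.cast_mul]; exact mul_ne_zero (PPrime.cast_orderOf_ne_zero hg) (PPrime.cast_orderOf_ne_zero hh)
  have hGL : IsConj (ι g : GL (Fin n) F) (ι h : GL (Fin n) F) := by
    refine isConj_GL_of_charpoly hN _ _ ?_ ?_ (by
      show (gmat (ι g)).charpoly = (gmat (ι h)).charpoly
      rw [hmat, hmat, hc])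
    · rw [← SubgroupClass.coe_pow, ← hord g, pow_mul, pow_orderOf_eq_one, one_pow]; rfl
    · rw [← SubgroupClass.coe_pow, ← hord h, mul_comm, pow_mul, pow_orderOf_eq_one, one_pow]; rfl
  obtain ⟨x, hx⟩ := isConj_iff.1 ((isConj_GU_iff hF (ι g) (ι h)).2 hGL)
  set d := (gmat x).det
  have hdq : d * d ^ q = 1 := x.2 |> Preserves.det_norm hF
  have hd : (d ^ q) ^ (q + 1) = 1 := by
    rw [← pow_mul, mul_comm, pow_mul, pow_succ, mul_comm (d ^ q) d, hdq, one_pow]
  obtain ⟨u, hug, hud⟩ := exists_centraliser_det hF p hn (ι g) (by rw [hord]; exact hg) (d ^ q) hd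
  have hxu : (gmat (x * u)).det = 1 := by
    rw [gmat_mul, Matrix.det_mul]
    show d * (gmat u).det = 1
    rw [hud, hdq]
  let y : SU n F q := toSU (M := gmat (x * u)) (x * u).2 hxu
  refine isConj_iff.2 ⟨y, hι ?_⟩
  have hy : ι y = x * u := Subtype.ext (Units.ext (hmat y))
  rw [map_mul, map_mul, map_inv, hy, ← hx, _root_.mul_inv_rev, mul_assoc x u, hug.eq]
  group

/-- The coefficient involution. -/
def tau (q m : ℕ) (a : Fin m → F) : Fin m → F := fun i => (-1) ^ (m + 1) * a i.rev ^ q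

theorem card_fixed_tau (m : ℕ) : Nat.card {a : Fin m → F // tau q m a = a} = q ^ m := by
  classical
  obtain ⟨w, hw⟩ : ∃ w : F, w - w ^ q ≠ 0 := by
    by_contra! h
    have h1 := card_fixed hF
    rw [Nat.card_congr (Equiv.subtypeUnivEquiv fun x => (sub_eq_zero.1 (h x)).symm), Nat.card_eq_fintype_card, hF] at h1
    have := two_le_q hF
    nlinarith
  have hsq : ((-1 : F) ^ (m + 1)) ^ q = (-1) ^ (m + 1) := by
    rw [← pow_mul, mul_comm, pow_mul, neg_pow_q hF, one_pow]
  have hinv : ∀ a : Fin m → F, tau q m (tau q m a) = a := fun a => funext fun i => by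
    simp only [tau, Fin.rev_rev, mul_pow, hsq, pow_q_q hF]
    rw [← mul_assoc, ← mul_pow, neg_mul_neg, one_mul, one_pow, one_mul]
  have hadd : ∀ a b : Fin m → F, tau q m (a + b) = tau q m a + tau q m b := fun a b => funext fun i => by
    simp [tau, add_pow_q hF, mul_add]
  have hsub : ∀ a b : Fin m → F, tau q m (a - b) = tau q m a - tau q m b := fun a b => funext fun i => by
    simp [tau, sub_pow_q hF, mul_sub]
  have hsmul : ∀ (c : F) (a : Fin m → F), tau q m (c • a) = c ^ q • tau q m a := fun c a => funext fun i => by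
    simp only [tau, Pi.smul_apply, smul_eq_mul, mul_pow]; ring
  let Φ : {a : Fin m → F // tau q m a = a} × {a : Fin m → F // tau q m a = a} → (Fin m → F) :=
    fun x => x.1.1 + w • x.2.1
  have hΦ : Function.Bijective Φ := by
    constructor
    · rintro ⟨⟨a, ha⟩, ⟨b, hb⟩⟩ ⟨⟨a', ha'⟩, ⟨b', hb'⟩⟩ h
      have h' : a + w • b = a' + w • b' := h
      have h1 := congrArg (tau q m) h'
      rw [hadd, hadd, hsmul, hsmul, ha, ha', hb, hb'] at h1
      have h2 : (w - w ^ q) • (b - b') = 0 := by
        linear_combination (norm := module) h' - h1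
      have hbb : b = b' := sub_eq_zero.1 ((smul_eq_zero.1 h2).resolve_left hw)
      subst hbb
      obtain rfl : a = a' := add_right_cancel h'
      rfl
    · intro v
      set b := (w - w ^ q)⁻¹ • (v - tau q m v) with hb
      have hwq : (w - w ^ q) ^ q = -(w - w ^ q) := by rw [sub_pow_q hF, pow_q_q hF, neg_sub]
      have hbf : tau q m b = b := by
        rw [hb, hsmul, hsub, hinv, inv_pow, hwq, inv_neg, neg_smul, ← smul_neg, neg_sub]
      refine ⟨(⟨v - w • b, ?_⟩, ⟨b, hbf⟩), sub_add_cancel _ _⟩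
      rw [hsub, hsmul, hbf]
      have h1 : (w - w ^ q) • b = v - tau q m v := by rw [hb, smul_smul, mul_inv_cancel₀ hw, one_smul]
      linear_combination (norm := module) h1
  have h := Nat.card_eq_of_bijective Φ hΦ
  rw [Nat.card_prod, Nat.card_fun, Nat.card_eq_fintype_card (α := F), hF, Nat.card_eq_fintype_card (α := Fin m),
    Fintype.card_fin] at h
  rw [← pow_mul, mul_comm 2, pow_mul, sq] at h
  exact Nat.mul_self_inj.1 h

theorem coeff_dual {P : F[X]} {k : ℕ} (hk : P.natDegree = k) (i : ℕ) (hi : i ≤ k) :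
    (dual hF P).coeff i = (P.coeff 0 ^ q)⁻¹ * P.coeff (k - i) ^ q := by
  rw [dual, coeff_C_mul, coeff_reverse, natDegree_map_eq_of_injective (frob hF).toRingHom.injective, hk, revAt_le hi,
    coeff_map]
  rfl

theorem sign_inv (k : ℕ) : (((-1 : F) ^ k) ^ q)⁻¹ = (-1) ^ k := by
  rw [← pow_mul, mul_comm, pow_mul, neg_pow_q hF, one_pow, ← inv_pow, inv_neg, inv_one]

/-- Classes of `p'`-elements of `SU_n(q)` are counted by `q ^ (n - 1)`. -/
theorem card_classes (hn : 1 ≤ n) :
    Nat.card {c : ConjClasses ↥(SU n F q) //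
      ∃ g : ↥(SU n F q), ConjClasses.mk g = c ∧ (orderOf g).Coprime p} = q ^ (n - 1) := by
  classical
  obtain ⟨m, rfl⟩ : ∃ m, n = m + 1 := ⟨n - 1, by omega⟩
  rw [Nat.add_sub_cancel, ← card_fixed_tau hF m]
  let ch : SU (m + 1) F q → F[X] := fun g =>
    ((g : Matrix.SpecialLinearGroup (Fin (m + 1)) F) : Matrix (Fin (m + 1)) (Fin (m + 1)) F).charpoly
  have hch0 : ∀ g, (ch g).coeff 0 = (-1) ^ (m + 1) := by
    intro g
    have h := det_eq_coeff hF ((g : Matrix.SpecialLinearGroup (Fin (m + 1)) F) : Matrix (Fin (m + 1)) (Fin (m + 1)) F)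
    rw [Matrix.SpecialLinearGroup.det_coe] at h
    calc (ch g).coeff 0 = ((-1) ^ (m + 1) * (-1) ^ (m + 1)) * (ch g).coeff 0 := by
          rw [← mul_pow, neg_mul_neg, one_mul, one_pow, one_mul]
      _ = (-1) ^ (m + 1) := by rw [mul_assoc, ← h, mul_one]
  have hchd : ∀ g, (ch g).natDegree = m + 1 := fun g => by
    rw [Matrix.charpoly_natDegree_eq_dim, Fintype.card_fin]
  have hsd : ∀ g (i : Fin m), tau q m (fun j => (ch g).coeff ((j : ℕ) + 1)) i = (ch g).coeff ((i : ℕ) + 1) := by
    intro g i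
    have h : (dual hF (ch g)).coeff ((i : ℕ) + 1) = (ch g).coeff ((i : ℕ) + 1) :=
      congrArg (fun P => P.coeff ((i : ℕ) + 1)) (dual_charpoly hF ((preserves_iff_hstar hF).1 g.2))
    rw [coeff_dual hF (hchd g) _ (by omega), show _ = (-1 : F) ^ (m + 1) from hch0 g, sign_inv hF] at h
    rw [← h, tau, Fin.val_rev]
    congr 3
    have := i.isLt
    omega
  let Φ : {c : ConjClasses ↥(SU (m + 1) F q) //
      ∃ g : ↥(SU (m + 1) F q), ConjClasses.mk g = c ∧ (orderOf g).Coprime p} →
      {a : Fin m → F // tau q m a = a} :=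
    fun c => ⟨fun j => (ch c.2.choose).coeff ((j : ℕ) + 1), funext fun i => hsd _ i⟩
  refine Nat.card_eq_of_bijective Φ ⟨fun c d hcd => ?_, fun a => ?_⟩
  · apply Subtype.ext
    rw [← c.2.choose_spec.1, ← d.2.choose_spec.1, ConjClasses.mk_eq_mk_iff_isConj]
    refine isConj_of_charpoly hF p _ _ c.2.choose_spec.2 d.2.choose_spec.2 ?_
    refine Polynomial.ext fun i => ?_
    show (ch c.2.choose).coeff i = (ch d.2.choose).coeff i
    rcases i with _ | i
    · rw [hch0, hch0]
    rcases lt_trichotomy i m with hi | rfl | hi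
    · exact congrFun (congrArg Subtype.val hcd) ⟨i, hi⟩
    · have htop : ∀ g, (ch g).coeff (i + 1) = 1 := fun g => by
        conv_lhs => rw [← hchd g]
        exact (Matrix.charpoly_monic _).coeff_natDegree
      rw [htop, htop]
    · rw [coeff_eq_zero_of_natDegree_lt (by rw [hchd]; omega), coeff_eq_zero_of_natDegree_lt (by rw [hchd]; omega)]
  · obtain ⟨a, ha⟩ := a
    set P : F[X] := X ^ (m + 1) + (C ((-1) ^ (m + 1)) + ∑ i : Fin m, C (a i) * X ^ ((i : ℕ) + 1)) with hPdef
    have hlt : (C ((-1 : F) ^ (m + 1)) + ∑ i : Fin m, C (a i) * X ^ ((i : ℕ) + 1)).degree < ((m + 1 : ℕ) : WithBot ℕ) := by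
      refine (degree_add_le _ _).trans_lt (max_lt (degree_C_le.trans_lt (WithBot.coe_lt_coe.2 (Nat.succ_pos m))) ?_)
      exact (degree_sum_le _ _).trans_lt ((Finset.sup_lt_iff (WithBot.bot_lt_coe _)).2 fun i _ =>
        (degree_C_mul_X_pow_le _ _).trans_lt (WithBot.coe_lt_coe.2 (Nat.succ_lt_succ i.isLt)))
    have hPm : P.Monic := monic_X_pow_add hlt
    have hPd : P.natDegree = m + 1 := natDegree_eq_of_degree_eq_some (by
      rw [hPdef, degree_add_eq_left_of_degree_lt (by rw [degree_X_pow]; exact hlt), degree_X_pow])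
    have hP0 : P.coeff 0 = (-1) ^ (m + 1) := by
      rw [hPdef, coeff_add, coeff_add, coeff_X_pow, coeff_C_zero, finsetSum_coeff]
      simp
    have hPi : ∀ i : Fin m, P.coeff ((i : ℕ) + 1) = a i := by
      intro i
      rw [hPdef, coeff_add, coeff_add, coeff_X_pow, if_neg (by omega), coeff_C, if_neg (by omega), finsetSum_coeff,
        Finset.sum_eq_single i (fun b _ hb => by rw [coeff_C_mul_X_pow, if_neg fun h => hb (Fin.ext (by omega))])
          (by simp), coeff_C_mul_X_pow, if_pos rfl, zero_add, zero_add]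
    have hP0' : P.coeff 0 ≠ 0 := by rw [hP0]; exact pow_ne_zero _ (neg_ne_zero.2 one_ne_zero)
    have htop : P.coeff (m + 1) = 1 := by rw [← hPd]; exact hPm.coeff_natDegree
    have hdual : dual hF P = P := by
      refine Polynomial.ext fun i => ?_
      rcases le_or_gt i (m + 1) with hi | hi
      · rw [coeff_dual hF hPd i hi, hP0, sign_inv hF]
        rcases i with _ | i
        · rw [Nat.sub_zero, htop, hP0, one_pow, mul_one]
        rcases Nat.lt_or_eq_of_le (Nat.le_of_succ_le_succ hi) with hi' | rfl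
        · have h1 := congrFun ha ⟨i, hi'⟩
          rw [show m + 1 - (i + 1) = ((Fin.rev ⟨i, hi'⟩ : Fin m) : ℕ) + 1 by simp [Fin.val_rev]; omega, hPi,
            show P.coeff (i + 1) = a ⟨i, hi'⟩ from hPi ⟨i, hi'⟩]
          exact h1
        · rw [Nat.sub_self, hP0, htop, ← pow_mul, mul_comm _ q, pow_mul, neg_pow_q hF, one_pow, ← mul_pow, neg_mul_neg,
            one_mul, one_pow]
      · have hle : (dual hF P).natDegree ≤ m + 1 := by
          rw [dual]
          refine (natDegree_C_mul_le _ _).trans ((Polynomial.reverse_natDegree_le _).trans ?_)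
          rw [natDegree_map_eq_of_injective (frob hF).toRingHom.injective, hPd]
        rw [coeff_eq_zero_of_natDegree_lt (hle.trans_lt hi), coeff_eq_zero_of_natDegree_lt (hPd ▸ hi)]
    obtain ⟨B, hB, hBc⟩ := exists_model hF p hPm hPd hP0' hdual
    have hBd : (gmat B).det = 1 := by
      rw [det_eq_coeff hF, hBc, hP0, ← mul_pow, neg_mul_neg, one_mul, one_pow]
    let g : SU (m + 1) F q := toSU (M := gmat B) B.2 hBd
    have hgo : (orderOf g).Coprime p := by
      refine hB.coprime_dvd_left ?_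
      rw [orderOf_dvd_iff_pow_eq_one]
      refine Subtype.ext (Subtype.ext ?_)
      rw [SubgroupClass.coe_pow, Matrix.SpecialLinearGroup.coe_pow]
      exact gmat_pow_eq_one B dvd_rfl
    refine ⟨⟨ConjClasses.mk g, g, rfl, hgo⟩, Subtype.ext (funext fun j => ?_)⟩
    set d : {c : ConjClasses ↥(SU (m + 1) F q) //
      ∃ g : ↥(SU (m + 1) F q), ConjClasses.mk g = c ∧ (orderOf g).Coprime p} := ⟨ConjClasses.mk g, g, rfl, hgo⟩
    obtain ⟨u, hu⟩ := isConj_iff.1 (ConjClasses.mk_eq_mk_iff_isConj.1 d.2.choose_spec.1)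
    show (ch d.2.choose).coeff ((j : ℕ) + 1) = a j
    have hcg : ch g = P := hBc
    rw [← hPi j, ← hcg]
    congr 1
    simp only [ch]
    rw [← hu]
    simp only [Subgroup.coe_mul, Matrix.SpecialLinearGroup.coe_mul, Subgroup.coe_inv]
    rw [Matrix.charpoly_mul_comm, ← Matrix.mul_assoc, ← Matrix.SpecialLinearGroup.coe_mul, inv_mul_cancel,
      Matrix.SpecialLinearGroup.coe_one, Matrix.one_mul]

end Cfsg.Agent.H54.USS
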