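import Mathlib
import Cfsg.Agent.H37.Weyl.Summary

/-!
Centres of the Weyl groups, from the faithful action on root indices.
-/

set_option autoImplicit false

namespace Cfsg.Agent.H54.WeylCenter

open Cfsg.Lie Cfsg.Agent.H37.Weyl

/-- Roots negated by a simple reflection are plus or minus the simple root. -/
def negCheck (C : Cert) (D : ChevalleyDatum) (n : ℕ) : Bool :=
  (List.range n).all fun i => (List.range D.nroots).all fun r =>
    !(C.sigma i r == D.nroots - 1 - r) || (r == D.simple i) || (r == D.nroots - 1 - D.simple i)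

/-- Every positive root is simple or is lowered by some simple reflection. -/
def reachCheck (C : Cert) (D : ChevalleyDatum) (n : ℕ) : Bool :=
  (List.range D.nroots).all fun r =>
    decide (r < D.nroots / 2) || (List.range n).any (fun i =>
      (r == D.simple i) || (decide (D.nroots / 2 ≤ C.sigma i r) && decide (C.sigma i r < r)))

/-- The word consists of indices of generators and negates every root. -/
def negWordCheck (C : Cert) (D : ChevalleyDatum) (w : List ℕ) : Bool :=
  (List.range D.nroots).all fun r => C.act w r == D.nroots - 1 - r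

/-- Along the order `ord` every node is linked to an earlier one by a simply laced edge. -/
def linkCheck (C : Cert) (D : ChevalleyDatum) : List ℕ → List ℕ → Bool
  | _, [] => true
  | seen, i :: rest =>
    ((seen == []) || seen.any (fun j => C.sigma i (D.simple j) == C.sigma j (D.simple i))) &&
      linkCheck C D (i :: seen) rest

/-- Representative words for all elements of the subgroup on the first `k` generators. -/
def allWords (C : Cert) : ℕ → List (List ℕ)
  | 0 => [[]]
  | k + 1 => (allWords C k).flatMap fun u => (lev C k).words.map fun w => u ++ w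

/-- No element changes the signs of the simple roots in a mixed way. -/
def bruteCheck (C : Cert) (D : ChevalleyDatum) (n : ℕ) : Bool :=
  (allWords C n).all fun w =>
    !((List.range n).all fun i =>
      (C.act w (D.simple i) == D.simple i) || (C.act w (D.simple i) == D.nroots - 1 - D.simple i)) ||
    ((List.range n).all fun i => C.act w (D.simple i) == D.simple i) ||
    ((List.range n).all fun i => C.act w (D.simple i) == D.nroots - 1 - D.simple i)

variable {n : ℕ} {M : CoxeterMatrix (Fin n)} {C : Cert} {D : ChevalleyDatum} (hC : Good C D M)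

/-- The root index of `p_i`. -/
def pIdx (i : ℕ) (hi : i < n) : Fin D.nroots := ⟨D.simple i, (hC.simple_spec hi).2.1⟩

lemma sigma_simple (hneg : negCheck C D n = true) {z : M.Group} (hz : z ∈ Subgroup.center M.Group)
    (i : ℕ) (hi : i < n) (hsimp : C.sigma i (D.simple i) = D.nroots - 1 - D.simple i) :
    (hC.hom z (pIdx hC i hi)).val = D.simple i ∨
      (hC.hom z (pIdx hC i hi)).val = D.nroots - 1 - D.simple i := by
  have hcomm : hC.hom (gen M i) (hC.hom z (pIdx hC i hi)) = hC.hom z (hC.hom (gen M i) (pIdx hC i hi)) := by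
    rw [← Equiv.Perm.mul_apply, ← Equiv.Perm.mul_apply, ← map_mul, ← map_mul,
      (Subgroup.mem_center_iff.1 hz (gen M i))]
  have h1 := congrArg Fin.val hcomm
  rw [hC.hom_gen_val hi] at h1
  have h2 : hC.hom (gen M i) (pIdx hC i hi) =
      ⟨D.nroots - 1 - D.simple i, by have := (hC.simple_spec hi).2.1; omega⟩ :=
    Fin.ext (by rw [hC.hom_gen_val hi]; exact hsimp)
  rw [h2] at h1
  rw [show (⟨D.nroots - 1 - D.simple i, by have := (hC.simple_spec hi).2.1; omega⟩ : Fin D.nroots) =
    ⟨D.nroots - 1 - (pIdx hC i hi).val, by have := (hC.simple_spec hi).2.1; omega⟩ from rfl, hC.hom_neg] at h1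
  simp only [negCheck, List.all_eq_true, List.mem_range, Bool.or_eq_true, Bool.not_eq_true', beq_eq_false_iff_ne,
    beq_iff_eq] at hneg
  rcases hneg i hi _ (hC.hom z (pIdx hC i hi)).isLt with (h3 | h3) | h3
  · exact absurd h1 h3
  · exact Or.inl h3
  · exact Or.inr h3

/-- All simple roots are negated by their own reflections. -/
def selfNegCheck (C : Cert) (D : ChevalleyDatum) (n : ℕ) : Bool :=
  (List.range n).all fun i => C.sigma i (D.simple i) == D.nroots - 1 - D.simple i

/-- All checks independent of the type. -/
def baseCheck' (C : Cert) (D : ChevalleyDatum) (n : ℕ) : Bool :=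
  negCheck C D n && reachCheck C D n && selfNegCheck C D n

lemma sign_cases (hb : baseCheck' C D n = true) {z : M.Group} (hz : z ∈ Subgroup.center M.Group)
    (i : ℕ) (hi : i < n) :
    (hC.hom z (pIdx hC i hi)).val = D.simple i ∨
      (hC.hom z (pIdx hC i hi)).val = D.nroots - 1 - D.simple i := by
  simp only [baseCheck', selfNegCheck, Bool.and_eq_true, List.all_eq_true, List.mem_range, beq_iff_eq] at hb
  exact sigma_simple hC hb.1.1 hz i hi (hb.2 i hi)

lemma agree_of_simple (hb : baseCheck' C D n = true) (π : Equiv.Perm (Fin D.nroots))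
    (hπc : ∀ i < n, ∀ r, hC.hom (gen M i) (π r) = π (hC.hom (gen M i) r))
    {z : M.Group} (hz : z ∈ Subgroup.center M.Group)
    (hπn : ∀ r : Fin D.nroots, (π ⟨D.nroots - 1 - r.val, by omega⟩).val = D.nroots - 1 - (π r).val)
    (h : ∀ i (hi : i < n), hC.hom z (pIdx hC i hi) = π (pIdx hC i hi)) : hC.hom z = π := by
  simp only [baseCheck', reachCheck, Bool.and_eq_true, List.all_eq_true, List.mem_range, Bool.or_eq_true,
    decide_eq_true_eq, List.any_eq_true, beq_iff_eq] at hb
  have hcz : ∀ (i : ℕ) (x : Fin D.nroots), hC.hom z (hC.hom (gen M i) x) = hC.hom (gen M i) (hC.hom z x) := by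
    intro i x
    rw [← Equiv.Perm.mul_apply, ← Equiv.Perm.mul_apply, ← map_mul, ← map_mul,
      Subgroup.mem_center_iff.1 hz (gen M i)]
  have hpos : ∀ m, ∀ r : Fin D.nroots, r.val = m → D.nroots / 2 ≤ r.val → hC.hom z r = π r := by
    intro m
    induction m using Nat.strong_induction_on with
    | _ m ih =>
      intro r hr hhalf
      rcases hb.1.2 r.val r.isLt with h1 | ⟨i, hi, h2⟩
      · omega
      · rcases h2 with h2 | ⟨h2, h3⟩
        · have : r = pIdx hC i hi := Fin.ext h2
          rw [this]; exact h i hi
        · let s := hC.hom (gen M i) r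
          have hs : s.val = C.sigma i r.val := hC.hom_gen_val hi r
          have h4 := ih s.val (by omega) s rfl (by omega)
          have h5 : hC.hom (gen M i) s = r := by
            show hC.hom (gen M i) (hC.hom (gen M i) r) = r
            rw [← Equiv.Perm.mul_apply, ← map_mul, gen_mul_self, map_one, Equiv.Perm.one_apply]
          calc hC.hom z r = hC.hom z (hC.hom (gen M i) s) := by rw [h5]
            _ = hC.hom (gen M i) (hC.hom z s) := hcz i s
            _ = hC.hom (gen M i) (π s) := by rw [h4]
            _ = π (hC.hom (gen M i) s) := hπc i hi s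
            _ = π r := by rw [h5]
  ext r
  by_cases hr : D.nroots / 2 ≤ r.val
  · rw [hpos r.val r rfl hr]
  · have hev := hC.even
    have h1 := hpos _ ⟨D.nroots - 1 - r.val, by omega⟩ rfl (by simp only; omega)
    have h2 := congrArg Fin.val h1
    rw [hC.hom_neg, hπn] at h2
    have := (hC.hom z r).isLt
    have := (π r).isLt
    omega

lemma eq_one_of_pos (hb : baseCheck' C D n = true) {z : M.Group} (hz : z ∈ Subgroup.center M.Group)
    (h : ∀ i (hi : i < n), (hC.hom z (pIdx hC i hi)).val = D.simple i) : z = 1 := by
  apply hC.hom_injective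
  rw [map_one]
  exact agree_of_simple hC hb 1 (fun i _ r => rfl) hz (fun r => rfl) (fun i hi => Fin.ext (h i hi))

/-- Negation of root indices. -/
def negPerm (D : ChevalleyDatum) : Equiv.Perm (Fin D.nroots) :=
  Function.Involutive.toPerm (fun r => ⟨D.nroots - 1 - r.val, by omega⟩)
    (fun r => Fin.ext (by have := r.isLt; simp only; omega))

lemma negPerm_val (r : Fin D.nroots) : (negPerm D r).val = D.nroots - 1 - r.val := rfl

lemma negPerm_comm (g : M.Group) (r : Fin D.nroots) : hC.hom g (negPerm D r) = negPerm D (hC.hom g r) :=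
  Fin.ext (hC.hom_neg g r)

lemma hom_eq_neg (hb : baseCheck' C D n = true) {z : M.Group} (hz : z ∈ Subgroup.center M.Group)
    (h : ∀ i (hi : i < n), (hC.hom z (pIdx hC i hi)).val = D.nroots - 1 - D.simple i) :
    hC.hom z = negPerm D :=
  agree_of_simple hC hb (negPerm D) (fun i _ r => negPerm_comm hC (gen M i) r) hz
    (fun r => rfl) (fun i hi => Fin.ext (h i hi))

lemma link_signs (hb : baseCheck' C D n = true) {z : M.Group} (hz : z ∈ Subgroup.center M.Group)
    (i j : ℕ) (hi : i < n) (hj : j < n) (h : C.sigma i (D.simple j) = C.sigma j (D.simple i))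
    (hpj : (hC.hom z (pIdx hC j hj)).val = D.simple j) : (hC.hom z (pIdx hC i hi)).val = D.simple i := by
  rcases sign_cases hC hb hz i hi with h1 | h1
  · exact h1
  exfalso
  have e1 : hC.hom (gen M i) (pIdx hC j hj) = hC.hom (gen M j) (pIdx hC i hi) :=
    Fin.ext (by rw [hC.hom_gen_val hi, hC.hom_gen_val hj]; exact h)
  have e2 := congrArg (hC.hom z) e1
  rw [← Equiv.Perm.mul_apply, ← Equiv.Perm.mul_apply, ← map_mul, ← map_mul,
    ← Subgroup.mem_center_iff.1 hz (gen M i), ← Subgroup.mem_center_iff.1 hz (gen M j), map_mul, map_mul,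
    Equiv.Perm.mul_apply, Equiv.Perm.mul_apply] at e2
  have a1 : hC.hom z (pIdx hC j hj) = pIdx hC j hj := Fin.ext hpj
  have a2 : hC.hom z (pIdx hC i hi) = negPerm D (pIdx hC i hi) := Fin.ext h1
  rw [a1, a2, negPerm_comm, e1] at e2
  have e3 := congrArg Fin.val e2
  rw [negPerm_val] at e3
  have := hC.even
  have := (hC.hom (gen M j) (pIdx hC i hi)).isLt
  omega

lemma link_signs_neg (hb : baseCheck' C D n = true) {z : M.Group} (hz : z ∈ Subgroup.center M.Group)
    (i j : ℕ) (hi : i < n) (hj : j < n) (h : C.sigma i (D.simple j) = C.sigma j (D.simple i))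
    (hpj : (hC.hom z (pIdx hC j hj)).val = D.nroots - 1 - D.simple j) :
    (hC.hom z (pIdx hC i hi)).val = D.nroots - 1 - D.simple i := by
  rcases sign_cases hC hb hz i hi with h1 | h1
  · have h2 := link_signs hC hb hz j i hj hi h.symm h1
    have h3 : (hC.hom z (pIdx hC j hj)).val ≠ D.simple j := by
      have := hC.even
      have := (hC.simple_spec hj).2.1
      omega
    exact absurd h2 h3
  · exact h1

lemma signs_of_link (hb : baseCheck' C D n = true) {z : M.Group} (hz : z ∈ Subgroup.center M.Group)
    (ord : List ℕ) (hord : linkCheck C D [] ord = true) (hlt : ∀ i ∈ ord, i < n) (hmem : ∀ i < n, i ∈ ord) :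
    (∀ i (hi : i < n), (hC.hom z (pIdx hC i hi)).val = D.simple i) ∨
      (∀ i (hi : i < n), (hC.hom z (pIdx hC i hi)).val = D.nroots - 1 - D.simple i) := by
  have key : ∀ (rest seen : List ℕ), linkCheck C D seen rest = true → (∀ i ∈ rest, i < n) → (∀ i ∈ seen, i < n) →
      ((∀ i ∈ seen, ∀ hi : i < n, (hC.hom z (pIdx hC i hi)).val = D.simple i) ∨
        (∀ i ∈ seen, ∀ hi : i < n, (hC.hom z (pIdx hC i hi)).val = D.nroots - 1 - D.simple i)) →
      ((∀ i, (i ∈ seen ∨ i ∈ rest) → ∀ hi : i < n, (hC.hom z (pIdx hC i hi)).val = D.simple i) ∨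
        (∀ i, (i ∈ seen ∨ i ∈ rest) → ∀ hi : i < n, (hC.hom z (pIdx hC i hi)).val = D.nroots - 1 - D.simple i)) := by
    intro rest
    induction rest with
    | nil => intro seen _ _ _ h; simpa using h
    | cons i rest ih =>
      intro seen hl hr hs h
      simp only [linkCheck, Bool.and_eq_true, Bool.or_eq_true, beq_iff_eq, List.any_eq_true] at hl
      have hi : i < n := hr i (by simp)
      have hnew : (∀ k ∈ i :: seen, ∀ hk : k < n, (hC.hom z (pIdx hC k hk)).val = D.simple k) ∨
          (∀ k ∈ i :: seen, ∀ hk : k < n, (hC.hom z (pIdx hC k hk)).val = D.nroots - 1 - D.simple k) := by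
        rcases hl.1 with he | ⟨j, hj, hji⟩
        · subst he
          rcases sign_cases hC hb hz i hi with h1 | h1
          · left; intro k hk hk'; simp only [List.mem_singleton] at hk; subst hk; exact h1
          · right; intro k hk hk'; simp only [List.mem_singleton] at hk; subst hk; exact h1
        · rcases h with h | h
          · left; intro k hk hk'
            rcases List.mem_cons.1 hk with rfl | hk
            · exact link_signs hC hb hz k j hk' (hs j hj) hji (h j hj (hs j hj))
            · exact h k hk hk'
          · right; intro k hk hk'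
            rcases List.mem_cons.1 hk with rfl | hk
            · exact link_signs_neg hC hb hz k j hk' (hs j hj) hji (h j hj (hs j hj))
            · exact h k hk hk'
      have := ih (i :: seen) hl.2 (fun k hk => hr k (by simp [hk]))
        (fun k hk => by rcases List.mem_cons.1 hk with rfl | hk <;> [exact hi; exact hs k hk]) hnew
      rcases this with h2 | h2
      · left; intro k hk; exact h2 k (by simp only [List.mem_cons] at hk ⊢; tauto)
      · right; intro k hk; exact h2 k (by simp only [List.mem_cons] at hk ⊢; tauto)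
  rcases key ord [] hord hlt (by simp) (Or.inl (by simp)) with h | h
  · left; exact fun i hi => h i (Or.inr (hmem i hi)) hi
  · right; exact fun i hi => h i (Or.inr (hmem i hi)) hi

include hC in
lemma exists_word {k : ℕ} (hk : k ≤ n) {g : M.Group} (hg : g ∈ K M k) :
    ∃ w ∈ allWords C k, (∀ i ∈ w, i < n) ∧ g = wOf M w := by
  induction k generalizing g with
  | zero =>
    rw [K_zero, Subgroup.mem_bot] at hg
    exact ⟨[], by simp [allWords], by simp, by rw [hg]; rfl⟩
  | succ k ih =>
    obtain ⟨a, ha, hga⟩ := hC.coset_exists (show k < n by omega) hg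
    obtain ⟨u, hu, hun, hue⟩ := ih (by omega) hga
    have hw : (lev C k).word a ∈ (lev C k).words := by
      rw [Level.word_eq _ ha]; exact List.getElem_mem ha
    refine ⟨u ++ (lev C k).word a, List.mem_flatMap.2 ⟨u, hu, List.mem_map.2 ⟨_, hw, rfl⟩⟩, ?_, ?_⟩
    · intro i hi
      rcases List.mem_append.1 hi with h | h
      · exact hun i h
      · have := (hC.word_spec (show k < n by omega) hw).1 i h; omega
    · rw [wOf_append, ← hue, inv_mul_cancel_right]

lemma signs_of_brute (hb : baseCheck' C D n = true) (hbr : bruteCheck C D n = true) {z : M.Group}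
    (hz : z ∈ Subgroup.center M.Group) :
    (∀ i (hi : i < n), (hC.hom z (pIdx hC i hi)).val = D.simple i) ∨
      (∀ i (hi : i < n), (hC.hom z (pIdx hC i hi)).val = D.nroots - 1 - D.simple i) := by
  obtain ⟨w, hw, hwn, rfl⟩ := exists_word hC le_rfl (g := z) (by rw [K_top]; exact Subgroup.mem_top z)
  simp only [bruteCheck, List.all_eq_true, Bool.or_eq_true, List.mem_range, beq_iff_eq, Bool.not_eq_true'] at hbr
  have hval : ∀ i (hi : i < n), (hC.hom (wOf M w) (pIdx hC i hi)).val = C.act w (D.simple i) := fun i hi =>
    hC.hom_wOf_val hwn _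
  rcases hbr w hw with (h | h) | h
  · exfalso
    have h' : ((List.range n).all fun i => (C.act w (D.simple i) == D.simple i) ||
        (C.act w (D.simple i) == D.nroots - 1 - D.simple i)) = true := by
      simp only [List.all_eq_true, List.mem_range, Bool.or_eq_true, beq_iff_eq]
      intro i hi
      rw [← hval i hi]
      exact sign_cases hC hb hz i hi
    rw [h'] at h
    exact Bool.noConfusion h
  · left; exact fun i hi => (hval i hi).trans (h i hi)
  · right; exact fun i hi => (hval i hi).trans (h i hi)

/-- The Coxeter word repeated `m` times. -/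
def coxWord (n m : ℕ) : List ℕ := (List.replicate m (List.range n)).flatten

lemma wOf_coxWord (m : ℕ) : wOf M (coxWord n m) = (((List.finRange n).map M.simple).prod) ^ m := by
  induction m with
  | zero => rw [pow_zero]; rfl
  | succ m ih =>
    rw [coxWord, List.replicate_succ, List.flatten_cons, wOf_append, ← coxWord, ih, pow_succ']
    congr 1
    rw [wOf, ← List.map_coe_finRange_eq_range, List.map_map]
    congr 1
    exact List.map_congr_left fun i _ => by simp [gen]

lemma coxWord_lt (m : ℕ) : ∀ i ∈ coxWord n m, i < n := by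
  intro i hi
  simp only [coxWord, List.mem_flatten, List.mem_replicate] at hi
  obtain ⟨l, ⟨-, rfl⟩, hi⟩ := hi
  exact List.mem_range.1 hi

theorem center_two (hb : baseCheck' C D n = true) (m : ℕ) (hm : negWordCheck C D (coxWord n m) = true)
    (hpos : 0 < D.nroots)
    (hs : ∀ z ∈ Subgroup.center M.Group,
      (∀ i (hi : i < n), (hC.hom z (pIdx hC i hi)).val = D.simple i) ∨
        (∀ i (hi : i < n), (hC.hom z (pIdx hC i hi)).val = D.nroots - 1 - D.simple i)) :
    Nat.card (Subgroup.center M.Group) = 2 ∧
      Subgroup.center M.Group ≤ Subgroup.zpowers ((List.finRange n).map M.simple).prod := by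
  set c := ((List.finRange n).map M.simple).prod
  have hneg : hC.hom (c ^ m) = negPerm D := by
    rw [← wOf_coxWord]
    ext r
    rw [hC.hom_wOf_val (coxWord_lt m), negPerm_val]
    simp only [negWordCheck, List.all_eq_true, List.mem_range, beq_iff_eq] at hm
    exact hm r.val r.isLt
  have hmem : c ^ m ∈ Subgroup.center M.Group := by
    rw [Subgroup.mem_center_iff]
    intro g
    apply hC.hom_injective
    rw [map_mul, map_mul, hneg]
    ext r
    simp only [Equiv.Perm.mul_apply]
    rw [negPerm_comm]
  have hne : c ^ m ≠ 1 := by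
    intro h
    rw [h, map_one] at hneg
    have h2 := congrArg Fin.val (congrArg (fun π : Equiv.Perm (Fin D.nroots) => π ⟨0, hpos⟩) hneg)
    rw [negPerm_val] at h2
    simp only [Equiv.Perm.one_apply] at h2
    have := hC.even
    omega
  have hall : ∀ z ∈ Subgroup.center M.Group, z = 1 ∨ z = c ^ m := by
    intro z hz
    rcases hs z hz with h | h
    · exact Or.inl (eq_one_of_pos hC hb hz h)
    · exact Or.inr (hC.hom_injective (by rw [hom_eq_neg hC hb hz h, hneg]))
  refine ⟨?_, fun z hz => ?_⟩
  · have : ((Subgroup.center M.Group : Subgroup M.Group) : Set M.Group) = {1, c ^ m} := by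
      ext z
      exact ⟨fun hz => hall z hz, by rintro (rfl | rfl) <;> [exact one_mem _; exact hmem]⟩
    rw [show Nat.card (Subgroup.center M.Group) = Set.ncard ((Subgroup.center M.Group : Subgroup M.Group) : Set M.Group)
      from Nat.card_coe_set_eq _, this, Set.ncard_pair (Ne.symm hne)]
  · rcases hall z hz with rfl | rfl
    · exact one_mem _
    · exact pow_mem (Subgroup.mem_zpowers c) m

include hC in
lemma eq_one_of_inv_eq_zero {degs : List ℕ} (hdeg : C.degCheck n degs = true) (hd : ∀ d ∈ degs, 0 < d)
    {g : M.Group} (hg : hC.inv g = 0) : g = 1 := by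
  classical
  haveI := hC.finite
  haveI : Fintype M.Group := Fintype.ofFinite _
  have h := hC.sum_pow_inv_eq (0 : ℕ) hdeg
  have hprod : (degs.map fun d => ∑ i ∈ Finset.range d, (0 : ℕ) ^ i).prod = 1 := by
    refine List.prod_eq_one (fun x hx => ?_)
    obtain ⟨d, hdm, rfl⟩ := List.mem_map.1 hx
    obtain ⟨e, rfl⟩ := Nat.exists_eq_succ_of_ne_zero (hd d hdm).ne'
    simp [Finset.sum_range_succ']
  rw [hprod] at h
  by_contra hne
  have h2 := Finset.sum_le_sum_of_subset (f := fun x : M.Group => (0 : ℕ) ^ hC.inv x)
    (Finset.subset_univ ({g, 1} : Finset M.Group))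
  rw [h, Finset.sum_pair hne, hg, hC.inv_one] at h2
  simp at h2

theorem center_one (hb : baseCheck' C D n = true) {degs : List ℕ} (hdeg : C.degCheck n degs = true)
    (hd : ∀ d ∈ degs, 0 < d) (w0 : List ℕ) (hw0n : ∀ i ∈ w0, i < n)
    (hw0 : ((List.range D.nroots).all fun r =>
      decide (r < D.nroots / 2) || decide (C.act w0 r < D.nroots / 2)) = true)
    (hw0' : negWordCheck C D w0 = false)
    (hs : ∀ z ∈ Subgroup.center M.Group,
      (∀ i (hi : i < n), (hC.hom z (pIdx hC i hi)).val = D.simple i) ∨
        (∀ i (hi : i < n), (hC.hom z (pIdx hC i hi)).val = D.nroots - 1 - D.simple i)) :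
    Nat.card (Subgroup.center M.Group) = 1 ∧
      Subgroup.center M.Group ≤ Subgroup.zpowers ((List.finRange n).map M.simple).prod := by
  have hbot : Subgroup.center M.Group = ⊥ := by
    rw [Subgroup.eq_bot_iff_forall]
    intro z hz
    rcases hs z hz with h | h
    · exact eq_one_of_pos hC hb hz h
    exfalso
    have hneg := hom_eq_neg hC hb hz h
    simp only [List.all_eq_true, List.mem_range, Bool.or_eq_true, decide_eq_true_eq] at hw0
    have hinv : hC.inv (z * wOf M w0) = 0 := by
      rw [Good.inv, Finset.card_eq_zero, Finset.filter_eq_empty_iff]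
      rintro r - ⟨hr1, hr2⟩
      rw [map_mul, Equiv.Perm.mul_apply, hneg, negPerm_val, hC.hom_wOf_val hw0n] at hr2
      have := hC.even
      rcases hw0 r.val r.isLt with h1 | h1 <;> omega
    have h1 := eq_one_of_inv_eq_zero hC hdeg hd hinv
    have h2 : hC.hom (wOf M w0) = (negPerm D)⁻¹ := by
      refine eq_inv_of_mul_eq_one_right ?_
      rw [← hneg, ← map_mul, h1, map_one]
    have h3 : negWordCheck C D w0 = true := by
      simp only [negWordCheck, List.all_eq_true, List.mem_range, beq_iff_eq]
      intro r hr
      rw [← hC.hom_wOf_val hw0n ⟨r, hr⟩, h2]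
      rfl
    rw [h3] at hw0'
    exact Bool.noConfusion hw0'
  exact ⟨by rw [hbot, Subgroup.card_bot], by rw [hbot]; exact bot_le⟩

end Cfsg.Agent.H54.WeylCenter
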