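import Mathlib
import Cfsg.Agent.H54.WeylCenter

/-!
Centres of the seven Weyl groups.
-/

set_option autoImplicit false
set_option maxRecDepth 10000

namespace Cfsg.Agent.H54.WeylCenter

open Cfsg.Agent.H37.Weyl

theorem baseB2 : baseCheck' certB2 Cfsg.Lie.chevB2 2 = true := by decide +kernel

theorem signB2 : bruteCheck certB2 Cfsg.Lie.chevB2 2 = true := by decide +kernel

theorem centerB2 : Nat.card (Subgroup.center (CoxeterMatrix.B 2).Group) = 2 ∧
    Subgroup.center (CoxeterMatrix.B 2).Group ≤
      Subgroup.zpowers ((List.finRange 2).map (CoxeterMatrix.B 2).simple).prod :=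
  center_two goodB2 baseB2 2 (by decide +kernel) (by decide +kernel)
    (fun z hz => signs_of_brute goodB2 baseB2 signB2 hz)

theorem baseG2 : baseCheck' certG2 Cfsg.Lie.chevG2 2 = true := by decide +kernel

theorem signG2 : bruteCheck certG2 Cfsg.Lie.chevG2 2 = true := by decide +kernel

theorem centerG2 : Nat.card (Subgroup.center CoxeterMatrix.G₂.Group) = 2 ∧
    Subgroup.center CoxeterMatrix.G₂.Group ≤
      Subgroup.zpowers ((List.finRange 2).map CoxeterMatrix.G₂.simple).prod :=
  center_two goodG2 baseG2 3 (by decide +kernel) (by decide +kernel)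
    (fun z hz => signs_of_brute goodG2 baseG2 signG2 hz)

theorem baseF4 : baseCheck' certF4 Cfsg.Lie.chevF4 4 = true := by decide +kernel

theorem signF4 : bruteCheck certF4 Cfsg.Lie.chevF4 4 = true := by decide +kernel

theorem centerF4 : Nat.card (Subgroup.center CoxeterMatrix.F₄.Group) = 2 ∧
    Subgroup.center CoxeterMatrix.F₄.Group ≤
      Subgroup.zpowers ((List.finRange 4).map CoxeterMatrix.F₄.simple).prod :=
  center_two goodF4 baseF4 6 (by decide +kernel) (by decide +kernel)
    (fun z hz => signs_of_brute goodF4 baseF4 signF4 hz)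

theorem baseD4 : baseCheck' certD4 Cfsg.Lie.chevD4 4 = true := by decide +kernel

theorem signD4 : linkCheck certD4 Cfsg.Lie.chevD4 [] [1, 0, 2, 3] = true := by decide +kernel

theorem centerD4 : Nat.card (Subgroup.center Cfsg.Lie.coxeterD4.Group) = 2 ∧
    Subgroup.center Cfsg.Lie.coxeterD4.Group ≤
      Subgroup.zpowers ((List.finRange 4).map Cfsg.Lie.coxeterD4.simple).prod :=
  center_two goodD4 baseD4 3 (by decide +kernel) (by decide +kernel)
    (fun z hz => signs_of_link goodD4 baseD4 hz [1, 0, 2, 3] signD4 (by decide) (by decide))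

theorem baseE6 : baseCheck' certE6 Cfsg.Lie.chevE6 6 = true := by decide +kernel

theorem signE6 : linkCheck certE6 Cfsg.Lie.chevE6 [] [0, 2, 3, 1, 4, 5] = true := by decide +kernel

theorem centerE6 : Nat.card (Subgroup.center CoxeterMatrix.E₆.Group) = 1 ∧
    Subgroup.center CoxeterMatrix.E₆.Group ≤
      Subgroup.zpowers ((List.finRange 6).map CoxeterMatrix.E₆.simple).prod :=
  center_one goodE6 baseE6 degsE6 (by decide)
    [0, 1, 2, 0, 3, 1, 2, 0, 3, 2, 4, 3, 1, 2, 0, 3, 2, 4, 3, 1, 5, 4, 3, 1, 2, 0, 3, 2, 4, 3, 1, 5, 4, 3, 2, 0]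
    (by decide) (by decide +kernel) (by decide +kernel)
    (fun z hz => signs_of_link goodE6 baseE6 hz [0, 2, 3, 1, 4, 5] signE6 (by decide) (by decide))

theorem baseE7 : baseCheck' certE7 Cfsg.Lie.chevE7 7 = true := by decide +kernel

theorem signE7 : linkCheck certE7 Cfsg.Lie.chevE7 [] [0, 2, 3, 1, 4, 5, 6] = true := by decide +kernel

theorem centerE7 : Nat.card (Subgroup.center CoxeterMatrix.E₇.Group) = 2 ∧
    Subgroup.center CoxeterMatrix.E₇.Group ≤
      Subgroup.zpowers ((List.finRange 7).map CoxeterMatrix.E₇.simple).prod :=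
  center_two goodE7 baseE7 9 (by decide +kernel) (by decide +kernel)
    (fun z hz => signs_of_link goodE7 baseE7 hz [0, 2, 3, 1, 4, 5, 6] signE7 (by decide) (by decide))

theorem baseE8 : baseCheck' certE8 Cfsg.Lie.chevE8 8 = true := by decide +kernel

theorem signE8 : linkCheck certE8 Cfsg.Lie.chevE8 [] [0, 2, 3, 1, 4, 5, 6, 7] = true := by decide +kernel

theorem centerE8 : Nat.card (Subgroup.center CoxeterMatrix.E₈.Group) = 2 ∧
    Subgroup.center CoxeterMatrix.E₈.Group ≤
      Subgroup.zpowers ((List.finRange 8).map CoxeterMatrix.E₈.simple).prod :=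
  center_two goodE8 baseE8 15 (by decide +kernel) (by decide +kernel)
    (fun z hz => signs_of_link goodE8 baseE8 hz [0, 2, 3, 1, 4, 5, 6, 7] signE8 (by decide) (by decide))

end Cfsg.Agent.H54.WeylCenter
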